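import Groth.Agent.SpectralTopology.Spectral
import Mathlib.AlgebraicGeometry.Morphisms.QuasiSeparated
import Mathlib.AlgebraicGeometry.Properties

/-! The constructible topology on a quasi-separated scheme. -/

set_option autoImplicit false
set_option linter.unusedSectionVars false
universe u

open AlgebraicGeometry CategoryTheory Topology TopologicalSpace Set

namespace Groth.EGA41Two

open Groth.SpectralTopology

theorem isConstructible_of_isClopen_ct {X : Type*} [TopologicalSpace X] [SpectralSpace X] {E : Set X}
    (hE : @IsClopen X (constructibleTopology X) E) : IsConstructible E := by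
  have hsub : ∀ s ∈ constructibleTopologySubbasis X, IsConstructible s := by
    rintro s (⟨ho, hc⟩ | ⟨hcl, hc⟩)
    · exact hc.isConstructible ho
    · simpa using (hc.isConstructible hcl.isOpen_compl).compl
  have hb := @isTopologicalBasis_of_subbasis X (constructibleTopology X) _ (rfl : constructibleTopology X = _)
  have hc : @IsCompact X (constructibleTopology X) E := isCompact_ct_of_isClosed_ct hE.1
  obtain ⟨s, hs, hEs⟩ := @IsTopologicalBasis.open_eq_sUnion X (constructibleTopology X) _ hb _ hE.2
  obtain ⟨t, ht⟩ := @IsCompact.elim_finite_subcover X (constructibleTopology X) E s hc (fun i => i.1)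
    (fun i => @IsTopologicalBasis.isOpen X (constructibleTopology X) _ _ hb (hs i.2))
    (by rw [hEs, sUnion_eq_iUnion])
  have he : E = ⋃ i ∈ t, i.1 := Subset.antisymm ht (iUnion₂_subset fun i _ => hEs ▸ subset_sUnion_of_mem i.2)
  rw [he]
  refine IsConstructible.biUnion t.finite_toSet fun i _ => ?_
  obtain ⟨f, ⟨hf, hfs⟩, hfi⟩ := hs i.2
  rw [← hfi]
  exact IsConstructible.sInter hf fun x hx => hsub x (hfs hx)

variable {X : Scheme.{u}} [QuasiSeparatedSpace X]

theorem isSpectralMap_opens (U : X.Opens) (hU : IsAffineOpen U) :
    IsSpectralMap (fun x : ↥(U : Set X) => x.1) := by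
  refine ⟨continuous_subtype_val, fun s ho hc => ?_⟩
  rw [Subtype.isCompact_iff, Subtype.image_preimage_coe]
  exact QuasiSeparatedSpace.inter_isCompact _ _ U.2 hU.isCompact ho hc

theorem spectralSpace_opens (U : X.Opens) (hU : IsAffineOpen U) : SpectralSpace (U : Set X) := by
  have : IsAffine U.toScheme := hU
  have : QuasiSeparatedSpace U.toScheme := inferInstance
  have : CompactSpace U.toScheme := isCompact_iff_compactSpace.mp hU.isCompact
  exact @SpectralSpace.mk U.toScheme _ inferInstance inferInstance inferInstance inferInstance inferInstance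

theorem isCompact_ct_opens (U : X.Opens) (hU : IsAffineOpen U) {C : Set (U : Set X)}
    (hC : IsClosed[constructibleTopology (U : Set X)] C) :
    @IsCompact X (constructibleTopology X) (Subtype.val '' C) := by
  have := spectralSpace_opens U hU
  exact @IsCompact.image _ _ (constructibleTopology (U : Set X)) (constructibleTopology X) C _
    (isCompact_ct_of_isClosed_ct hC) (continuous_ct (isSpectralMap_opens U hU))

theorem isClosed_ct_image_opens (U : X.Opens) (hU : IsAffineOpen U) {C : Set (U : Set X)}
    (hC : IsClosed[constructibleTopology (U : Set X)] C) :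
    IsClosed[constructibleTopology X] (Subtype.val '' C) :=
  @IsCompact.isClosed X (constructibleTopology X) t2Space_ct _ (isCompact_ct_opens U hU hC)

theorem isLocallyConstructible_compl {Y : Type*} [TopologicalSpace Y] {E : Set Y} (hE : IsLocallyConstructible E) :
    IsLocallyConstructible Eᶜ := fun y => by
  obtain ⟨U, hU, hU', hc⟩ := hE y
  exact ⟨U, hU, hU', by simpa using hc.compl⟩

theorem isOpen_ct_of_isLocallyConstructible {E : Set X} (hE : IsLocallyConstructible E) :
    IsOpen[constructibleTopology X] E := by
  refine (@isOpen_iff_forall_mem_open X (constructibleTopology X) E).mpr fun x hx => ?_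
  obtain ⟨U, hU, hxU, -⟩ := exists_isAffineOpen_mem_and_subset (X := X) (U := ⊤) (mem_univ x)
  have := spectralSpace_opens U hU
  have hc : IsConstructible (Subtype.val ⁻¹' E : Set (U : Set X)) :=
    (hE.preimage_of_isOpenEmbedding U.2.isOpenEmbedding_subtypeVal).isConstructible
  have hcl := isClosed_ct_image_opens U hU (isClopen_ct_of_isConstructible hc.compl).1
  refine ⟨(U : Set X) ∩ (Subtype.val '' (Subtype.val ⁻¹' E : Set (U : Set X))ᶜ)ᶜ, ?_, ?_, hxU, ?_⟩
  · rintro y ⟨hyU, hy⟩
    by_contra hyE
    exact hy ⟨⟨y, hyU⟩, hyE, rfl⟩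
  · exact @IsOpen.inter X (constructibleTopology X) _ _ (isOpen_ct U.2 hU.isCompact)
      ((@isOpen_compl_iff X _ (constructibleTopology X)).mpr hcl)
  · rintro ⟨y, hy, hyx⟩
    exact hy (show (y : X) ∈ E by rw [hyx]; exact hx)

theorem isLocallyConstructible_iff_isClopen_ct {E : Set X} :
    IsLocallyConstructible E ↔ @IsClopen X (constructibleTopology X) E := by
  constructor
  · intro hE
    exact ⟨(@isOpen_compl_iff X _ (constructibleTopology X)).mp (isOpen_ct_of_isLocallyConstructible (isLocallyConstructible_compl hE)),
      isOpen_ct_of_isLocallyConstructible hE⟩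
  · intro hE x
    obtain ⟨U, hU, hxU, -⟩ := exists_isAffineOpen_mem_and_subset (X := X) (U := ⊤) (mem_univ x)
    have := spectralSpace_opens U hU
    exact ⟨U, U.2.mem_nhds hxU, U.2, isConstructible_of_isClopen_ct
      (@IsClopen.preimage _ _ (constructibleTopology (U : Set X)) (constructibleTopology X) _ hE _
        (continuous_ct (isSpectralMap_opens U hU)))⟩

theorem exists_isCompact_nhds_ct (x : X) :
    ∃ K : Set X, IsOpen[constructibleTopology X] K ∧ x ∈ K ∧ @IsCompact X (constructibleTopology X) K := by
  obtain ⟨U, hU, hxU, -⟩ := exists_isAffineOpen_mem_and_subset (X := X) (U := ⊤) (mem_univ x)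
  refine ⟨U, isOpen_ct U.2 hU.isCompact, hxU, ?_⟩
  simpa using isCompact_ct_opens U hU (C := univ) (@isClosed_univ _ (constructibleTopology (U : Set X)))

end Groth.EGA41Two
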