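import Groth.Agent.LocCohBase.CM
import Mathlib.RingTheory.KrullDimension.Regular

/-! Cohen-Macaulay modules and a prime of the support. -/

universe u

open IsLocalRing RingTheory.Sequence Groth.LocCohBase

namespace Groth.EGA41Two

variable {R : Type u} [CommRing R] [IsLocalRing R] [IsNoetherianRing R]
variable {M : Type u} [AddCommGroup M] [Module R M] [Module.Finite R M]

/-- `dim M_p` is the depth of `M` along `p` for a Cohen–Macaulay module. -/
theorem supportDim_localized_eq_idealDepth (n : ℕ) :
    ∀ (M : Type u) [AddCommGroup M] [Module R M] [Module.Finite R M],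
      LocCoh.IsCohenMacaulayModule R M → ∀ (p : Ideal R) [p.IsPrime],
        Nontrivial (LocalizedModule p.primeCompl M) → LocCoh.idealDepth p M = n →
        Module.supportDim (Localization.AtPrime p) (LocalizedModule p.primeCompl M) = (n : WithBot ℕ∞) := by
  induction n with
  | zero =>
    intro M _ _ _ h p _ hnt hn
    have : Nontrivial M := nontrivial_of_CM h
    have hp : p ∈ associatedPrimes R M := by
      have h1 : ¬ (1 : ℕ∞) ≤ LocCoh.idealDepth p M := by rw [hn]; simp
      rw [one_le_idealDepth_iff] at h1
      push Not at h1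
      obtain ⟨q, hq, hle⟩ := h1
      have hpann : Module.annihilator R M ≤ p :=
        Module.mem_support_iff_of_finite.1 (Module.mem_support_iff.2 hnt : (⟨p, inferInstance⟩ : PrimeSpectrum R) ∈ _)
      have hqp : q ≤ p := (mem_minimalPrimes_of_CM h hq).2 ⟨inferInstance, hpann⟩ hle
      exact le_antisymm hle hqp ▸ hq
    obtain ⟨d, hd⟩ := exists_depth_eq (R := R) M
    rw [show Module.supportDim _ _ = _ from isCM_localized d M h hd p hnt]
    have h0 : ¬ (1 : ℕ∞) ≤ LocCoh.depth (Localization.AtPrime p) (LocalizedModule p.primeCompl M) := by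
      rw [one_le_depth_localized_iff]
      exact fun h' => h' hp
    rw [Order.lt_one_iff.1 (not_le.1 h0)]
    rfl
  | succ n ih =>
    intro M _ _ _ h p _ hnt hn
    have : Nontrivial M := nontrivial_of_CM h
    have hpt : p ≠ ⊤ := Ideal.IsPrime.ne_top inferInstance
    obtain ⟨x, hx, hreg⟩ := exists_regular_of_one_le (smul_maximalIdeal_ne_top M hpt) (I := p) (by
      rw [hn]; exact_mod_cast Nat.succ_pos n)
    have hxm : x ∈ maximalIdeal R := IsLocalRing.le_maximalIdeal hpt hx
    have hd : LocCoh.idealDepth p (QuotSMulTop x M) = n := by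
      have := idealDepth_quotSMulTop_add_one p M (smul_maximalIdeal_ne_top M hpt) hx hreg
      rw [hn, Nat.cast_succ] at this
      exact ((ENat.addLECancellable_of_ne_top (by simp : (1 : ℕ∞) ≠ ⊤)).inj_left).1 this
    have hxpm : algebraMap R (Localization.AtPrime p) x ∈ maximalIdeal (Localization.AtPrime p) :=
      (IsLocalization.AtPrime.to_map_mem_maximal_iff (Localization.AtPrime p) p x).2 hx
    have hregp : IsSMulRegular (LocalizedModule p.primeCompl M) (algebraMap R (Localization.AtPrime p) x) := by
      have := RingTheory.Sequence.IsWeaklyRegular.of_isLocalizedModule (Localization.AtPrime p)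
        p.primeCompl (LocalizedModule.mkLinearMap p.primeCompl M) (rs := [x])
        ((isWeaklyRegular_singleton_iff _ _).2 hreg)
      exact (isWeaklyRegular_singleton_iff _ _).1 this
    let e := quotSMulTopLocalizedEquiv p M x
    have : Nontrivial (LocalizedModule p.primeCompl (QuotSMulTop x M)) := by
      rw [← not_subsingleton_iff_nontrivial, ← e.toEquiv.subsingleton_congr,
        Submodule.Quotient.subsingleton_iff]
      intro heq
      exact Submodule.top_ne_pointwise_smul_of_mem_jacobson_annihilator
        (maximalIdeal_le_jacobson _ hxpm) heq.symm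
    have h1 := Module.supportDim_quotSMulTop_succ_eq_supportDim hregp hxpm
    rw [Module.supportDim_eq_of_equiv e, ih _ (isCM_quotSMulTop h hxm hreg) p this hd] at h1
    rw [← h1, Nat.cast_succ]

theorem isCM_of_equiv {N : Type u} [AddCommGroup N] [Module R N] [Module.Finite R N] (e : M ≃ₗ[R] N)
    (h : LocCoh.IsCohenMacaulayModule R M) : LocCoh.IsCohenMacaulayModule R N := by
  change Module.supportDim R N = _
  rw [← Module.supportDim_eq_of_equiv e, show LocCoh.depth R N = LocCoh.depth R M from (idealDepth_congr e).symm]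
  exact h

theorem isCM_quotient_ofList : ∀ (xs : List R) (M : Type u) [AddCommGroup M] [Module R M] [Module.Finite R M],
    LocCoh.IsCohenMacaulayModule R M → (∀ x ∈ xs, x ∈ maximalIdeal R) → IsWeaklyRegular M xs →
      LocCoh.IsCohenMacaulayModule R (M ⧸ (Ideal.ofList xs • (⊤ : Submodule R M))) := by
  intro xs
  induction xs with
  | nil =>
    intro M _ _ _ h _ _
    exact isCM_of_equiv (Submodule.quotEquivOfEqBot _ (by simp)).symm h
  | cons x xs ih =>
    intro M _ _ _ h hmem hreg
    rw [isWeaklyRegular_cons_iff] at hreg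
    simp only [List.mem_cons, forall_eq_or_imp] at hmem
    exact isCM_of_equiv (Submodule.quotOfListConsSMulTopEquivQuotSMulTopInner M x xs).symm
      (ih _ (isCM_quotSMulTop h hmem.1 hreg.1) hmem.2 hreg.2)

theorem supportDim_quotient_ofList {xs : List R} [Nontrivial M] (hmem : ∀ x ∈ xs, x ∈ maximalIdeal R)
    (hreg : IsWeaklyRegular M xs) :
    Module.supportDim R (M ⧸ (Ideal.ofList xs • (⊤ : Submodule R M))) + (xs.length : WithBot ℕ∞) =
      Module.supportDim R M :=
  Module.supportDim_add_length_eq_supportDim_of_isRegular xs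
    (isRegular_of_isWeaklyRegular_of_mem (smul_maximalIdeal_ne_top M (maximalIdeal.isMaximal R).ne_top) hreg hmem)

theorem supportDim_quotient_smul_top (p : PrimeSpectrum R) (hp : p ∈ Module.support R M) :
    Module.supportDim R (M ⧸ (p.asIdeal • (⊤ : Submodule R M))) = ringKrullDim (R ⧸ p.asIdeal) := by
  rw [← Module.supportDim_quotient_eq_ringKrullDim]
  have h : Module.support R (M ⧸ (p.asIdeal • (⊤ : Submodule R M))) = Module.support R (R ⧸ p.asIdeal) := by
    rw [Module.support_quotient, Groth.LocCohBase.support_quotient_eq, Set.inter_eq_right]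
    intro q hq
    rw [Module.mem_support_iff_of_finite] at hp ⊢
    exact hp.trans hq
  show Order.krullDim _ = Order.krullDim _
  rw [h]

theorem withBot_add_natCast_inj {a b : WithBot ℕ∞} {n : ℕ} :
    a + (n : WithBot ℕ∞) = b + n ↔ a = b :=
  ENat.WithBot.add_natCast_cancel

theorem withBot_natCast_add_inj {a : WithBot ℕ∞} (ha : a ≠ ⊥) (ha' : a ≠ ⊤) {m n : ℕ}
    (h : a + (m : WithBot ℕ∞) = a + n) : m = n := by
  obtain ⟨b, rfl⟩ := WithBot.ne_bot_iff_exists.1 ha
  obtain ⟨c, rfl⟩ := ENat.ne_top_iff_exists.1 (fun hb : b = ⊤ => ha' (by rw [hb]; rfl))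
  norm_cast at h
  omega

end Groth.EGA41Two
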