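import Groth.Agent.Ega4Algebra2.RegSeq
import Groth.Prelude.Def_CAlgX
import Mathlib.Algebra.MvPolynomial.Division
import Mathlib.RingTheory.MvPolynomial.Homogeneous

/-! Regular sequences are quasi-regular. -/

universe u

open MvPolynomial RingTheory.Sequence

namespace Groth.EGA41Two

variable {A : Type u} [CommRing A] {c : ℕ}

/-- The ideal generated by the first `k` elements. -/
def headSpan (f : Fin c → A) (k : ℕ) : Ideal A := Ideal.span (f '' {i | (i : ℕ) < k})

/-- Homogeneous of degree `n` in the first `k` variables. -/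
def IsForm (k n : ℕ) (P : MvPolynomial (Fin c) A) : Prop :=
  P.IsHomogeneous n ∧ ∀ d, P.coeff d ≠ 0 → ∀ i : Fin c, k ≤ (i : ℕ) → d i = 0

theorem IsForm.add {k n : ℕ} {P Q : MvPolynomial (Fin c) A} (hP : IsForm k n P) (hQ : IsForm k n Q) :
    IsForm k n (P + Q) := by
  refine ⟨hP.1.add hQ.1, fun d hd i hi => ?_⟩
  by_cases h : P.coeff d = 0
  · refine hQ.2 d (fun h' => hd ?_) i hi
    rw [coeff_add, h, h', add_zero]
  · exact hP.2 d h i hi

theorem IsForm.C_mul {k n : ℕ} {P : MvPolynomial (Fin c) A} (hP : IsForm k n P) (a : A) :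
    IsForm k n (C a * P) := by
  refine ⟨hP.1.C_mul a, fun d hd => hP.2 d fun h => hd ?_⟩
  rw [coeff_C_mul, h, mul_zero]

theorem isForm_zero (k n : ℕ) : IsForm k n (0 : MvPolynomial (Fin c) A) :=
  ⟨isHomogeneous_zero _ _ _, fun d hd => absurd (coeff_zero d) hd⟩

theorem isForm_one (k : ℕ) : IsForm k 0 (1 : MvPolynomial (Fin c) A) := by
  classical
  refine ⟨isHomogeneous_one _ _, fun d hd i _ => ?_⟩
  rw [coeff_one] at hd
  by_cases h : 0 = d
  · rw [← h]; rfl
  · exact absurd (if_neg h) hd

theorem IsForm.X_mul {k n : ℕ} {P : MvPolynomial (Fin c) A} (hP : IsForm k n P) {i : Fin c}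
    (hi : (i : ℕ) < k) : IsForm k (n + 1) (X i * P) := by
  classical
  refine ⟨add_comm 1 n ▸ (isHomogeneous_X A i).mul hP.1, fun d hd j hj => ?_⟩
  rw [coeff_X_mul'] at hd
  split_ifs at hd with h
  · have hj' := hP.2 _ hd j hj
    have hij : i ≠ j := fun h' => by subst h'; omega
    simpa [hij] using hj'
  · exact absurd rfl hd

/-- Powers of `headSpan` are values of forms, with coefficients in any given ideal factor. -/
theorem exists_form (f : Fin c → A) (J : Ideal A) (k : ℕ) :
    ∀ (n : ℕ) (a : A), a ∈ J * headSpan f k ^ n →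
      ∃ P, IsForm k n P ∧ (∀ d, P.coeff d ∈ J) ∧ eval f P = a := by
  classical
  intro n
  induction n with
  | zero =>
    intro a ha
    rw [pow_zero, Ideal.one_eq_top, Ideal.mul_top] at ha
    refine ⟨C a * 1, (isForm_one k).C_mul a, fun d => ?_, by simp⟩
    rw [coeff_C_mul]
    exact Ideal.mul_mem_right _ _ ha
  | succ n ih =>
    intro a ha
    rw [pow_succ, ← mul_assoc] at ha
    refine Submodule.mul_induction_on ha ?_ ?_
    · intro b hb y hy
      obtain ⟨P, hP, hPJ, rfl⟩ := ih b hb
      rw [headSpan] at hy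
      refine Submodule.span_induction ?_ ?_ ?_ ?_ hy
      · rintro _ ⟨i, hi, rfl⟩
        refine ⟨X i * P, hP.X_mul hi, fun d => ?_, by simp [mul_comm]⟩
        rw [coeff_X_mul']
        split_ifs
        exacts [hPJ _, zero_mem _]
      · exact ⟨0, isForm_zero _ _, fun d => by simp, by simp⟩
      · rintro y z - - ⟨Q, hQ, hQJ, hQe⟩ ⟨R, hR, hRJ, hRe⟩
        exact ⟨Q + R, hQ.add hR, fun d => by rw [coeff_add]; exact add_mem (hQJ d) (hRJ d),
          by rw [map_add, hQe, hRe, mul_add]⟩
      · rintro r y - ⟨Q, hQ, hQJ, hQe⟩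
        exact ⟨C r * Q, hQ.C_mul r, fun d => by rw [coeff_C_mul]; exact Ideal.mul_mem_left _ _ (hQJ d),
          by rw [map_mul, eval_C, hQe, smul_eq_mul]; ring⟩
    · rintro y z ⟨Q, hQ, hQJ, hQe⟩ ⟨R, hR, hRJ, hRe⟩
      exact ⟨Q + R, hQ.add hR, fun d => by rw [coeff_add]; exact add_mem (hQJ d) (hRJ d),
        by rw [map_add, hQe, hRe]⟩

theorem eval_mem_pow (f : Fin c → A) {k n : ℕ} {P : MvPolynomial (Fin c) A} (hP : IsForm k n P) :
    eval f P ∈ headSpan f k ^ n := by
  classical
  rw [eval_eq']
  refine Ideal.sum_mem _ fun d hd => Ideal.mul_mem_left _ _ ?_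
  have hne := mem_support_iff.mp hd
  have hdeg : ∑ i, d i = n := by
    rw [← hP.1 hne]
    simp [Finsupp.weight_apply, Finsupp.sum_fintype]
  rw [← hdeg]
  generalize (Finset.univ : Finset (Fin c)) = s
  induction s using Finset.induction_on with
  | empty => simp
  | insert i s his ih =>
    rw [Finset.prod_insert his, Finset.sum_insert his, pow_add]
    refine Ideal.mul_mem_mul ?_ ih
    rcases lt_or_ge (i : ℕ) k with hi | hi
    · exact Ideal.pow_mem_pow (I := headSpan f k) (show f i ∈ headSpan f k from Ideal.subset_span ⟨i, hi, rfl⟩) (d i)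
    · simp [hP.2 d hne i hi]

theorem headSpan_mono (f : Fin c → A) {k l : ℕ} (h : k ≤ l) : headSpan f k ≤ headSpan f l :=
  Ideal.span_mono (Set.image_mono fun _ hi => lt_of_lt_of_le hi h)

theorem coeff_mem_of_eval_eq_zero (f : Fin c → A) (hf : IsWeaklyRegular A (List.ofFn f)) :
    ∀ k ≤ c, ∀ (n : ℕ) (P : MvPolynomial (Fin c) A), IsForm k n P → eval f P = 0 →
      ∀ d, P.coeff d ∈ headSpan f k := by
  classical
  intro k
  induction k with
  | zero =>
    intro _ n P hP he d
    by_cases hd : P.coeff d = 0
    · rw [hd]; exact zero_mem _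
    have hd0 : d = 0 := Finsupp.ext fun i => hP.2 d hd i (Nat.zero_le _)
    subst hd0
    have hP0 : P = C (P.coeff 0) := by
      ext e
      rw [coeff_C]
      split_ifs with he'
      · rw [he']
      · by_contra hne
        exact he' (Finsupp.ext fun i => (hP.2 e hne i (Nat.zero_le _)).symm)
    rw [hP0, eval_C] at he
    exact absurd he hd
  | succ k ihk =>
    intro hk
    have hIH := ihk (Nat.le_of_succ_le hk)
    let x := f ⟨k, hk⟩
    have hreg : ∀ m, IsSMulRegular (A ⧸ (headSpan f k ^ m • (⊤ : Submodule A A))) x := by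
      intro m
      have hsplit : List.ofFn f = (List.ofFn f).take k ++ (List.ofFn f).drop k := (List.take_append_drop _ _).symm
      rw [hsplit] at hf
      have h := Groth.Ega4b.isWeaklyRegular_quot_pow A _ _ hf m
      have hd : (List.ofFn f).drop k = x :: (List.ofFn f).drop (k + 1) := by
        rw [List.drop_eq_getElem_cons (by simpa using hk)]
        simp [x]
      rw [hd, isWeaklyRegular_cons_iff] at h
      have hI : Ideal.ofList ((List.ofFn f).take k) = headSpan f k := by
        apply le_antisymm
        · refine Ideal.span_le.mpr fun a ha => ?_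
          obtain ⟨i, hi, rfl⟩ := List.mem_take_iff_getElem.mp ha
          simp only [lt_min_iff, List.length_ofFn] at hi
          refine Ideal.subset_span ⟨⟨i, hi.2⟩, hi.1, by simp⟩
        · refine Ideal.span_mono ?_
          rintro _ ⟨i, hi, rfl⟩
          exact List.mem_take_iff_getElem.mpr ⟨i, lt_min hi (by simp), by simp⟩
      rw [hI] at h
      exact h.1
    have hmem : ∀ (m : ℕ) (y : A), x * y ∈ headSpan f k ^ m → y ∈ headSpan f k ^ m := by
      intro m y hy
      have h0 : x • (Submodule.Quotient.mk y : A ⧸ (headSpan f k ^ m • (⊤ : Submodule A A))) = 0 := by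
        rw [← Submodule.Quotient.mk_smul, Submodule.Quotient.mk_eq_zero]
        simpa using hy
      have h1 := (hreg m).right_eq_zero_of_smul h0
      rw [Submodule.Quotient.mk_eq_zero] at h1
      simpa using h1
    have hxJ : x ∈ headSpan f (k + 1) := Ideal.subset_span ⟨⟨k, hk⟩, Nat.lt_succ_self k, rfl⟩
    intro n
    induction n with
    | zero =>
      intro P hP he d
      have hP0 : P = C (P.coeff 0) := totalDegree_eq_zero_iff_eq_C.mp (Nat.le_zero.mp hP.1.totalDegree_le)
      rw [hP0, eval_C] at he
      rw [hP0, coeff_C]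
      split_ifs
      · rw [he]; exact zero_mem _
      · exact zero_mem _
    | succ n ihn =>
      intro P hP he
      let e : Fin c →₀ ℕ := Finsupp.single ⟨k, hk⟩ 1
      let S := P.divMonomial e
      let R := P.modMonomial e
      have hdec : X ⟨k, hk⟩ * S + R = P := P.divMonomial_add_modMonomial_single ⟨k, hk⟩
      have hS : IsForm (k + 1) n S := by
        refine ⟨fun d hd => ?_, fun d hd i hi => ?_⟩
        · rw [coeff_divMonomial] at hd
          have h := hP.1 hd
          rw [map_add] at h
          have : Finsupp.weight (1 : Fin c → ℕ) e = 1 := by simp [e, Finsupp.weight_single]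
          change Finsupp.weight (1 : Fin c → ℕ) d = n
          omega
        · rw [coeff_divMonomial] at hd
          have h := hP.2 _ hd i hi
          simp only [Finsupp.add_apply] at h
          omega
      have hR : IsForm k (n + 1) R := by
        refine ⟨fun d hd => ?_, fun d hd i hi => ?_⟩ <;> by_cases hle : e ≤ d
        · exact absurd (coeff_modMonomial_of_le P hle) hd
        · exact hP.1 (by rwa [← coeff_modMonomial_of_not_le P hle])
        · exact absurd (coeff_modMonomial_of_le P hle) hd
        · rw [coeff_modMonomial_of_not_le P hle] at hd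
          rcases Nat.eq_or_lt_of_le hi with h | h
          · have hik : i = ⟨k, hk⟩ := Fin.ext h.symm
            subst hik
            by_contra hne
            exact hle (Finsupp.single_le_iff.mpr (Nat.one_le_iff_ne_zero.mpr hne))
          · exact hP.2 d hd i h
      have hevSR : x * eval f S + eval f R = 0 := by
        rw [← he, ← hdec, map_add, map_mul, eval_X]
      have hSI : eval f S ∈ headSpan f k ^ (n + 1) := by
        refine hmem _ _ ?_
        rw [eq_neg_of_add_eq_zero_left hevSR]
        exact neg_mem (eval_mem_pow f hR)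
      obtain ⟨H, hH, -, hHe⟩ := exists_form f ⊤ k (n + 1) (eval f S) (by rw [Ideal.top_mul]; exact hSI)
      have hScoef : ∀ d, S.coeff d ∈ headSpan f (k + 1) := by
        have hS1 : eval f S ∈ headSpan f (k + 1) * headSpan f (k + 1) ^ n := by
          rw [← pow_succ']
          exact Ideal.pow_right_mono (headSpan_mono f (Nat.le_succ k)) _ hSI
        obtain ⟨S', hS', hS'J, hS'e⟩ := exists_form f _ _ n _ hS1
        intro d
        have hdiff := ihn (S + C (-1) * S') (hS.add (hS'.C_mul _)) (by simp [hS'e]) d
        rw [coeff_add, coeff_C_mul] at hdiff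
        have := add_mem hdiff (hS'J d)
        simpa using this
      intro d
      rw [← hdec, coeff_add]
      refine add_mem ?_ ?_
      · rw [coeff_X_mul']
        split_ifs
        exacts [hScoef _, zero_mem _]
      · have h := hIH (n + 1) (R + C x * H) (hR.add (hH.C_mul _))
          (by rw [map_add, map_mul, eval_C, hHe, add_comm]; exact hevSR) d
        rw [coeff_add, coeff_C_mul] at h
        have := sub_mem (headSpan_mono f (Nat.le_succ k) h) (Ideal.mul_mem_right (H.coeff d) _ hxJ)
        simpa using this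

theorem isQuasiRegular_of_isWeaklyRegular (f : Fin c → A) (hf : IsWeaklyRegular A (List.ofFn f)) :
    CAlgX.IsQuasiRegular f := by
  have hspan : headSpan f c = Ideal.span (Set.range f) := by
    rw [headSpan, show {i : Fin c | (i : ℕ) < c} = Set.univ from Set.eq_univ_of_forall fun i => i.2,
      Set.image_univ]
  intro n P hP he d
  rw [← hspan] at he ⊢
  rw [pow_succ'] at he
  obtain ⟨Q, hQ, hQJ, hQe⟩ := exists_form f _ c n _ he
  have hPf : IsForm c n P := ⟨hP, fun _ _ i hi => absurd i.2 (not_lt.mpr hi)⟩
  have h := coeff_mem_of_eval_eq_zero f hf c le_rfl n (P + C (-1) * Q) (hPf.add (hQ.C_mul _)) (by simp [hQe]) d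
  rw [coeff_add, coeff_C_mul] at h
  simpa using add_mem h (hQJ d)

end Groth.EGA41Two
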