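import Groth.Agent.Ega4Algebra1.RegularLocal
import Mathlib.RingTheory.RegularLocalRing.Defs
import Mathlib.RingTheory.Localization.AtPrime.Basic
import Mathlib.RingTheory.Ideal.Quotient.Operations
import Mathlib.RingTheory.Jacobson.Ideal

/-! Lifting regularity along a regular element of the Jacobson radical. -/

universe u

open IsLocalRing

namespace Groth.EGA41Two

variable {S A : Type u} [CommRing S] [CommRing A]

theorem isRegularRing_of_forall_maximal [IsNoetherianRing S]
    (h : ∀ (M : Ideal S) [M.IsMaximal], IsRegularLocalRing (Localization.AtPrime M)) : IsRegularRing S := by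
  refine isRegularRing_iff.mpr fun p hp => ?_
  obtain ⟨M, hM, hpM⟩ := Ideal.exists_le_maximal p hp.ne_top
  have := h M
  let P := p.map (algebraMap S (Localization.AtPrime M))
  have hdisj : Disjoint (M.primeCompl : Set S) p := Set.disjoint_left.mpr fun s hs hsp => hs (hpM hsp)
  have : P.IsPrime := IsLocalization.isPrime_of_isPrime_disjoint M.primeCompl _ p hp hdisj
  have hc : P.comap (algebraMap S (Localization.AtPrime M)) = p :=
    IsLocalization.under_map_of_isPrime_disjoint M.primeCompl _ hp hdisj
  have : IsLocalization.AtPrime (Localization.AtPrime P) p := by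
    convert IsLocalization.isLocalization_isLocalization_atPrime_isLocalization M.primeCompl
      (Localization.AtPrime P) P
    exact hc.symm
  have := Groth.Ega4Algebra1.isRegularLocalRing_localization_atPrime (Localization.AtPrime M) P
  exact IsRegularLocalRing.of_ringEquiv (IsLocalization.algEquiv p.primeCompl
    (Localization.AtPrime P) (Localization.AtPrime p)).toRingEquiv

theorem isRegularLocalRing_of_surjective [IsNoetherianRing S] (π : S →+* A) (hπ : Function.Surjective π)
    {x : S} (hker : RingHom.ker π = Ideal.span {x}) (hreg : x ∈ nonZeroDivisors S) (m : Ideal A) [m.IsPrime]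
    [IsRegularLocalRing (Localization.AtPrime m)] (M : Ideal S) [M.IsPrime] (hM : M = m.comap π) :
    IsRegularLocalRing (Localization.AtPrime M) := by
  have hmem : ∀ {t : S}, π t ∈ m.primeCompl → t ∈ M.primeCompl := fun {t} ht h => ht (by
    rw [hM] at h; exact h)
  let g := Localization.localRingHom M m π hM
  let x' := algebraMap S (Localization.AtPrime M) x
  have hg : Function.Surjective g := by
    intro z
    obtain ⟨a, ⟨t, ht⟩, rfl⟩ := IsLocalization.exists_mk'_eq m.primeCompl z
    obtain ⟨a, rfl⟩ := hπ a
    obtain ⟨t, rfl⟩ := hπ t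
    exact ⟨IsLocalization.mk' _ a (⟨t, hmem ht⟩ : M.primeCompl), Localization.localRingHom_mk' M m π hM a _⟩
  have hker' : RingHom.ker g = Ideal.span {x'} := by
    refine le_antisymm (fun z hz => ?_) ((Ideal.span_singleton_le_iff_mem _).mpr ?_)
    · obtain ⟨a, t, rfl⟩ := IsLocalization.exists_mk'_eq M.primeCompl z
      rw [RingHom.mem_ker, Localization.localRingHom_mk', IsLocalization.mk'_eq_zero_iff] at hz
      obtain ⟨⟨u, hu⟩, hua⟩ := hz
      obtain ⟨u, rfl⟩ := hπ u
      have h1 : u * a ∈ Ideal.span {x} := by rw [← hker, RingHom.mem_ker, map_mul]; exact hua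
      obtain ⟨c, hc⟩ := Ideal.mem_span_singleton.mp h1
      refine Ideal.mem_span_singleton.mpr ⟨IsLocalization.mk' _ c ((⟨u, hmem hu⟩ : M.primeCompl) * t), ?_⟩
      rw [IsLocalization.mul_mk'_eq_mk'_of_mul, IsLocalization.mk'_eq_iff_eq]
      simp only [Submonoid.coe_mul, map_mul, ← hc]
      ring
    · rw [RingHom.mem_ker, Localization.localRingHom_to_map,
        show π x = 0 from RingHom.mem_ker.mp (hker ▸ Ideal.mem_span_singleton_self x), map_zero]
  let e : (Localization.AtPrime M ⧸ Ideal.span {x'}) ≃+* Localization.AtPrime m :=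
    (Ideal.quotEquivOfEq hker'.symm).trans (RingHom.quotientKerEquivOfSurjective hg)
  have : IsRegularLocalRing (Localization.AtPrime M ⧸ Ideal.span {x'}) := IsRegularLocalRing.of_ringEquiv e.symm
  have hxM : x ∈ M := by
    rw [hM, Ideal.mem_comap, show π x = 0 from RingHom.mem_ker.mp (hker ▸ Ideal.mem_span_singleton_self x)]
    exact zero_mem _
  exact Groth.Ega4Algebra1.isRegularLocalRing_of_quotient_span_singleton
    ((IsLocalization.AtPrime.to_map_mem_maximal_iff (Localization.AtPrime M) M x).2 hxM)
    (IsLocalization.map_nonZeroDivisors_le M.primeCompl _ (Submonoid.mem_map_of_mem _ hreg))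

theorem isRegularRing_of_surjective [IsNoetherianRing S] [IsRegularRing A] (π : S →+* A)
    (hπ : Function.Surjective π) {x : S} (hker : RingHom.ker π = Ideal.span {x}) (hreg : x ∈ nonZeroDivisors S)
    (hjac : x ∈ Ideal.jacobson (⊥ : Ideal S)) : IsRegularRing S := by
  refine isRegularRing_of_forall_maximal fun M hM => ?_
  have hxM : x ∈ M := (Ideal.mem_sInf.mp hjac) ⟨bot_le, hM⟩
  have hle : RingHom.ker π ≤ M := hker ▸ (Ideal.span_singleton_le_iff_mem _).mpr hxM
  have hcm : (M.map π).comap π = M := by
    rw [Ideal.comap_map_of_surjective' π hπ, sup_eq_left.mpr hle]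
  have : (M.map π).IsPrime := Ideal.map_isPrime_of_surjective hπ hle
  exact isRegularLocalRing_of_surjective π hπ hker hreg (M.map π) M hcm.symm

end Groth.EGA41Two
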