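import Groth.Agent.EGA41Two.ConsTop
import Groth.Prelude.Def_ProCons
import Mathlib.AlgebraicGeometry.Morphisms.Affine
import Mathlib.AlgebraicGeometry.Morphisms.FinitePresentation

/-! Pro- and ind-constructible subsets of a scheme, read in the constructible topology of affine opens. -/

set_option autoImplicit false
set_option linter.unusedSectionVars false
universe u

open AlgebraicGeometry CategoryTheory Topology TopologicalSpace Set

namespace Groth.EGA41Two

open Groth.SpectralTopology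

theorem exists_isConstructible_mem_subset {X : Type*} [TopologicalSpace X] [SpectralSpace X] {G : Set X}
    (hG : IsOpen[constructibleTopology X] G) {x : X} (hx : x ∈ G) :
    ∃ C : Set X, IsConstructible C ∧ x ∈ C ∧ C ⊆ G := by
  have hb := @isTopologicalBasis_of_subbasis X (constructibleTopology X) _ (rfl : constructibleTopology X = _)
  obtain ⟨C, ⟨f, ⟨hf, hfs⟩, rfl⟩, hxC, hCG⟩ :=
    @IsTopologicalBasis.exists_subset_of_mem_open X (constructibleTopology X) _ hb x G hx hG
  refine ⟨⋂₀ f, IsConstructible.sInter hf fun s hs => ?_, hxC, hCG⟩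
  rcases hfs hs with ⟨ho, hc⟩ | ⟨hcl, hc⟩
  · exact hc.isConstructible ho
  · simpa using (hc.isConstructible hcl.isOpen_compl).compl

variable {X Y : Scheme.{u}}

theorem spectralSpace_affine (W : X.Opens) (hW : IsAffineOpen W) : SpectralSpace (W : Set X) := by
  have : IsAffine W.toScheme := hW
  have : CompactSpace W.toScheme := isCompact_iff_compactSpace.mp hW.isCompact
  exact @SpectralSpace.mk W.toScheme _ inferInstance inferInstance inferInstance inferInstance inferInstance

/-- `E` is closed for the constructible topology of the affine open `W`. -/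
def ClosedAt (E : Set X) (W : X.Opens) : Prop :=
  IsClosed[constructibleTopology (W : Set X)] (Subtype.val ⁻¹' E : Set (W : Set X))

/-- `E` is closed for the constructible topology of every affine open. -/
def LClosed (E : Set X) : Prop := ∀ W : X.Opens, IsAffineOpen W → ClosedAt E W

theorem isSpectralMap_restrict (f : X ⟶ Y) {V : Y.Opens} (hV : IsAffineOpen V) {W : X.Opens}
    (hW : IsAffineOpen W) (e : W ≤ f ⁻¹ᵁ V) :
    IsSpectralMap (Set.MapsTo.restrict f (W : Set X) (V : Set Y) e) := by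
  have : IsAffine W.toScheme := hW
  have : IsAffine V.toScheme := hV
  have : IsAffineHom (f.resLE V W e) := isAffineHom_of_isAffine _
  have h := (f.resLE V W e).isSpectralMap
  have he : ⇑(f.resLE V W e) = Set.MapsTo.restrict f (W : Set X) (V : Set Y) e := by
    funext y
    apply Subtype.ext
    exact congr($(Scheme.Hom.resLE_comp_ι f e) y)
  exact he ▸ h

theorem ClosedAt.preimage {E : Set Y} (f : X ⟶ Y) {V : Y.Opens} (hV : IsAffineOpen V) {W : X.Opens}
    (hW : IsAffineOpen W) (e : W ≤ f ⁻¹ᵁ V) (h : ClosedAt E V) : ClosedAt (f ⁻¹' E) W :=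
  @IsClosed.preimage _ _ (constructibleTopology (W : Set X)) (constructibleTopology (V : Set Y)) _
    (continuous_ct (isSpectralMap_restrict f hV hW e)) _ h

theorem ClosedAt.mono {E : Set X} {W W' : X.Opens} (hW : IsAffineOpen W) (hW' : IsAffineOpen W') (e : W' ≤ W)
    (h : ClosedAt E W) : ClosedAt E W' :=
  ClosedAt.preimage (𝟙 X) hW hW' e h

/-- Images of `LClosed` sets, covered by finitely many affines. -/
theorem closedAt_of_finite_cover (f : X ⟶ Y) {E : Set Y} {V : Y.Opens} (hV : IsAffineOpen V) {ι : Type*} (t : Finset ι)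
    (W : ι → X.Opens) (hW : ∀ i, IsAffineOpen (W i)) (e : ∀ i, W i ≤ f ⁻¹ᵁ V)
    (hcov : ∀ y ∈ E, y ∈ V → ∃ i ∈ t, ∃ x ∈ W i, f x = y) (h : ∀ i, ClosedAt (f ⁻¹' E) (W i)) :
    ClosedAt E V := by
  have := spectralSpace_affine V hV
  have heq : (Subtype.val ⁻¹' E : Set (V : Set Y)) =
      ⋃ i ∈ t, Set.MapsTo.restrict f (W i : Set X) (V : Set Y) (e i) '' (Subtype.val ⁻¹' (f ⁻¹' E)) := by
    ext ⟨y, hy⟩
    simp only [Set.mem_preimage, Set.mem_iUnion, Set.mem_image]
    constructor
    · intro hyE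
      obtain ⟨i, hi, x, hx, rfl⟩ := hcov y hyE hy
      exact ⟨i, hi, ⟨x, hx⟩, hyE, Subtype.ext rfl⟩
    · rintro ⟨i, -, x, hx, hxy⟩
      rw [← show f x.1 = y from congrArg Subtype.val hxy]
      exact hx
  unfold ClosedAt
  rw [heq]
  refine @isClosed_biUnion_finset _ _ (constructibleTopology (V : Set Y)) t _ fun i _ => ?_
  have := spectralSpace_affine (W i) (hW i)
  exact @IsCompact.isClosed _ (constructibleTopology (V : Set Y)) t2Space_ct _
    (@IsCompact.image _ _ (constructibleTopology (W i : Set X)) (constructibleTopology (V : Set Y)) _ _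
      (isCompact_ct_of_isClosed_ct (h i)) (continuous_ct (isSpectralMap_restrict f hV (hW i) (e i))))

theorem lClosed_of_exists {E : Set X} (h : ∀ x : X, ∃ U : X.Opens, IsAffineOpen U ∧ x ∈ U ∧ ClosedAt E U) :
    LClosed E := by
  intro W hW
  have key : ∀ x : W, ∃ W' : X.Opens, IsAffineOpen W' ∧ x.1 ∈ W' ∧ W' ≤ W ∧ ClosedAt E W' := by
    intro x
    obtain ⟨U, hU, hxU, hc⟩ := h x.1
    obtain ⟨W', hW', hxW', hle⟩ := exists_isAffineOpen_mem_and_subset (U := U ⊓ W) ⟨hxU, x.2⟩
    exact ⟨W', hW', hxW', fun y hy => (hle hy).2, hc.mono hU hW' fun y hy => (hle hy).1⟩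
  choose W' hW' hx hle hc using key
  obtain ⟨t, ht⟩ := hW.isCompact.elim_finite_subcover (fun x : W => (W' x : Set X)) (fun x => (W' x).2)
    fun x hxW => Set.mem_iUnion.mpr ⟨⟨x, hxW⟩, hx ⟨x, hxW⟩⟩
  refine closedAt_of_finite_cover (𝟙 X) hW t W' hW' hle (fun y _ hy => ?_) hc
  obtain ⟨i, hi, hyi⟩ := Set.mem_iUnion₂.mp (ht hy)
  exact ⟨i, hi, y, hyi, rfl⟩

theorem isProConstructible_iff_lClosed {E : Set X} : ProCons.IsProConstructible E ↔ LClosed E := by
  constructor
  · intro hE
    refine lClosed_of_exists fun x => ?_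
    obtain ⟨U, hU, hxU, S, hS, hEU⟩ := hE x
    obtain ⟨W, hW, hxW, hWU⟩ := exists_isAffineOpen_mem_and_subset (X := X) (U := ⟨U, hU⟩) hxU
    have := spectralSpace_affine W hW
    refine ⟨W, hW, hxW, ?_⟩
    let j : ↥(W : Set X) → ↥U := fun y : ↥(W : Set X) => ⟨y.1, hWU y.2⟩
    have hj : IsOpenEmbedding j :=
      IsOpenEmbedding.of_comp j hU.isOpenEmbedding_subtypeVal W.2.isOpenEmbedding_subtypeVal
    unfold ClosedAt
    have e : (Subtype.val ⁻¹' E : Set (W : Set X)) = ⋂ T : S, j ⁻¹' T.1 := by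
      ext y
      have := Set.ext_iff.mp hEU (j y)
      simp only [Set.mem_preimage, Set.mem_sInter] at this
      simp only [Set.mem_preimage, Set.mem_iInter, Subtype.forall]
      exact this
    rw [e]
    exact @isClosed_iInter _ _ (constructibleTopology (W : Set X)) _ fun T =>
      (isClopen_ct_of_isConstructible ((hS T.1 T.2).preimage_of_isOpenEmbedding hj).isConstructible).1
  · intro hE x
    obtain ⟨W, hW, hxW, -⟩ := exists_isAffineOpen_mem_and_subset (X := X) (U := ⊤) (mem_univ x)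
    have := spectralSpace_affine W hW
    refine ⟨W, W.2, hxW, {T : Set (W : Set X) | IsConstructible T ∧ Subtype.val ⁻¹' E ⊆ T},
      fun T hT => hT.1.isLocallyConstructible, ?_⟩
    refine Set.Subset.antisymm (Set.subset_sInter fun T hT => hT.2) fun y hy => ?_
    by_contra hyE
    obtain ⟨C, hC, hyC, hCE⟩ := exists_isConstructible_mem_subset
      ((@isOpen_compl_iff _ _ (constructibleTopology (W : Set X))).mpr (hE W hW)) (x := y) hyE
    exact hy Cᶜ ⟨hC.compl, Set.subset_compl_comm.mp hCE⟩ hyC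

theorem isIndConstructible_iff_lClosed {E : Set X} : ProCons.IsIndConstructible E ↔ LClosed Eᶜ := by
  rw [← isProConstructible_iff_lClosed]
  constructor
  · intro hE x
    obtain ⟨U, hU, hxU, S, hS, hEU⟩ := hE x
    refine ⟨U, hU, hxU, compl '' S, ?_, by rw [Set.preimage_compl, hEU, Set.compl_sUnion]⟩
    rintro _ ⟨T, hT, rfl⟩
    exact isLocallyConstructible_compl (hS T hT)
  · intro hE x
    obtain ⟨U, hU, hxU, S, hS, hEU⟩ := hE x
    refine ⟨U, hU, hxU, compl '' S, ?_, ?_⟩
    · rintro _ ⟨T, hT, rfl⟩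
      exact isLocallyConstructible_compl (hS T hT)
    · rw [← Set.compl_sInter, ← hEU, Set.preimage_compl, compl_compl]

theorem isLocallyConstructible_iff_lClosed {E : Set X} :
    IsLocallyConstructible E ↔ LClosed E ∧ LClosed Eᶜ := by
  constructor
  · intro hE
    have key : ∀ G : Set X, IsLocallyConstructible G → LClosed G := fun G hG W hW => by
      have := spectralSpace_affine W hW
      exact (isClopen_ct_of_isConstructible
        (hG.preimage_of_isOpenEmbedding W.2.isOpenEmbedding_subtypeVal).isConstructible).1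
    exact ⟨key E hE, key _ (isLocallyConstructible_compl hE)⟩
  · rintro ⟨h1, h2⟩ x
    obtain ⟨W, hW, hxW, -⟩ := exists_isAffineOpen_mem_and_subset (X := X) (U := ⊤) (mem_univ x)
    have := spectralSpace_affine W hW
    exact ⟨W, W.2.mem_nhds hxW, W.2, isConstructible_of_isClopen_ct
      ⟨h1 W hW, (@isClosed_compl_iff _ (constructibleTopology (W : Set X)) _).mp (h2 W hW)⟩⟩

theorem LClosed.preimage {E : Set Y} (hE : LClosed E) (f : X ⟶ Y) : LClosed (f ⁻¹' E) := by
  refine lClosed_of_exists fun x => ?_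
  obtain ⟨V, hV, hxV, -⟩ := exists_isAffineOpen_mem_and_subset (X := Y) (U := ⊤) (mem_univ (f x))
  obtain ⟨W, hW, hxW, e⟩ := exists_isAffineOpen_mem_and_subset (X := X) (U := f ⁻¹ᵁ V) hxV
  exact ⟨W, hW, hxW, (hE V hV).preimage f hV hW e⟩

theorem LClosed.of_preimage_of_quasiCompact (f : X ⟶ Y) [Surjective f] [QuasiCompact f] {E : Set Y}
    (hE : LClosed (f ⁻¹' E)) : LClosed E := by
  intro V hV
  obtain ⟨t, ht⟩ := (f.isCompact_preimage hV.isCompact).elim_finite_subcover
    (fun W : {W : X.Opens // IsAffineOpen W ∧ W ≤ f ⁻¹ᵁ V} => (W.1 : Set X)) (fun W => W.1.2) fun x hx => by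
      obtain ⟨W, hW, hxW, hle⟩ := exists_isAffineOpen_mem_and_subset (U := f ⁻¹ᵁ V) hx
      exact Set.mem_iUnion.mpr ⟨⟨W, hW, hle⟩, hxW⟩
  refine closedAt_of_finite_cover f hV t (fun W => W.1) (fun W => W.2.1) (fun W => W.2.2) (fun y _ hy => ?_)
    fun W => hE _ W.2.1
  obtain ⟨x, rfl⟩ := f.surjective y
  obtain ⟨i, hi, hxi⟩ := Set.mem_iUnion₂.mp (ht (show x ∈ f ⁻¹' (V : Set Y) from hy))
  exact ⟨i, hi, x, hxi, rfl⟩

theorem LClosed.of_preimage_of_locallyOfFinitePresentation (f : X ⟶ Y) [Surjective f]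
    [LocallyOfFinitePresentation f] {E : Set Y} (hE : LClosed (f ⁻¹' E)) : LClosed E := by
  intro V hV
  have := spectralSpace_affine V hV
  refine (@isOpen_compl_iff _ _ (constructibleTopology (V : Set Y))).mp ?_
  refine (@isOpen_iff_forall_mem_open _ (constructibleTopology (V : Set Y)) _).mpr ?_
  rintro ⟨y, hy⟩ hyE
  obtain ⟨x, rfl⟩ := f.surjective y
  obtain ⟨W, hW, hxW, e'⟩ := exists_isAffineOpen_mem_and_subset (U := f ⁻¹ᵁ V) hy
  have e : W ≤ f ⁻¹ᵁ V := e'
  have := spectralSpace_affine W hW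
  obtain ⟨C, hC, hxC, hCE⟩ := exists_isConstructible_mem_subset
    ((@isOpen_compl_iff _ _ (constructibleTopology (W : Set X))).mpr (hE W hW)) (x := (⟨x, hxW⟩ : (W : Set X))) hyE
  have : IsAffine W.toScheme := hW
  have : IsAffine V.toScheme := hV
  have : IsAffineHom (f.resLE V W e) := isAffineHom_of_isAffine _
  have : CompactSpace V.toScheme := isCompact_iff_compactSpace.mp hV.isCompact
  have hlfp : LocallyOfFinitePresentation (f.resLE V W e) := inferInstance
  have hrel : ∀ z, ((f.resLE V W e) z).1 = f z.1 := fun z => congr($(Scheme.Hom.resLE_comp_ι f e) z)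
  refine ⟨(f.resLE V W e) '' C, ?_, (isClopen_ct_of_isConstructible ((f.resLE V W e).isConstructible_image hC)).2,
    ⟨⟨x, hxW⟩, hxC, Subtype.ext (hrel _)⟩⟩
  rintro _ ⟨z, hz, rfl⟩ hzE
  refine hCE hz ?_
  show f z.1 ∈ E
  rw [← hrel]
  exact hzE

end Groth.EGA41Two
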