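import Mathlib.RingTheory.Ideal.HasGoingUp
import Mathlib.RingTheory.Ideal.GoingUp
import Mathlib.RingTheory.KrullDimension.Basic
import Mathlib.RingTheory.KrullDimension.Module
import Mathlib.RingTheory.Spectrum.Prime.RingHom

/-! Krull dimension of integral extensions. -/

universe u

namespace Groth.EGA41Two

theorem ringKrullDim_eq_of_isIntegral_of_injective {R S : Type u} [CommRing R] [CommRing S] [Algebra R S]
    [Algebra.IsIntegral R S] (hinj : Function.Injective (algebraMap R S)) :
    ringKrullDim R = ringKrullDim S := by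
  refine le_antisymm ?_ ?_
  · refine iSup_le fun l => ?_
    have hker : RingHom.ker (algebraMap R S) ≤ l.head.asIdeal := by
      rw [(RingHom.injective_iff_ker_eq_bot _).mp hinj]; exact bot_le
    obtain ⟨P, -, hP, hPc⟩ := Ideal.exists_ideal_over_prime_of_isIntegral l.head.asIdeal (⊥ : Ideal S)
      ((RingHom.ker_eq_comap_bot (algebraMap R S)).symm.trans_le hker)
    have : P.LiesOver (RelSeries.head l).asIdeal := ⟨hPc.symm⟩
    obtain ⟨L, hL, -, -⟩ := Ideal.exists_ltSeries_of_hasGoingUp l P
    exact le_iSup_of_le L (by rw [hL])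
  · refine Order.krullDim_le_of_strictMono (PrimeSpectrum.comap (algebraMap R S)) fun a b hab => ?_
    exact Ideal.IsIntegral.comap_lt_comap (I := a.asIdeal) (J := b.asIdeal) hab

end Groth.EGA41Two
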