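import Groth.Prelude.Def_CAlgX
import Groth.Agent.Ega41Adic.Differentials
import Mathlib.Algebra.Module.Torsion.Basic
import Mathlib.RingTheory.Filtration
import Mathlib.RingTheory.Ideal.Cotangent
import Mathlib.RingTheory.OrzechProperty

/-! Formal smoothness of quotients of formally smooth adic algebras. -/

universe u

open TensorProduct KaehlerDifferential

namespace Groth.EGA41Two.AdicQuotient

variable {A B : Type u} [CommRing A] [CommRing B] [Algebra A B]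

/-- `J / 𝔮 J`. -/
abbrev Mq (𝔮 J : Ideal B) : Type u := ↥J ⧸ (𝔮 • (⊤ : Submodule B ↥J))

/-- The class of an element of `J` in `J / 𝔮 J`. -/
abbrev cl (𝔮 J : Ideal B) (j : ↥J) : Mq 𝔮 J := Submodule.Quotient.mk j

variable (A) in
/-- Retraction of the conormal map modulo `𝔮`. -/
def HasRetract (𝔮 J : Ideal B) : Prop :=
  ∃ h : Ω[B⁄A] →ₗ[B] Mq 𝔮 J, ∀ j : ↥J, h (D A B j.1) = cl 𝔮 J j

theorem sup_pow_le (I J : Ideal B) (k : ℕ) : (I ⊔ J) ^ k ≤ I ^ k ⊔ J := by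
  induction k with
  | zero => simp
  | succ k ih =>
    rw [pow_succ (I ⊔ J) k]
    refine le_trans (Ideal.mul_mono ih (le_refl (I ⊔ J))) ?_
    rw [Ideal.sup_mul, Ideal.mul_sup, ← pow_succ]
    refine sup_le (sup_le le_sup_left ?_) ?_
    · exact le_trans (Ideal.mul_le.mpr fun r _ x hx => J.mul_mem_left r hx) le_sup_right
    · exact le_trans (Ideal.mul_le.mpr fun r hr x _ => J.mul_mem_right x hr) le_sup_right

theorem coe_mem_mul (I J : Ideal B) {v : ↥J} (hv : v ∈ I • (⊤ : Submodule B ↥J)) : v.1 ∈ I * J := by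
  refine Submodule.smul_induction_on hv (fun r hr m _ => ?_) (fun x y hx hy => by
    rw [Submodule.coe_add]; exact add_mem hx hy)
  rw [Submodule.coe_smul, smul_eq_mul]
  exact Ideal.mul_mem_mul hr m.2

theorem mk_mem_smul (I J : Ideal B) {x : B} (hx : x ∈ I * J) :
    ∃ h : x ∈ J, (⟨x, h⟩ : ↥J) ∈ I • (⊤ : Submodule B ↥J) := by
  refine Submodule.mul_induction_on hx (fun r hr m hm => ?_) (fun a b ha hb => ?_)
  · exact ⟨J.mul_mem_left r hm, Submodule.smul_mem_smul (n := (⟨m, hm⟩ : ↥J)) hr Submodule.mem_top⟩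
  · obtain ⟨ha1, ha2⟩ := ha
    obtain ⟨hb1, hb2⟩ := hb
    exact ⟨add_mem ha1 hb1, (Submodule.add_mem _ ha2 hb2 :)⟩

theorem hasRetract_of_smooth [IsNoetherianRing B] (I J 𝔮 : Ideal B) (hJ𝔮 : J ≤ 𝔮)
    (hopen : ∃ n : ℕ, I ^ n ≤ 𝔮)
    (hC : CAlgX.IsAdicFormallySmooth A (B ⧸ J) (I.map (Ideal.Quotient.mk J))) : HasRetract A 𝔮 J := by
  obtain ⟨n, hn⟩ := hopen
  -- Artin–Rees
  obtain ⟨k, hk⟩ := Ideal.exists_pow_inf_eq_pow_smul I J
  have hAR : I ^ (n + k) ⊓ J ≤ 𝔮 * J := by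
    have h := hk (n + k) (Nat.le_add_left k n)
    rw [Nat.add_sub_cancel, smul_eq_mul, smul_eq_mul, Ideal.mul_top] at h
    rw [h, smul_eq_mul]
    exact Ideal.mul_mono hn inf_le_right
  set L : Ideal B := 𝔮 * J ⊔ I ^ (n + k) with hL
  set N : Ideal (B ⧸ L) := J.map (Ideal.Quotient.mk L) with hN
  have hN2 : N ^ 2 = ⊥ := by
    rw [hN, ← Ideal.map_pow, Ideal.map_eq_bot_iff_le_ker, Ideal.mk_ker, pow_two]
    exact (Ideal.mul_mono hJ𝔮 le_rfl).trans le_sup_left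
  let ψ : (B ⧸ J) →ₐ[A] (B ⧸ L) ⧸ N :=
    Ideal.Quotient.liftₐ J ((Ideal.Quotient.mkₐ A N).comp (Ideal.Quotient.mkₐ A L)) fun a ha =>
      Ideal.Quotient.eq_zero_iff_mem.mpr (Ideal.mem_map_of_mem _ ha)
  have hψ : ∃ m : ℕ, ∀ x ∈ (I.map (Ideal.Quotient.mk J)) ^ m, ψ x = 0 := by
    refine ⟨n + k, fun x hx => ?_⟩
    rw [← Ideal.map_pow, Ideal.mem_map_iff_of_surjective _ Ideal.Quotient.mk_surjective] at hx
    obtain ⟨y, hy, rfl⟩ := hx
    show Ideal.Quotient.mk N (Ideal.Quotient.mk L y) = 0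
    rw [show Ideal.Quotient.mk L y = 0 from Ideal.Quotient.eq_zero_iff_mem.mpr (Ideal.mem_sup_right hy), map_zero]
  obtain ⟨χ, hχ⟩ := hC (B ⧸ L) N hN2 ψ hψ
  have hδ : ∀ b : B, ∃ j : ↥J, Ideal.Quotient.mk L j.1 = Ideal.Quotient.mk L b - χ (Ideal.Quotient.mk J b) := by
    intro b
    have hb : Ideal.Quotient.mk L b - χ (Ideal.Quotient.mk J b) ∈ N := by
      rw [← Ideal.Quotient.eq_zero_iff_mem, map_sub,
        show Ideal.Quotient.mk N (χ (Ideal.Quotient.mk J b)) = ψ (Ideal.Quotient.mk J b) from AlgHom.congr_fun hχ _]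
      exact sub_self _
    obtain ⟨j, hj, hje⟩ := (Ideal.mem_map_iff_of_surjective _ Ideal.Quotient.mk_surjective).mp hb
    exact ⟨⟨j, hj⟩, hje⟩
  choose s hs using hδ
  have huniq : ∀ j j' : ↥J, Ideal.Quotient.mk L j.1 = Ideal.Quotient.mk L j'.1 → cl 𝔮 J j = cl 𝔮 J j' := by
    intro j j' h
    rw [Ideal.Quotient.eq, hL, Submodule.mem_sup] at h
    obtain ⟨u, hu, v, hv, huv⟩ := h
    have hvJ : v ∈ J := by
      rw [show v = (j.1 - j'.1) - u from by rw [← huv]; ring]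
      exact sub_mem (sub_mem j.2 j'.2) ((Ideal.mul_le.mpr fun r _ x hx => J.mul_mem_left r hx : 𝔮 * J ≤ J) hu)
    have huv' : u + v ∈ 𝔮 * J := add_mem hu (hAR ⟨hv, hvJ⟩)
    rw [huv] at huv'
    obtain ⟨h1, h2⟩ := mk_mem_smul 𝔮 J huv'
    rw [Submodule.Quotient.eq]
    exact h2
  let d : Derivation A B (Mq 𝔮 J) := Derivation.mk'
    { toFun := fun b => cl 𝔮 J (s b)
      map_add' := fun a b => by
        show cl 𝔮 J (s (a + b)) = cl 𝔮 J (s a + s b)
        refine huniq _ _ ?_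
        rw [Submodule.coe_add, map_add, hs, hs, hs]
        simp only [map_add]
        ring
      map_smul' := fun r a => by
        show cl 𝔮 J (s (r • a)) = r • cl 𝔮 J (s a)
        rw [← algebraMap_smul B r (cl 𝔮 J (s a)), ← Submodule.Quotient.mk_smul]
        refine huniq _ _ ?_
        rw [Submodule.coe_smul, smul_eq_mul, map_mul, hs, hs, Algebra.smul_def, map_mul, map_mul, map_mul,
          show Ideal.Quotient.mk L (algebraMap A B r) = algebraMap A (B ⧸ L) r from rfl,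
          show χ (Ideal.Quotient.mk J (algebraMap A B r)) = algebraMap A (B ⧸ L) r from χ.commutes r]
        ring }
    fun a b => by
      show cl 𝔮 J (s (a * b)) = a • cl 𝔮 J (s b) + b • cl 𝔮 J (s a)
      rw [← Submodule.Quotient.mk_smul, ← Submodule.Quotient.mk_smul, ← Submodule.Quotient.mk_add]
      refine huniq _ _ ?_
      have hz : Ideal.Quotient.mk L (s a).1 * Ideal.Quotient.mk L (s b).1 = 0 := by
        have h := Ideal.mul_mem_mul (Ideal.mem_map_of_mem (Ideal.Quotient.mk L) (s a).2)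
          (Ideal.mem_map_of_mem (Ideal.Quotient.mk L) (s b).2)
        rwa [← hN, ← pow_two, hN2, Submodule.mem_bot] at h
      rw [hs, hs] at hz
      simp only [Submodule.coe_add, Submodule.coe_smul, smul_eq_mul, map_add, map_mul, hs]
      linear_combination (-1 : B ⧸ L) * hz
  refine ⟨d.liftKaehlerDifferential, fun j => ?_⟩
  rw [Derivation.liftKaehlerDifferential_comp_D]
  show cl 𝔮 J (s j.1) = cl 𝔮 J j
  refine huniq _ _ ?_
  rw [hs, show Ideal.Quotient.mk J j.1 = 0 from Ideal.Quotient.eq_zero_iff_mem.mpr j.2, map_zero, sub_zero]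

theorem hasRetract_mod_of_hasRetract [IsNoetherianRing B] (I J 𝔮 𝔮' : Ideal B) (hJ' : J ≤ 𝔮')
    (hopen' : ∃ n : ℕ, I ^ n ≤ 𝔮') (hle : 𝔮' ≤ 𝔮) (hnil : ∃ N : ℕ, 𝔮 ^ N ≤ 𝔮')
    (hB : CAlgX.IsAdicFormallySmooth A B I) (h : HasRetract A 𝔮 J) : HasRetract A 𝔮' J := by
  classical
  obtain ⟨h0, hh0⟩ := h
  set R' := B ⧸ 𝔮'
  have hproj : Module.Projective R' (R' ⊗[B] Ω[B⁄A]) :=
    Groth.Ega41Adic.projective_kaehler_quotient_of_isFormallySmoothAdic
      ((Groth.Ega41Adic.isAdicFormallySmooth_iff).mp hB) ⟨1, by simp⟩ 𝔮' hopen'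
  let S : Submodule R' (Mq 𝔮' J) := (𝔮.map (Ideal.Quotient.mk 𝔮')) • ⊤
  let q : Mq 𝔮' J →ₗ[R'] Mq 𝔮' J ⧸ S := S.mkQ
  have hkill : ∀ (r : B) (m : Mq 𝔮' J), r ∈ 𝔮 → q (r • m) = 0 := fun r m hr => by
    rw [show r • m = (Ideal.Quotient.mk 𝔮' r) • m from rfl]
    exact (Submodule.Quotient.mk_eq_zero S).mpr
      (Submodule.smul_mem_smul (Ideal.mem_map_of_mem _ hr) Submodule.mem_top)
  let toS : Mq 𝔮 J →ₗ[B] Mq 𝔮' J ⧸ S :=
    Submodule.liftQ _ ((q.restrictScalars B) ∘ₗ Submodule.mkQ _) (Submodule.smul_le.mpr fun r hr m _ => by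
      rw [LinearMap.mem_ker, map_smul, LinearMap.comp_apply, LinearMap.restrictScalars_apply,
        ← LinearMap.map_smul_of_tower]
      exact hkill r _ hr)
  let f : R' ⊗[B] Ω[B⁄A] →ₗ[R'] Mq 𝔮' J ⧸ S := (toS ∘ₗ h0).liftBaseChange R'
  obtain ⟨w, hw⟩ := Module.projective_lifting_property q f (Submodule.mkQ_surjective S)
  let w0 : Ω[B⁄A] →ₗ[B] Mq 𝔮' J := (w.restrictScalars B) ∘ₗ TensorProduct.mk B R' _ 1
  have hw0 : ∀ j : ↥J, q (w0 (D A B j.1)) = q (cl 𝔮' J j) := by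
    intro j
    show q (w ((1 : R') ⊗ₜ[B] D A B j.1)) = _
    rw [← LinearMap.comp_apply, hw, LinearMap.liftBaseChange_tmul, one_smul, LinearMap.comp_apply, hh0]
    rfl
  have hwJ : ∀ (r : B) (x : Ω[B⁄A]), r ∈ 𝔮' → w0 (r • x) = 0 := fun r x hr => by
    show w ((1 : R') ⊗ₜ[B] (r • x)) = 0
    rw [← TensorProduct.smul_tmul, Algebra.smul_def, mul_one,
      show algebraMap B R' r = 0 from Ideal.Quotient.eq_zero_iff_mem.mpr hr, TensorProduct.zero_tmul, map_zero]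
  let ε0 : ↥J →ₗ[B] Mq 𝔮' J :=
    { toFun := fun j => w0 (D A B j.1)
      map_add' := fun a b => by rw [Submodule.coe_add, map_add, map_add]
      map_smul' := fun r j => by
        show w0 (D A B (r * j.1)) = r • w0 (D A B j.1)
        rw [Derivation.leibniz, map_add, hwJ j.1 _ (hJ' j.2), add_zero, map_smul] }
  let ε : Mq 𝔮' J →ₗ[B] Mq 𝔮' J := Submodule.liftQ _ ε0 (Submodule.smul_le.mpr fun r hr m _ => by
    rw [LinearMap.mem_ker, map_smul,
      show r • ε0 m = (Ideal.Quotient.mk 𝔮' r) • ε0 m from rfl, Ideal.Quotient.eq_zero_iff_mem.mpr hr, zero_smul])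
  have hid : ∀ m : Mq 𝔮' J, m - ε m ∈ 𝔮 • (⊤ : Submodule B (Mq 𝔮' J)) := by
    intro m
    obtain ⟨j, rfl⟩ := Submodule.Quotient.mk_surjective _ m
    have h1 : cl 𝔮' J j - ε0 j ∈ S := by
      rw [← Submodule.Quotient.eq]
      exact (hw0 j).symm
    refine Submodule.smul_induction_on h1 (fun c hc m' _ => ?_) (fun x y hx hy => add_mem hx hy)
    obtain ⟨r, hr, rfl⟩ := (Ideal.mem_map_iff_of_surjective _ Ideal.Quotient.mk_surjective).mp hc
    exact Submodule.smul_mem_smul hr Submodule.mem_top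
  have hsurj : Function.Surjective ε := by
    rw [← LinearMap.range_eq_top]
    have key : ∀ i : ℕ, LinearMap.range ε ⊔ 𝔮 ^ i • (⊤ : Submodule B (Mq 𝔮' J)) = ⊤ := by
      intro i
      induction i with
      | zero => simp
      | succ i ih =>
        refine eq_top_iff.mpr (ih.symm.le.trans (sup_le le_sup_left (Submodule.smul_le.mpr fun r hr m _ => ?_)))
        rw [show r • m = ε (r • m) + r • (m - ε m) by rw [map_smul, smul_sub]; abel]
        refine Submodule.add_mem_sup (LinearMap.mem_range_self ε _) ?_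
        rw [pow_succ, ← smul_eq_mul, Submodule.smul_assoc]
        exact Submodule.smul_mem_smul hr (hid m)
    obtain ⟨N, hN⟩ := hnil
    have hz : 𝔮 ^ N • (⊤ : Submodule B (Mq 𝔮' J)) = ⊥ := by
      refine eq_bot_iff.mpr (Submodule.smul_le.mpr fun r hr m _ => ?_)
      rw [Submodule.mem_bot, show r • m = (Ideal.Quotient.mk 𝔮' r) • m from rfl,
        Ideal.Quotient.eq_zero_iff_mem.mpr (hN hr), zero_smul]
    simpa [hz] using key N
  have hbij := OrzechProperty.bijective_of_surjective_endomorphism ε hsurj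
  refine ⟨(LinearEquiv.ofBijective ε hbij).symm.toLinearMap ∘ₗ w0, fun j => ?_⟩
  show (LinearEquiv.ofBijective ε hbij).symm (w0 (D A B j.1)) = cl 𝔮' J j
  rw [LinearEquiv.symm_apply_eq]
  rfl

theorem smooth_of_hasRetract [IsNoetherianRing B] (I J 𝔮 : Ideal B) (hJ : J ≤ 𝔮) (hopen : ∃ n : ℕ, I ^ n ≤ 𝔮)
    (hsmall : ∃ m : ℕ, 𝔮 ^ m ≤ I ⊔ J) (hB : CAlgX.IsAdicFormallySmooth A B I) (h : HasRetract A 𝔮 J) :
    CAlgX.IsAdicFormallySmooth A (B ⧸ J) (I.map (Ideal.Quotient.mk J)) := by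
  intro E _ _ N hN ψ hψ
  obtain ⟨k0, hk0⟩ := hψ
  obtain ⟨n, hn⟩ := hopen
  obtain ⟨m, hm⟩ := hsmall
  set k := max k0 n
  let u : B →ₐ[A] E ⧸ N := ψ.comp (Ideal.Quotient.mkₐ A J)
  have hu : ∀ x ∈ I ^ k, u x = 0 := fun x hx => hk0 _ (by
    rw [← Ideal.map_pow]
    exact Ideal.mem_map_of_mem _ (Ideal.pow_le_pow_right (le_max_left _ _) hx))
  obtain ⟨φ, hφ⟩ := hB E N hN u ⟨k, hu⟩
  have hφu : ∀ b, Ideal.Quotient.mk N (φ b) = u b := fun b => AlgHom.congr_fun hφ b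
  set 𝔮' := I ^ k ⊔ J with h𝔮'
  have hsq : ∀ {x y : E}, x ∈ N → y ∈ N → x * y = 0 := fun {x y} hx hy => by
    have h := Ideal.mul_mem_mul hx hy
    rwa [← pow_two, hN, Submodule.mem_bot] at h
  have hmem : ∀ x ∈ 𝔮', φ x ∈ N := by
    intro x hx
    rw [← Ideal.Quotient.eq_zero_iff_mem, hφu]
    have hle : 𝔮' ≤ RingHom.ker u.toRingHom := by
      refine sup_le (fun y hy => hu y hy) fun y hy => ?_
      show ψ (Ideal.Quotient.mk J y) = 0
      rw [Ideal.Quotient.eq_zero_iff_mem.mpr hy, map_zero]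
    exact hle hx
  obtain ⟨h', hh'⟩ := hasRetract_mod_of_hasRetract I J 𝔮 𝔮' le_sup_right ⟨k, le_sup_left⟩
    (sup_le ((Ideal.pow_le_pow_right (le_max_right _ _)).trans hn) hJ)
    ⟨m * k, by
      rw [pow_mul]
      refine (Ideal.pow_right_mono hm k).trans ?_
      exact sup_pow_le I J k⟩
    hB h
  letI : Algebra B E := φ.toRingHom.toAlgebra
  haveI : IsScalarTower A B E := IsScalarTower.of_algebraMap_eq fun a => (φ.commutes a).symm
  let θ0 : ↥J →ₗ[B] E :=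
    { toFun := fun j => φ j.1
      map_add' := fun a b => map_add φ a.1 b.1
      map_smul' := fun r j => map_mul φ r j.1 }
  let θ : Mq 𝔮' J →ₗ[B] E := Submodule.liftQ _ θ0 (Submodule.smul_le.mpr fun r hr j _ => by
    rw [LinearMap.mem_ker, map_smul, Algebra.smul_def]
    exact hsq (hmem r hr) (hmem j.1 (Ideal.mem_sup_right j.2)))
  have hθN : ∀ z, θ z ∈ N := fun z => by
    obtain ⟨j, rfl⟩ := Submodule.Quotient.mk_surjective _ z
    exact hmem j.1 (Ideal.mem_sup_right j.2)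
  let δ : Derivation A B E := (θ ∘ₗ h').compDer (D A B)
  have hδN : ∀ b, δ b ∈ N := fun b => hθN _
  let χ0 : B →ₐ[A] E :=
    AlgHom.ofLinearMap (φ.toLinearMap - δ.toLinearMap)
      (by show φ 1 - δ 1 = 1; rw [map_one, δ.map_one_eq_zero, sub_zero])
      (fun a b => by
        show φ (a * b) - δ (a * b) = (φ a - δ a) * (φ b - δ b)
        rw [map_mul, δ.leibniz, Algebra.smul_def, Algebra.smul_def]
        show φ a * φ b - (φ a * δ b + φ b * δ a) = _
        linear_combination (-1 : E) * hsq (hδN a) (hδN b))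
  refine ⟨Ideal.Quotient.liftₐ J χ0 fun j hj => ?_, ?_⟩
  · show φ j - θ (h' (D A B j)) = 0
    rw [hh' ⟨j, hj⟩]
    exact sub_self _
  · refine AlgHom.ext fun c => ?_
    obtain ⟨b, rfl⟩ := Ideal.Quotient.mk_surjective c
    show Ideal.Quotient.mk N (φ b - δ b) = ψ (Ideal.Quotient.mk J b)
    rw [map_sub, hφu, Ideal.Quotient.eq_zero_iff_mem.mpr (hδN b), sub_zero]
    rfl

/-- The criterion in the form with tensor products. -/
theorem hasRetract_iff_leftInverse (J : Ideal B) (Q : Ideal (B ⧸ J)) :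
    HasRetract A (Q.comap (Ideal.Quotient.mk J)) J ↔
      ∃ g : ((B ⧸ J) ⧸ Q) ⊗[B] ((B ⧸ J) ⊗[B] Ω[B⁄A]) →ₗ[(B ⧸ J) ⧸ Q]
          ((B ⧸ J) ⧸ Q) ⊗[B] (RingHom.ker (algebraMap B (B ⧸ J))).Cotangent,
        g ∘ₗ LinearMap.baseChange ((B ⧸ J) ⧸ Q) (KaehlerDifferential.kerCotangentToTensor A B (B ⧸ J)) =
          LinearMap.id := by
  set K := RingHom.ker (algebraMap B (B ⧸ J)) with hK
  have hKJ : K = J := Ideal.mk_ker
  set 𝔮 := Q.comap (Ideal.Quotient.mk J) with h𝔮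
  let R := (B ⧸ J) ⧸ Q
  have hzero : ∀ r ∈ 𝔮, algebraMap B R r = 0 := fun r hr => Ideal.Quotient.eq_zero_iff_mem.mpr hr
  constructor
  · rintro ⟨h, hh⟩
    let toT : Mq 𝔮 J →ₗ[B] R ⊗[B] K.Cotangent :=
      Submodule.liftQ _ ((TensorProduct.mk B R _ 1) ∘ₗ K.toCotangent ∘ₗ (LinearEquiv.ofEq J K hKJ.symm).toLinearMap)
        (Submodule.smul_le.mpr fun r hr m _ => by
          rw [LinearMap.mem_ker, map_smul, LinearMap.comp_apply, TensorProduct.mk_apply, TensorProduct.smul_tmul',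
            ← Algebra.algebraMap_eq_smul_one, hzero r hr, TensorProduct.zero_tmul])
    let g1 : (B ⧸ J) ⊗[B] Ω[B⁄A] →ₗ[B] R ⊗[B] K.Cotangent :=
      ((toT ∘ₗ h).liftBaseChange (B ⧸ J)).restrictScalars B
    refine ⟨g1.liftBaseChange R, ?_⟩
    refine TensorProduct.AlgebraTensorModule.ext fun r z => ?_
    obtain ⟨⟨j, hj⟩, rfl⟩ := K.toCotangent_surjective z
    rw [LinearMap.comp_apply, LinearMap.baseChange_tmul, LinearMap.id_apply, LinearMap.liftBaseChange_tmul,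
      kerCotangentToTensor_toCotangent]
    show r • ((toT ∘ₗ h).liftBaseChange (B ⧸ J)) ((1 : B ⧸ J) ⊗ₜ[B] D A B j) = _
    rw [LinearMap.liftBaseChange_tmul, one_smul, LinearMap.comp_apply, hh ⟨j, hKJ ▸ hj⟩]
    show r • ((1 : R) ⊗ₜ[B] K.toCotangent ⟨j, hj⟩) = _
    rw [TensorProduct.smul_tmul', smul_eq_mul, mul_one]
  · rintro ⟨g, hg⟩
    let h1 : Ω[B⁄A] →ₗ[B] R ⊗[B] K.Cotangent :=
      LinearMap.comp (LinearMap.restrictScalars B g)
        (LinearMap.comp (TensorProduct.mk B R ((B ⧸ J) ⊗[B] Ω[B⁄A]) 1) (TensorProduct.mk B (B ⧸ J) Ω[B⁄A] 1))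
    let e : R ≃ₗ[B] B ⧸ 𝔮 :=
      ((LinearMap.quotKerEquivOfSurjective (Algebra.linearMap B R) (fun y => by
        obtain ⟨c, rfl⟩ := Ideal.Quotient.mk_surjective y
        obtain ⟨b, rfl⟩ := Ideal.Quotient.mk_surjective c
        exact ⟨b, rfl⟩)).symm).trans (Submodule.quotEquivOfEq _ _ (by
          ext b; exact Ideal.Quotient.eq_zero_iff_mem))
    have hsq : (K • ⊤ : Submodule B ↥K) ≤
        LinearMap.ker ((𝔮 • (⊤ : Submodule B ↥J)).mkQ ∘ₗ (LinearEquiv.ofEq K J hKJ).toLinearMap) :=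
      Submodule.smul_le.mpr fun r hr m _ => by
        rw [LinearMap.mem_ker, LinearMap.comp_apply, map_smul, map_smul, Submodule.mkQ_apply, ← Submodule.Quotient.mk_smul,
          Submodule.Quotient.mk_eq_zero]
        refine Submodule.smul_mem_smul ?_ Submodule.mem_top
        rw [h𝔮, Ideal.mem_comap, Ideal.Quotient.eq_zero_iff_mem.mpr (hKJ ▸ hr)]
        exact zero_mem _
    let toM : K.Cotangent →ₗ[B] Mq 𝔮 J := Submodule.liftQ _ _ hsq
    let e2 : (B ⧸ 𝔮) ⊗[B] Mq 𝔮 J →ₗ[B] Mq 𝔮 J :=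
      (Submodule.liftQ _ LinearMap.id (Submodule.smul_le.mpr fun r hr m _ => by
        rw [LinearMap.mem_ker, map_smul, LinearMap.id_apply]
        obtain ⟨m, rfl⟩ := Submodule.Quotient.mk_surjective _ m
        rw [← Submodule.Quotient.mk_smul, Submodule.Quotient.mk_eq_zero]
        exact Submodule.smul_mem_smul hr Submodule.mem_top)) ∘ₗ
      (TensorProduct.quotTensorEquivQuotSMul (Mq 𝔮 J) 𝔮).toLinearMap
    refine ⟨(e2 ∘ₗ TensorProduct.map e.toLinearMap toM) ∘ₗ h1, fun j => ?_⟩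
    have h2 : h1 (D A B j.1) = (1 : R) ⊗ₜ[B] K.toCotangent ⟨j.1, hKJ.symm ▸ j.2⟩ := by
      have := LinearMap.congr_fun hg ((1 : R) ⊗ₜ[B] K.toCotangent ⟨j.1, hKJ.symm ▸ j.2⟩)
      rw [LinearMap.comp_apply, LinearMap.baseChange_tmul, kerCotangentToTensor_toCotangent] at this
      exact this
    rw [LinearMap.comp_apply, h2, LinearMap.comp_apply, TensorProduct.map_tmul]
    have he1 : e.toLinearMap (1 : R) = Ideal.Quotient.mk 𝔮 1 := by
      show e 1 = _
      rw [← LinearEquiv.eq_symm_apply]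
      exact (map_one (algebraMap B R)).symm
    rw [he1]
    simp only [e2, LinearMap.comp_apply, LinearEquiv.coe_coe]
    rw [TensorProduct.quotTensorEquivQuotSMul_mk_tmul, one_smul]
    rfl

end Groth.EGA41Two.AdicQuotient
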