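import Groth.Agent.EGA41Two.QuasiRegular
import Mathlib.RingTheory.Filtration
import Mathlib.RingTheory.Jacobson.Ideal

/-! Quasi-regular sequences in the Jacobson radical of a Noetherian ring are regular. -/

universe u

open MvPolynomial RingTheory.Sequence
open scoped Pointwise

namespace Groth.EGA41Two

variable {A : Type u} [CommRing A] {c : ℕ}

theorem headSpan_self (f : Fin c → A) : headSpan f c = Ideal.span (Set.range f) := by
  rw [headSpan, show {i : Fin c | (i : ℕ) < c} = Set.univ from Set.eq_univ_of_forall fun i => i.2,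
    Set.image_univ]

theorem isForm_self {n : ℕ} {P : MvPolynomial (Fin c) A} (hP : P.IsHomogeneous n) : IsForm c n P :=
  ⟨hP, fun _ _ i hi => absurd i.2 (not_lt.mpr hi)⟩

theorem exists_homogeneous (f : Fin c → A) {n : ℕ} {a : A} (ha : a ∈ Ideal.span (Set.range f) ^ n) :
    ∃ P : MvPolynomial (Fin c) A, P.IsHomogeneous n ∧ eval f P = a := by
  obtain ⟨P, hP, -, he⟩ := exists_form f ⊤ c n a (by rw [Ideal.top_mul, headSpan_self]; exact ha)
  exact ⟨P, hP.1, he⟩

theorem eval_mem_pow_succ (f : Fin c → A) {n : ℕ} {P : MvPolynomial (Fin c) A} (hP : P.IsHomogeneous n)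
    (hc : ∀ d, P.coeff d ∈ Ideal.span (Set.range f)) : eval f P ∈ Ideal.span (Set.range f) ^ (n + 1) := by
  classical
  rw [P.as_sum, map_sum, pow_succ']
  refine Ideal.sum_mem _ fun d hd => ?_
  rw [← mul_one (coeff d P), ← C_mul_monomial, map_mul, eval_C]
  refine Ideal.mul_mem_mul (hc d) ?_
  have h := eval_mem_pow f (isForm_self
    (isHomogeneous_monomial (1 : A) (n := n) (by rw [← hP (mem_support_iff.mp hd)]; exact congrFun (congrArg _ Finsupp.degree_eq_weight_one) d)))
  rwa [headSpan_self] at h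

theorem mem_pow_succ_of_mul_mem (f : Fin c → A) (hq : CAlgX.IsQuasiRegular f) (i : Fin c) {m : ℕ} {a : A}
    (ha : a ∈ Ideal.span (Set.range f) ^ m) (hxa : f i * a ∈ Ideal.span (Set.range f) ^ (m + 2)) :
    a ∈ Ideal.span (Set.range f) ^ (m + 1) := by
  classical
  obtain ⟨P, hP, rfl⟩ := exists_homogeneous f ha
  refine eval_mem_pow_succ f hP fun d => ?_
  have h := hq (m + 1) (X i * P) (add_comm 1 m ▸ (isHomogeneous_X A i).mul hP)
    (by rw [map_mul, eval_X]; exact hxa) (Finsupp.single i 1 + d)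
  rwa [coeff_X_mul] at h

theorem mem_pow_of_mul_mem (f : Fin c → A) (hq : CAlgX.IsQuasiRegular f) (i : Fin c) {a : A} (n : ℕ)
    (hxa : f i * a ∈ Ideal.span (Set.range f) ^ (n + 1)) : a ∈ Ideal.span (Set.range f) ^ n := by
  induction n with
  | zero => simp
  | succ n ih =>
    exact mem_pow_succ_of_mul_mem f hq i (ih (Ideal.pow_le_pow_right (Nat.le_succ _) hxa)) hxa

theorem isSMulRegular_of_isQuasiRegular [IsNoetherianRing A] (f : Fin c → A)
    (hf : ∀ i, f i ∈ Ring.jacobson A) (hq : CAlgX.IsQuasiRegular f) (i : Fin c) : IsSMulRegular A (f i) := by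
  intro a b hab
  rw [← sub_eq_zero]
  have hle : Ideal.span (Set.range f) ≤ Ideal.jacobson ⊥ := Ideal.span_le.mpr (by
    rintro _ ⟨j, rfl⟩
    simpa [Ring.jacobson_eq_sInf_isMaximal, Ideal.jacobson] using hf j)
  have h0 : f i * (a - b) = 0 := by
    rw [mul_sub]; exact sub_eq_zero.mpr hab
  have hmem : a - b ∈ (⨅ n : ℕ, Ideal.span (Set.range f) ^ n • ⊤ : Submodule A A) := by
    refine Submodule.mem_iInf _ |>.mpr fun n => ?_
    have := mem_pow_of_mul_mem f hq i n (a := a - b) (by rw [h0]; exact zero_mem _)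
    simpa using this
  rw [Ideal.iInf_pow_smul_eq_bot_of_le_jacobson _ hle] at hmem
  simpa using hmem

theorem isQuasiRegular_quotient (f : Fin (c + 1) → A) (hq : CAlgX.IsQuasiRegular f) :
    CAlgX.IsQuasiRegular fun i : Fin c => Ideal.Quotient.mk (Ideal.span {f 0}) (f i.succ) := by
  classical
  set π := Ideal.Quotient.mk (Ideal.span {f 0}) with hπ
  set g : Fin c → A ⧸ Ideal.span {f 0} := fun i => π (f i.succ) with hg
  set J := Ideal.span (Set.range f) with hJ
  have hx0 : π (f 0) = 0 := Ideal.Quotient.eq_zero_iff_mem.mpr (Ideal.mem_span_singleton_self _)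
  have hJmap : J.map π = Ideal.span (Set.range g) := by
    rw [hJ, Ideal.map_span, ← Set.range_comp]
    refine le_antisymm (Ideal.span_le.mpr ?_) (Ideal.span_mono ?_)
    · rintro _ ⟨i, rfl⟩
      refine Fin.cases ?_ (fun j => Ideal.subset_span ⟨j, rfl⟩) i
      show π (f 0) ∈ _
      rw [hx0]; exact zero_mem _
    · rintro _ ⟨j, rfl⟩; exact ⟨j.succ, rfl⟩
  intro n P hP he d
  choose lift hlift using fun r : A ⧸ Ideal.span {f 0} => Ideal.Quotient.mk_surjective r
  let P' : MvPolynomial (Fin (c + 1)) A := ∑ e ∈ P.support, monomial (Finsupp.cons 0 e) (lift (P.coeff e))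
  have hP' : P'.IsHomogeneous n := by
    refine IsHomogeneous.sum _ _ _ fun e he => isHomogeneous_monomial _ ?_
    rw [← hP (mem_support_iff.mp he)]
    simp [Finsupp.degree_eq_sum, Finsupp.weight_apply, Finsupp.sum_fintype, Fin.sum_univ_succ]
  have hev : π (eval f P') = eval g P := by
    rw [eval_eq' g P, map_sum, map_sum]
    refine Finset.sum_congr rfl fun e _ => ?_
    rw [eval_monomial, map_mul, hlift, Finsupp.prod_fintype _ _ (fun i => pow_zero _),
      Fin.prod_univ_succ, map_mul, map_prod]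
    simp [hg]
  have hcoeff : ∀ e, P.coeff e = π (P'.coeff (Finsupp.cons 0 e)) := by
    intro e
    rw [coeff_sum, map_sum, Finset.sum_eq_single e]
    · rw [coeff_monomial, if_pos rfl, hlift]
    · intro b _ hbe
      rw [coeff_monomial, if_neg fun h => hbe ((Finsupp.cons_injective2 h).2), map_zero]
    · intro hne
      rw [coeff_monomial, if_pos rfl, hlift, notMem_support_iff.mp hne]
  rw [← hJmap, ← Ideal.map_pow, ← hev, Ideal.mem_map_iff_of_surjective _ Ideal.Quotient.mk_surjective] at he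
  obtain ⟨w, hw, hwe⟩ := he
  obtain ⟨a, ha⟩ := Ideal.mem_span_singleton.mp (Ideal.Quotient.eq.mp hwe.symm)
  rw [hcoeff d, ← hJmap]
  refine Ideal.mem_map_of_mem _ ?_
  rcases n with _ | n
  · refine hq 0 P' hP' ?_ _
    rw [sub_eq_iff_eq_add.mp ha]
    refine add_mem ?_ hw
    rw [zero_add, pow_one]
    exact Ideal.mul_mem_right _ _ (Ideal.subset_span ⟨0, rfl⟩)
  · have hxa : f 0 * a ∈ J ^ (n + 1) := by
      rw [← ha]
      refine sub_mem ?_ (Ideal.pow_le_pow_right (Nat.le_succ _) hw)
      have := eval_mem_pow f (isForm_self hP')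
      rwa [headSpan_self] at this
    obtain ⟨Q, hQ, hQe⟩ := exists_homogeneous f (mem_pow_of_mul_mem f hq 0 n hxa)
    have h := hq (n + 1) (P' + C (-1) * (X 0 * Q))
      (hP'.add ((add_comm 1 n ▸ (isHomogeneous_X A 0).mul hQ).C_mul _)) (by
        rw [map_add, map_mul, map_mul, eval_C, eval_X, hQe]
        have e1 : eval f P' + -1 * (f 0 * a) = w := by rw [← ha]; ring
        rw [e1]; exact hw) (Finsupp.cons 0 d)
    rw [coeff_add, coeff_C_mul, coeff_X_mul', if_neg (by simp), mul_zero, add_zero] at h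
    exact h

theorem isWeaklyRegular_of_isQuasiRegular : ∀ (c : ℕ) (A : Type u) [CommRing A] [IsNoetherianRing A]
    (f : Fin c → A), (∀ i, f i ∈ Ring.jacobson A) → CAlgX.IsQuasiRegular f →
      IsWeaklyRegular A (List.ofFn f) := by
  intro c
  induction c with
  | zero => intro A _ _ f _ _; simp
  | succ c ih =>
    intro A _ _ f hf hq
    rw [List.ofFn_succ, isWeaklyRegular_cons_iff']
    refine ⟨isSMulRegular_of_isQuasiRegular f hf hq 0, ?_⟩
    rw [List.map_ofFn]
    have h := ih (A ⧸ Ideal.span {f 0}) (fun i => Ideal.Quotient.mk _ (f i.succ))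
      (fun i => Ring.le_comap_jacobson _ (hf _) ) (isQuasiRegular_quotient f hq)
    let e : QuotSMulTop (f 0) A ≃ₗ[A ⧸ Ideal.span {f 0}] A ⧸ Ideal.span {f 0} :=
      { (Submodule.quotEquivOfEq (f 0 • (⊤ : Submodule A A)) (Ideal.span {f 0}) (by
          rw [← Submodule.ideal_span_singleton_smul, smul_eq_mul, ← Ideal.one_eq_top, mul_one])).toAddEquiv with
        map_smul' := fun r x => by
          obtain ⟨r, rfl⟩ := Ideal.Quotient.mk_surjective r
          obtain ⟨x, rfl⟩ := Submodule.Quotient.mk_surjective _ x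
          rfl }
    exact (e.isWeaklyRegular_congr _).mpr h

end Groth.EGA41Two
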