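import Groth.Agent.FlatMorOne.FlatnessCriteria
import Groth.Agent.FlatMorOne.LocalCriterion
import Groth.Agent.Ega4Algebra2.FlatRegular
import Mathlib.RingTheory.Regular.RegularSequence
import Mathlib.RingTheory.Flat.Equalizer

/-! Regular sequences and flatness over a local base. -/

universe u

open IsLocalRing RingTheory.Sequence TensorProduct
open scoped Pointwise

namespace Groth.EGA41Two.FlatFibre

variable {A B : Type u} [CommRing A] [CommRing B] [Algebra A B]

/-- `(M/fM)/I(M/fM) ≅ (M/IM)/f(M/IM)`. -/
noncomputable def swapEquiv (I : Ideal B) (f : B) (M : Type u) [AddCommGroup M] [Module B M] :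
    (QuotSMulTop f M ⧸ (I • (⊤ : Submodule B (QuotSMulTop f M)))) ≃ₗ[B]
      QuotSMulTop f (M ⧸ (I • (⊤ : Submodule B M))) :=
  (Submodule.quotEquivOfEq _ ((I • (⊤ : Submodule B M)).map (f • (⊤ : Submodule B M)).mkQ)
      (by rw [Submodule.map_smul'', Submodule.map_top, Submodule.range_mkQ])) ≪≫ₗ
    Submodule.quotientQuotientEquivQuotientSup _ _ ≪≫ₗ
    Submodule.quotEquivOfEq _ _ (sup_comm _ _) ≪≫ₗ
    (Submodule.quotientQuotientEquivQuotientSup _ _).symm ≪≫ₗ
    Submodule.quotEquivOfEq _ _ (by rw [Submodule.map_pointwise_smul, Submodule.map_top, Submodule.range_mkQ])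

theorem smul_restrictScalars_eq (I : Ideal A) (M : Type u) [AddCommGroup M] [Module B M] [Module A M]
    [IsScalarTower A B M] :
    ((I.map (algebraMap A B)) • (⊤ : Submodule B M)).restrictScalars A = I • (⊤ : Submodule A M) := by
  rw [Ideal.smul_restrictScalars, Submodule.restrictScalars_top]

variable [IsLocalRing A] [IsLocalRing B] [IsNoetherianRing B] [IsLocalHom (algebraMap A B)]

/-- The identification of the closed fibre. -/
noncomputable def fibreEquiv (M : Type u) [AddCommGroup M] [Module B M] [Module A M] [IsScalarTower A B M] :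
    ResidueField A ⊗[A] M ≃ₗ[A]
      M ⧸ ((maximalIdeal A).map (algebraMap A B) • (⊤ : Submodule B M)) :=
  TensorProduct.quotTensorEquivQuotSMul M (maximalIdeal A) ≪≫ₗ
    Submodule.quotEquivOfEq _ _ (smul_restrictScalars_eq (B := B) (maximalIdeal A) M).symm ≪≫ₗ
    Submodule.Quotient.restrictScalarsEquiv A _

/-- Flat over the base and regular on the closed fibre: regular, flat quotient. -/
theorem regular_and_flat (M : Type u) [AddCommGroup M] [Module B M] [Module A M] [IsScalarTower A B M]
    [Module.Finite B M] [Module.Flat A M] (f : B)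
    (h : IsSMulRegular (M ⧸ ((maximalIdeal A).map (algebraMap A B) • (⊤ : Submodule B M))) f) :
    IsSMulRegular M f ∧ Module.Flat A (QuotSMulTop f M) := by
  let u : M →ₗ[A] M := (LinearMap.lsmul B M f).restrictScalars A
  have hcomm : ∀ x, fibreEquiv (B := B) M (u.lTensor _ x) = f • fibreEquiv (B := B) M x := by
    intro x
    induction x using TensorProduct.induction_on with
    | zero => simp
    | add a b ha hb => simp only [map_add, ha, hb, smul_add]
    | tmul c m =>
      obtain ⟨c, rfl⟩ := Ideal.Quotient.mk_surjective c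
      show (Submodule.Quotient.mk (c • (f • m)) : M ⧸ ((maximalIdeal A).map (algebraMap A B) • (⊤ : Submodule B M))) =
        f • Submodule.Quotient.mk (c • m)
      rw [← Submodule.Quotient.mk_smul, smul_comm]
  have hu : Function.Injective (u.lTensor (ResidueField A)) := fun x y hxy => by
    refine (fibreEquiv (B := B) M).injective (h ?_)
    show f • fibreEquiv (B := B) M x = f • fibreEquiv (B := B) M y
    rw [← hcomm, ← hcomm, hxy]
  obtain ⟨hinj, hflat⟩ := Groth.FlatMorOne.injective_and_flat_coker B u hu
  refine ⟨hinj, ?_⟩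
  have heq : LinearMap.range u = (f • (⊤ : Submodule B M)).restrictScalars A := by
    ext x
    simp only [LinearMap.mem_range, Submodule.restrictScalars_mem, Submodule.mem_smul_pointwise_iff_exists,
      Submodule.mem_top, true_and]
    exact Iff.rfl
  exact Module.Flat.of_linearEquiv
    (Submodule.quotEquivOfEq _ _ heq ≪≫ₗ Submodule.Quotient.restrictScalarsEquiv A _).symm

omit [IsLocalRing A] [IsLocalRing B] [IsNoetherianRing B] [IsLocalHom (algebraMap A B)] in
theorem flat_take_zero (M : Type u) [AddCommGroup M] [Module B M] [Module A M] [IsScalarTower A B M]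
    [Module.Flat A M] (fs : List B) :
    Module.Flat A (M ⧸ (Ideal.ofList (fs.take 0) • (⊤ : Submodule B M))) :=
  Module.Flat.of_linearEquiv
    ((Submodule.quotEquivOfEqBot _ (by rw [List.take_zero, Ideal.ofList_nil, Submodule.bot_smul])).restrictScalars A)

theorem weaklyRegular_and_flat : ∀ (fs : List B) (M : Type u) [AddCommGroup M] [Module B M] [Module A M]
    [IsScalarTower A B M] [Module.Finite B M] [Module.Flat A M],
    IsWeaklyRegular (M ⧸ ((maximalIdeal A).map (algebraMap A B) • (⊤ : Submodule B M))) fs →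
    IsWeaklyRegular M fs ∧
      ∀ i ≤ fs.length, Module.Flat A (M ⧸ (Ideal.ofList (fs.take i) • (⊤ : Submodule B M)))
  | [], M, _, _, _, _, _, _, _ => ⟨IsWeaklyRegular.nil B M, fun i hi => by
      rw [List.length_nil, Nat.le_zero] at hi; subst hi; exact flat_take_zero M _⟩
  | f :: rs, M, _, _, _, _, _, _, h => by
    rw [isWeaklyRegular_cons_iff] at h
    obtain ⟨h1, h2⟩ := regular_and_flat (A := A) M f h.1
    obtain ⟨h3, h4⟩ := weaklyRegular_and_flat rs (QuotSMulTop f M)
      (((swapEquiv _ f M).isWeaklyRegular_congr _).mpr h.2)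
    refine ⟨(isWeaklyRegular_cons_iff M f rs).mpr ⟨h1, h3⟩, fun i hi => ?_⟩
    cases i with
    | zero => exact flat_take_zero M _
    | succ i =>
      haveI := h4 i (by simpa using hi)
      exact Module.Flat.of_linearEquiv
        ((Submodule.quotOfListConsSMulTopEquivQuotSMulTopInner M f (rs.take i)).restrictScalars A)

omit [IsLocalRing A] [IsLocalHom (algebraMap A B)] in
theorem flat_of_flat_quotSMulTop [IsNoetherianRing A] (M : Type u) [AddCommGroup M] [Module B M] [Module A M]
    [IsScalarTower A B M] [Module.Finite B M] (f : B) (hf : f ∈ maximalIdeal B) (hr : IsSMulRegular M f)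
    [Module.Flat A (QuotSMulTop f M)] : Module.Flat A M := by
  refine Module.Flat.iff_lTensor_injective.mpr fun J hJfg => ?_
  haveI : Module.Finite A J := Module.Finite.iff_fg.mpr hJfg
  haveI : Module.Finite B (M ⊗[A] J) := Groth.FlatMorOne.finite_tensor_left
  let μ : M ⊗[A] J →ₗ[B] M ⊗[A] A := AlgebraTensorModule.map LinearMap.id J.subtype
  let K := LinearMap.ker μ
  let l : M →ₗ[A] M := (LinearMap.lsmul B M f).restrictScalars A
  let q : M →ₗ[A] QuotSMulTop f M := (Submodule.mkQ (f • (⊤ : Submodule B M))).restrictScalars A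
  have hex : Function.Exact l q := fun x => by
    show Submodule.Quotient.mk x = 0 ↔ _
    rw [Submodule.Quotient.mk_eq_zero, Submodule.mem_smul_pointwise_iff_exists]
    exact ⟨fun ⟨y, _, hy⟩ => ⟨y, hy⟩, fun ⟨y, hy⟩ => ⟨y, trivial, hy⟩⟩
  have hlsmul : ∀ y, l.rTensor J y = f • y := fun y => by
    induction y using TensorProduct.induction_on with
    | zero => simp
    | add a b ha hb => simp only [map_add, ha, hb, smul_add]
    | tmul m j => rw [LinearMap.rTensor_tmul, smul_tmul']; rfl
  have hregT : IsSMulRegular (M ⊗[A] A) f := fun x y hxy => by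
    refine (AlgebraTensorModule.rid A B M).injective (hr ?_)
    show f • _ = f • _
    rw [← map_smul, ← map_smul]
    exact congrArg _ hxy
  have hK : K ≤ Ideal.span {f} • K := by
    intro x hx
    have h0 : q.rTensor J x = 0 := by
      refine (Module.Flat.lTensor_preserves_injective_linearMap (M := QuotSMulTop f M) J.subtype
        Subtype.val_injective) ?_
      rw [map_zero]
      show (J.subtype.lTensor _ ∘ₗ q.rTensor J) x = 0
      rw [LinearMap.lTensor_comp_rTensor, ← LinearMap.rTensor_comp_lTensor, LinearMap.comp_apply,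
        show J.subtype.lTensor M x = μ x from rfl, LinearMap.mem_ker.mp hx, map_zero]
    obtain ⟨y, rfl⟩ := (rTensor_exact J hex (Submodule.mkQ_surjective _) x).mp h0
    rw [hlsmul] at hx ⊢
    refine Submodule.smul_mem_smul (Ideal.mem_span_singleton_self f) (LinearMap.mem_ker.mpr (hregT ?_))
    show f • μ y = f • 0
    rw [smul_zero, ← map_smul]
    exact LinearMap.mem_ker.mp hx
  have hKbot : K = ⊥ := Submodule.eq_bot_of_le_smul_of_le_jacobson_bot _ _ (IsNoetherian.noetherian K) hK
    ((Ideal.span_singleton_le_iff_mem _).mpr hf |>.trans (IsLocalRing.maximalIdeal_le_jacobson _))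
  have hinj : Function.Injective μ := LinearMap.ker_eq_bot.mp hKbot
  exact hinj

omit [IsLocalHom (algebraMap A B)] in
theorem flat_quotients [IsNoetherianRing A] : ∀ (fs : List B) (M : Type u) [AddCommGroup M] [Module B M] [Module A M]
    [IsScalarTower A B M] [Module.Finite B M], (∀ f ∈ fs, f ∈ maximalIdeal B) → IsWeaklyRegular M fs →
    Module.Flat A (M ⧸ (Ideal.ofList fs • (⊤ : Submodule B M))) →
    ∀ i ≤ fs.length, Module.Flat A (M ⧸ (Ideal.ofList (fs.take i) • (⊤ : Submodule B M)))
  | [], M, _, _, _, _, _, _, _, hl => fun i _ => by rw [List.take_nil]; exact hl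
  | f :: rs, M, _, _, _, _, _, hfs, hreg, hl => by
    rw [isWeaklyRegular_cons_iff] at hreg
    haveI := hl
    have h4 := flat_quotients rs (QuotSMulTop f M) (fun g hg => hfs g (List.mem_cons_of_mem _ hg)) hreg.2
      (Module.Flat.of_linearEquiv
        ((Submodule.quotOfListConsSMulTopEquivQuotSMulTopInner M f rs).restrictScalars A).symm)
    intro i hi
    cases i with
    | zero =>
      haveI := h4 0 (Nat.zero_le _)
      haveI : Module.Flat A (QuotSMulTop f M) := Module.Flat.of_linearEquiv
        ((Submodule.quotEquivOfEqBot (Ideal.ofList (rs.take 0) • (⊤ : Submodule B (QuotSMulTop f M)))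
          (by rw [List.take_zero, Ideal.ofList_nil, Submodule.bot_smul])).restrictScalars A).symm
      haveI := flat_of_flat_quotSMulTop (A := A) M f (hfs f List.mem_cons_self) hreg.1
      exact flat_take_zero M _
    | succ i =>
      haveI := h4 i (by simpa using hi)
      exact Module.Flat.of_linearEquiv
        ((Submodule.quotOfListConsSMulTopEquivQuotSMulTopInner M f (rs.take i)).restrictScalars A)

/-- The submodule is generated by the sequence. -/
theorem eq_smul_of_fibre [IsNoetherianRing A] (M : Type u) [AddCommGroup M] [Module B M] [Module A M]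
    [IsScalarTower A B M] [Module.Finite B M] (R : Submodule B M) [Module.Flat A (M ⧸ R)] (F : Ideal B)
    (h1 : F • (⊤ : Submodule B M) ≤ R)
    (h3 : F • (⊤ : Submodule B (M ⧸ ((maximalIdeal A).map (algebraMap A B) • (⊤ : Submodule B M)))) =
      R.map ((maximalIdeal A).map (algebraMap A B) • (⊤ : Submodule B M)).mkQ) :
    R = F • (⊤ : Submodule B M) := by
  set mB := (maximalIdeal A).map (algebraMap A B) with hmB
  have hpure : ∀ x ∈ R, x ∈ mB • (⊤ : Submodule B M) → x ∈ mB • R := by
    intro x hx hxm
    have hinj := LinearMap.lTensor_injective_of_exact_of_flat ((R.mkQ).restrictScalars A)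
      (Submodule.mkQ_surjective R) (R.subtype.restrictScalars A) (Submodule.injective_subtype R)
      (LinearMap.exact_subtype_mkQ R) (ResidueField A)
    have hz : (1 : ResidueField A) ⊗ₜ[A] (⟨x, hx⟩ : R) = 0 := by
      refine hinj ?_
      rw [map_zero, LinearMap.lTensor_tmul]
      refine (fibreEquiv (B := B) M).injective ?_
      rw [map_zero]
      show Submodule.Quotient.mk ((1 : A) • x) = 0
      rw [one_smul]
      exact (Submodule.Quotient.mk_eq_zero _).mpr hxm
    have hz' := congrArg (fibreEquiv (B := B) R) hz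
    rw [map_zero] at hz'
    replace hz' : Submodule.Quotient.mk ((1 : A) • (⟨x, hx⟩ : R)) = (0 : R ⧸ (mB • (⊤ : Submodule B R))) := hz'
    rw [one_smul, Submodule.Quotient.mk_eq_zero] at hz'
    have := Submodule.mem_map_of_mem (f := R.subtype) hz'
    rwa [Submodule.map_smul'', Submodule.map_top, Submodule.range_subtype] at this
  refine le_antisymm ?_ h1
  refine Submodule.le_of_le_smul_of_le_jacobson_bot (IsNoetherian.noetherian R)
    (Groth.FlatMorOne.map_le_jacobson_of_isLocalHom (maximalIdeal.isMaximal A).ne_top) fun x hx => ?_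
  have hm : (mB • (⊤ : Submodule B M)).mkQ x ∈ F • (⊤ : Submodule B (M ⧸ (mB • (⊤ : Submodule B M)))) := h3 ▸ Submodule.mem_map_of_mem hx
  rw [← Submodule.range_mkQ (mB • (⊤ : Submodule B M)), ← Submodule.map_top, ← Submodule.map_smul''] at hm
  obtain ⟨a, ha, hax⟩ := hm
  rw [show x = a + (x - a) by abel]
  refine Submodule.add_mem_sup ha (hpure _ (sub_mem hx (h1 ha)) ?_)
  rw [← Submodule.Quotient.eq]
  exact hax.symm

end Groth.EGA41Two.FlatFibre
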