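import Mathlib.RingTheory.AdicCompletion.LocalRing
import Mathlib.RingTheory.AdicCompletion.Completeness
import Mathlib.RingTheory.Localization.Away.Lemmas
import Mathlib.RingTheory.TensorProduct.Basic
import Mathlib.RingTheory.Filtration
import Mathlib.RingTheory.Henselian
import Groth.Agent.Hensel1.Finite
import Groth.Agent.PropsBasic.GRingLocal
import Groth.Agent.Calg4.CompletionFlat
import Groth.Agent.Calg1.Completion
import Groth.Agent.AdicLinTop.Adic

/-!
The completion of a localization of a finite algebra is a factor of the base change to the completion: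
for `B` finite over `A` and a prime `n` of `B` over `p`, `(B_n)^` is `B ⊗_A (A_p)^` localized away from an
idempotent.
-/

set_option autoImplicit false
set_option synthInstance.maxHeartbeats 200000
universe u

open TensorProduct IsLocalRing

namespace Groth.EGA41Two

variable {A B : Type u} [CommRing A] [CommRing B] [Algebra A B]

/-- The completion of a local ring at a prime. -/
abbrev CplAt (p : Ideal A) [p.IsPrime] : Type u :=
  AdicCompletion (maximalIdeal (Localization.AtPrime p)) (Localization.AtPrime p)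

theorem exists_sub_mem_pow {C : Type u} [CommRing C] [IsLocalRing C] [IsNoetherianRing C]
    (y : AdicCompletion (maximalIdeal C) C) (k : ℕ) :
    ∃ c : C, y - algebraMap C _ c ∈ maximalIdeal (AdicCompletion (maximalIdeal C) C) ^ k := by
  obtain ⟨c, hc⟩ := Submodule.mkQ_surjective _ (AdicCompletion.eval (maximalIdeal C) C k y)
  refine ⟨c, ?_⟩
  rw [AdicCompletion.maximalIdeal_eq_map, ← Ideal.map_pow, ← Submodule.restrictScalars_mem C,
    ← Ideal.smul_top_eq_map, AdicCompletion.pow_smul_top_eq_ker_eval (maximalIdeal C).fg_of_isNoetherianRing,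
    LinearMap.mem_ker, map_sub, sub_eq_zero, ← hc]
  rfl

theorem mem_pow_of_algebraMap_mem_pow {C : Type u} [CommRing C] [IsLocalRing C] [IsNoetherianRing C]
    {c : C} {k : ℕ}
    (h : algebraMap C (AdicCompletion (maximalIdeal C) C) c ∈ maximalIdeal (AdicCompletion (maximalIdeal C) C) ^ k) :
    c ∈ maximalIdeal C ^ k := by
  rw [AdicCompletion.maximalIdeal_eq_map, ← Ideal.map_pow, ← Submodule.restrictScalars_mem C,
    ← Ideal.smul_top_eq_map, AdicCompletion.pow_smul_top_eq_ker_eval (maximalIdeal C).fg_of_isNoetherianRing,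
    LinearMap.mem_ker, AdicCompletion.algebraMap_apply] at h
  have h' : Submodule.Quotient.mk c = (0 : C ⧸ (maximalIdeal C ^ k • ⊤ : Submodule C C)) := h
  simpa using (Submodule.Quotient.mk_eq_zero _).mp h'

theorem bijective_of_dense {C : Type u} [CommRing C] [IsLocalRing C] [IsNoetherianRing C]
    {E : Type u} [CommRing E] [IsLocalRing E] [IsNoetherianRing E] (J : Ideal E) [IsPrecomplete J E]
    (r : ℕ) (hr : 0 < r) (hmr : maximalIdeal E ^ r ≤ J) (hJ : J ≤ maximalIdeal E)
    (ψ : E →+* AdicCompletion (maximalIdeal C) C) [IsLocalHom ψ] (ρ : C →+* E)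
    (hρ : ∀ c, ψ (ρ c) = algebraMap C _ c)
    (hdense : ∀ (x : E) (k : ℕ), ∃ c : C, x - ρ c ∈ J ^ k) :
    Function.Bijective ψ := by
  have hψm : ∀ (k : ℕ) (x : E), x ∈ maximalIdeal E ^ k →
      ψ x ∈ maximalIdeal (AdicCompletion (maximalIdeal C) C) ^ k := fun k x hx => by
    have := Ideal.mem_map_of_mem ψ hx
    rw [Ideal.map_pow] at this
    exact Ideal.pow_right_mono (((local_hom_TFAE ψ).out 0 2).mp ‹_›) k this
  have hρm : ∀ (k : ℕ) (c : C), c ∈ maximalIdeal C ^ k → ρ c ∈ maximalIdeal E ^ k := fun k c hc => by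
    have := Ideal.mem_map_of_mem ρ hc
    rw [Ideal.map_pow] at this
    refine Ideal.pow_right_mono (Ideal.map_le_iff_le_comap.mpr fun a ha => ?_) k this
    rw [Ideal.mem_comap, mem_maximalIdeal, mem_nonunits_iff]
    intro hu
    exact ha ((isUnit_map_iff (algebraMap C _) a).mp (hρ a ▸ hu.map ψ))
  constructor
  · rw [injective_iff_map_eq_zero]
    intro x hx
    have : x ∈ ⨅ k, maximalIdeal E ^ k := by
      rw [Ideal.mem_iInf]
      intro k
      obtain ⟨c, hc⟩ := hdense x k
      have h1 := hψm k _ (Ideal.pow_right_mono hJ k hc)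
      rw [map_sub, hx, zero_sub, neg_mem_iff, hρ] at h1
      have := add_mem (Ideal.pow_right_mono hJ k hc) (hρm k c (mem_pow_of_algebraMap_mem_pow h1))
      rwa [sub_add_cancel] at this
    rwa [Ideal.iInf_pow_eq_bot_of_isLocalRing _ (maximalIdeal.isMaximal E).ne_top, Ideal.mem_bot] at this
  · intro y
    choose c hc using fun k => exists_sub_mem_pow y (r * k)
    obtain ⟨x, hx⟩ := IsPrecomplete.prec (I := J) (M := E) inferInstance (f := fun k => ρ (c k)) fun {i j} hij => by
      rw [SModEq.sub_mem, smul_eq_mul, Ideal.mul_top, ← map_sub]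
      have h1 : c i - c j ∈ maximalIdeal C ^ (r * i) := by
        refine mem_pow_of_algebraMap_mem_pow ?_
        have := sub_mem (Ideal.pow_le_pow_right (Nat.mul_le_mul_left r hij) (hc j)) (hc i)
        rw [sub_sub_sub_cancel_left, ← map_sub] at this
        exact this
      exact Ideal.pow_right_mono hmr i (pow_mul (maximalIdeal E) r i ▸ hρm _ _ h1)
    refine ⟨x, sub_eq_zero.mp ?_⟩
    have : ψ x - y ∈ ⨅ k, maximalIdeal (AdicCompletion (maximalIdeal C) C) ^ k := by
      rw [Ideal.mem_iInf]
      intro k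
      have h1 := SModEq.sub_mem.mp (hx k)
      rw [smul_eq_mul, Ideal.mul_top] at h1
      have h2 := hψm k _ (Ideal.pow_right_mono hJ k h1)
      rw [map_sub, hρ] at h2
      have h3 := Ideal.pow_le_pow_right (Nat.le_mul_of_pos_left k hr) (hc k)
      have := neg_mem (add_mem h2 h3)
      convert this using 1
      ring
    have hbot : ⨅ k, maximalIdeal (AdicCompletion (maximalIdeal C) C) ^ k = ⊥ := by
      haveI := Groth.Calg1.isNoetherianRing_adicCompletion (maximalIdeal C) (IsNoetherian.noetherian _)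
      exact Ideal.iInf_pow_eq_bot_of_isLocalRing _ (maximalIdeal.isMaximal _).ne_top
    rwa [hbot, Ideal.mem_bot] at this

set_option maxHeartbeats 1000000 in
theorem exists_factor [IsNoetherianRing A] [Module.Finite A B] (n : Ideal B) [n.IsPrime] (p : Ideal A) [p.IsPrime]
    (hp : p = n.comap (algebraMap A B)) :
    ∃ ψ : B ⊗[A] CplAt p →+* CplAt n,
      (∀ b : B, ψ (b ⊗ₜ 1) = algebraMap (Localization.AtPrime n) (CplAt n) (algebraMap B _ b)) ∧
      ∃ e : B ⊗[A] CplAt p, letI := ψ.toAlgebra; IsLocalization.Away e (CplAt n) := by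
  subst hp
  set p := n.comap (algebraMap A B)
  haveI : IsNoetherianRing B := IsNoetherianRing.of_finite A B
  let f := Localization.localRingHom p n (algebraMap A B) rfl
  haveI : IsLocalHom f := Localization.isLocalHom_localRingHom p n (algebraMap A B) rfl
  have hle : (maximalIdeal (Localization.AtPrime p)).map f ≤ maximalIdeal (Localization.AtPrime n) :=
    ((local_hom_TFAE f).out 0 2).mp ‹_›
  let φ := Groth.PropsBasic.GRingLocal.cplMap _ _ f hle
  haveI : IsNoetherianRing (CplAt p) := Groth.Calg1.isNoetherianRing_adicCompletion _ (IsNoetherian.noetherian _)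
  haveI : IsNoetherianRing (CplAt n) := Groth.Calg1.isNoetherianRing_adicCompletion _ (IsNoetherian.noetherian _)
  have hφ : ∀ a, φ (algebraMap _ (CplAt p) a) = algebraMap _ (CplAt n) (f a) :=
    Groth.Calg4.cplMap_algebraMap _ _ f hle
  let ψB : B →ₐ[A] CplAt n := IsScalarTower.toAlgHom A B (CplAt n)
  let φA : CplAt p →ₐ[A] CplAt n :=
    { φ with
      commutes' := fun a => by
        show φ (algebraMap A (CplAt p) a) = _
        rw [IsScalarTower.algebraMap_apply A (Localization.AtPrime p) (CplAt p), hφ,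
          IsScalarTower.algebraMap_apply A B (CplAt n), IsScalarTower.algebraMap_apply B (Localization.AtPrime n) (CplAt n)]
        congr 1
        exact Localization.localRingHom_to_map p n (algebraMap A B) rfl a }
  let ψ : B ⊗[A] CplAt p →ₐ[A] CplAt n := Algebra.TensorProduct.lift ψB φA fun _ _ => Commute.all _ _
  letI : Algebra (CplAt p) (B ⊗[A] CplAt p) := Algebra.TensorProduct.rightAlgebra
  haveI : Module.Finite (CplAt p) (B ⊗[A] CplAt p) :=
    Module.Finite.equiv (Algebra.TensorProduct.commRight A (CplAt p) B).toLinearEquiv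
  haveI : IsScalarTower A (CplAt p) (B ⊗[A] CplAt p) := Algebra.TensorProduct.right_isScalarTower
  haveI : HenselianLocalRing (CplAt p) := Groth.Hensel1.henselianLocalRing_of_henselianRing
  obtain ⟨ι, _, e, he, hloc⟩ := Groth.Hensel1.exists_completeOrthogonalIdempotents_local (CplAt p) (B ⊗[A] CplAt p)
  obtain ⟨i, hi⟩ : ∃ i, IsUnit (ψ (e i)) := by
    by_contra! hall
    have h1 : ψ (∑ i, e i) ∈ maximalIdeal (CplAt n) := by
      rw [map_sum]; exact Ideal.sum_mem _ fun i _ => (mem_maximalIdeal _).mpr (hall i)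
    rw [he.complete, map_one] at h1
    exact (maximalIdeal.isMaximal (CplAt n)).ne_top ((Ideal.eq_top_iff_one _).mpr h1)
  have hei : ψ (e i) = 1 := by
    refine hi.mul_left_cancel ?_
    rw [mul_one, ← map_mul, (he.idem i).eq]
  haveI := hloc i
  let E := (B ⊗[A] CplAt p) ⧸ Ideal.span {1 - e i}
  letI : CommRing E := Ideal.Quotient.commRing _
  letI : Algebra (CplAt p) E := Ideal.Quotient.algebra _
  let π : (B ⊗[A] CplAt p) →+* E := Ideal.Quotient.mk _
  let ψ' : E →+* CplAt n := Ideal.Quotient.lift _ ψ.toRingHom fun x hx => by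
    obtain ⟨y, rfl⟩ := Ideal.mem_span_singleton'.mp hx
    show ψ _ = 0
    rw [map_mul, map_sub, map_one, hei, sub_self, mul_zero]
  haveI : Module.Finite (CplAt p) E := inferInstance
  haveI : IsNoetherianRing E := IsNoetherianRing.of_finite (CplAt p) E
  let J : Ideal E := (maximalIdeal (CplAt p)).map (algebraMap (CplAt p) E)
  haveI : IsAdicComplete (maximalIdeal (CplAt p)) E := Groth.AdicLinTop.Adic.isAdicComplete_of_finite
  haveI : IsAdicComplete J E :=
    (IsAdicComplete.map_algebraMap_iff (maximalIdeal (CplAt p)) E :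
      IsAdicComplete J E ↔ IsAdicComplete (maximalIdeal (CplAt p)) E).mpr ‹_›
  have hψR : ∀ x : CplAt p, ψ' (algebraMap (CplAt p) E x) = φ x := fun x => by
    show ψ ((1 : B) ⊗ₜ x) = _
    rw [Algebra.TensorProduct.lift_tmul, map_one, one_mul]
    rfl
  haveI : IsLocalHom (algebraMap (CplAt p) E) := by
    refine ⟨fun x hx => ?_⟩
    have h1 := hx.map ψ'
    rw [hψR] at h1
    by_contra hn
    have h2 : φ x ∈ maximalIdeal (CplAt n) := by
      have h3 := Ideal.mem_map_of_mem φ ((mem_maximalIdeal _).mpr hn)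
      rw [AdicCompletion.maximalIdeal_eq_map, Ideal.map_map,
        show φ.comp (algebraMap _ (CplAt p)) = (algebraMap _ (CplAt n)).comp f from RingHom.ext hφ,
        ← Ideal.map_map] at h3
      rw [AdicCompletion.maximalIdeal_eq_map]
      exact Ideal.map_mono hle h3
    exact (mem_maximalIdeal _).mp h2 h1
  have hJm : J ≤ maximalIdeal E := ((local_hom_TFAE _).out 0 2).mp ‹_›
  haveI : IsLocalHom ψ' := by
    have hq : (maximalIdeal (CplAt n)).comap ψ' = maximalIdeal E := by
      refine IsLocalRing.eq_maximalIdeal ?_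
      haveI : Algebra.IsIntegral (CplAt p) E := Algebra.IsIntegral.of_finite _ _
      refine Ideal.isMaximal_of_isIntegral_of_isMaximal_comap (R := CplAt p) _ ?_
      have h4 : maximalIdeal (CplAt p) ≤ ((maximalIdeal (CplAt n)).comap ψ').comap (algebraMap (CplAt p) E) := by
        intro x hx
        rw [Ideal.mem_comap, Ideal.mem_comap, hψR]
        have h3 := Ideal.mem_map_of_mem φ hx
        rw [AdicCompletion.maximalIdeal_eq_map, Ideal.map_map,
          show φ.comp (algebraMap _ (CplAt p)) = (algebraMap _ (CplAt n)).comp f from RingHom.ext hφ,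
          ← Ideal.map_map] at h3
        rw [AdicCompletion.maximalIdeal_eq_map]
        exact Ideal.map_mono hle h3
      rw [← (maximalIdeal.isMaximal (CplAt p)).eq_of_le (Ideal.IsPrime.ne_top inferInstance) h4]
      exact maximalIdeal.isMaximal _
    exact ((local_hom_TFAE ψ').out 0 4).mpr hq
  let bE : B →+* E := π.comp (Algebra.TensorProduct.includeLeft (R := A) (S := A) (A := B) (B := CplAt p)).toRingHom
  have hbE : ∀ b, ψ' (bE b) = algebraMap (Localization.AtPrime n) (CplAt n) (algebraMap B _ b) := fun b => by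
    show ψ (b ⊗ₜ (1 : CplAt p)) = _
    rw [Algebra.TensorProduct.lift_tmul, map_one, mul_one]
    exact IsScalarTower.algebraMap_apply B (Localization.AtPrime n) (CplAt n) b
  have hunit : ∀ s : n.primeCompl, IsUnit (bE s) := fun s => by
    refine (isUnit_map_iff ψ' _).mp ?_
    rw [hbE]
    exact (IsLocalization.map_units (Localization.AtPrime n) s).map _
  let ρ : Localization.AtPrime n →+* E := IsLocalization.lift hunit
  have hρ : ∀ c, ψ' (ρ c) = algebraMap _ (CplAt n) c := by
    intro c
    refine RingHom.congr_fun (f := ψ'.comp ρ) ?_ c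
    refine IsLocalization.ringHom_ext n.primeCompl (RingHom.ext fun b => ?_)
    simp [ρ, hbE]
  have hρf : ∀ a, ρ (f a) = algebraMap (CplAt p) E (algebraMap _ (CplAt p) a) := by
    intro a
    refine RingHom.congr_fun (f := ρ.comp f)
      (g := (algebraMap (CplAt p) E).comp (algebraMap _ (CplAt p))) ?_ a
    refine IsLocalization.ringHom_ext p.primeCompl (RingHom.ext fun x => ?_)
    simp only [RingHom.comp_apply, ρ]
    rw [show f (algebraMap A _ x) = algebraMap B _ (algebraMap A B x) from
      Localization.localRingHom_to_map p n (algebraMap A B) rfl x, IsLocalization.lift_eq,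
      ← IsScalarTower.algebraMap_apply A (Localization.AtPrime p) (CplAt p),
      ← IsScalarTower.algebraMap_apply A (CplAt p) E]
    show π (algebraMap A B x ⊗ₜ (1 : CplAt p)) = π (algebraMap A (B ⊗[A] CplAt p) x)
    rfl
  have hdense : ∀ (x : E) (k : ℕ), ∃ c, x - ρ c ∈ J ^ k := by
    intro x k
    obtain ⟨x, rfl⟩ := Ideal.Quotient.mk_surjective x
    induction x using TensorProduct.induction_on with
    | zero => exact ⟨0, by simp⟩
    | add x y hx hy =>
      obtain ⟨c, hc⟩ := hx
      obtain ⟨d, hd⟩ := hy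
      exact ⟨c + d, by rw [map_add, map_add, add_sub_add_comm]; exact add_mem hc hd⟩
    | tmul b y =>
      obtain ⟨a, ha⟩ := exists_sub_mem_pow y k
      refine ⟨algebraMap B _ b * f a, ?_⟩
      have h1 : π (b ⊗ₜ y) = bE b * algebraMap (CplAt p) E y := by
        show _ = π (b ⊗ₜ[A] (1 : CplAt p)) * π ((1 : B) ⊗ₜ[A] y)
        rw [← map_mul, Algebra.TensorProduct.tmul_mul_tmul, mul_one, one_mul]
      show π (b ⊗ₜ y) - _ ∈ _
      rw [h1, map_mul, hρf, show ρ (algebraMap B _ b) = bE b from IsLocalization.lift_eq hunit b,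
        ← mul_sub, ← map_sub, ← Ideal.map_pow]
      exact Ideal.mul_mem_left _ _ (Ideal.mem_map_of_mem _ ha)
  obtain ⟨r, hr⟩ : ∃ r, maximalIdeal E ^ r ≤ J := by
    haveI : Module.Finite (CplAt p ⧸ maximalIdeal (CplAt p)) (E ⧸ J) :=
      Module.Finite.of_restrictScalars_finite (CplAt p) _ _
    haveI : IsArtinianRing (CplAt p ⧸ maximalIdeal (CplAt p)) := inferInstanceAs (IsArtinianRing (ResidueField (CplAt p)))
    haveI : IsArtinianRing (E ⧸ J) := IsArtinianRing.of_finite (CplAt p ⧸ maximalIdeal (CplAt p)) _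
    haveI : Nontrivial (E ⧸ J) := Ideal.Quotient.nontrivial_iff.mpr
      (ne_top_of_le_ne_top (maximalIdeal.isMaximal E).ne_top hJm)
    obtain ⟨r, hr⟩ := IsArtinianRing.isNilpotent_jacobson_bot (R := E ⧸ J)
    refine ⟨r, ?_⟩
    rw [← Ideal.mk_ker (I := J), ← Ideal.map_eq_bot_iff_le_ker, Ideal.map_pow, eq_bot_iff,
      ← Ideal.zero_eq_bot, ← hr]
    refine Ideal.pow_right_mono ?_ r
    haveI : IsLocalRing (E ⧸ J) := IsLocalRing.of_surjective' (Ideal.Quotient.mk J) Ideal.Quotient.mk_surjective
    rw [IsLocalRing.jacobson_eq_maximalIdeal ⊥ bot_ne_top]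
    exact IsLocalRing.le_maximalIdeal fun htop => (maximalIdeal.isMaximal E).ne_top (top_le_iff.mp (by
      have := congrArg (Ideal.comap (Ideal.Quotient.mk J)) htop
      rw [Ideal.comap_map_of_surjective' _ Ideal.Quotient.mk_surjective, Ideal.mk_ker, sup_eq_left.mpr hJm,
        Ideal.comap_top] at this
      exact this.ge))
  have hbij : Function.Bijective ψ' :=
    bijective_of_dense J (r + 1) r.succ_pos ((Ideal.pow_le_pow_right r.le_succ).trans hr) hJm ψ' ρ hρ hdense
  refine ⟨ψ.toRingHom, fun b => hbE b, e i, ?_⟩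
  letI := ψ.toRingHom.toAlgebra
  have hker : RingHom.ker ψ.toRingHom = Ideal.span {1 - e i} := by
    ext x
    rw [RingHom.mem_ker, ← Ideal.Quotient.eq_zero_iff_mem, ← map_eq_zero_iff ψ' hbij.1]
    rfl
  exact IsLocalization.away_of_isIdempotentElem (he.idem i) hker fun y => by
    obtain ⟨x, hx⟩ := hbij.2 y
    obtain ⟨x, rfl⟩ := Ideal.Quotient.mk_surjective x
    exact ⟨x, hx⟩

end Groth.EGA41Two
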