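import Groth.Agent.EGA41Two.MonicVars
import Groth.Agent.EGA41Two.RegularLift
import Mathlib.Algebra.MvPolynomial.PDeriv
import Mathlib.RingTheory.Ideal.Cotangent
import Mathlib.RingTheory.Nakayama
import Mathlib.Algebra.Module.SpanRankOperations
import Mathlib.LinearAlgebra.Dimension.Constructions
import Mathlib.LinearAlgebra.Dimension.OrzechProperty
import Mathlib.RingTheory.Derivation.Basic

/-! Regularity of `A[T]/(f_i(T_i))` for Eisenstein-like `f_i`. -/

universe u

open IsLocalRing MvPolynomial Module
open Groth.EGA41Two.MonicVars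

namespace Groth.EGA41Two.MonicVars

variable {A : Type u} [CommRing A] [IsRegularLocalRing A] {r : ℕ} (f : Fin r → Polynomial A)
  (hmon : ∀ i, (f i).Monic) (d : Fin r → ℕ) (hd : ∀ i, 2 ≤ d i)
  (hres : ∀ i, (f i).map (residue A) = Polynomial.X ^ d i)
  (x : Fin r → maximalIdeal A) (hx : ∀ i, (x i : A) = (f i).coeff 0)

omit [IsRegularLocalRing A] in
include hmon in
theorem algebraMap_injective [Nontrivial A] (hdeg : ∀ i, 0 < (f i).natDegree) :
    Function.Injective (algebraMap A (MvPolynomial (Fin r) A ⧸ finIdeal f)) := by
  obtain ⟨hfree, hrank⟩ := free_finrank f hmon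
  let b := Module.Free.chooseBasis A (MvPolynomial (Fin r) A ⧸ finIdeal f)
  have : Nontrivial (MvPolynomial (Fin r) A ⧸ finIdeal f) := Module.nontrivial_of_finrank_pos (R := A)
    (by rw [hrank]; exact Finset.prod_pos fun i _ => hdeg i)
  have hne : Nonempty (Module.Free.ChooseBasisIndex A (MvPolynomial (Fin r) A ⧸ finIdeal f)) := b.index_nonempty
  obtain ⟨j⟩ := hne
  rw [injective_iff_map_eq_zero]
  intro a ha
  have h : b.repr (a • b j) j = 0 := by
    rw [show a • b j = algebraMap A _ a * b j from Algebra.smul_def a (b j), ha, zero_mul, map_zero]; rfl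
  simpa using h

include hmon hd hres in
theorem ringKrullDim_eq : ringKrullDim A = ringKrullDim (MvPolynomial (Fin r) A ⧸ finIdeal f) := by
  have := integral f hmon
  refine ringKrullDim_eq_of_isIntegral_of_injective (algebraMap_injective f hmon fun i => ?_)
  rw [← (hmon i).natDegree_map (residue A), hres, Polynomial.natDegree_X_pow]
  exact lt_of_lt_of_le two_pos (hd i)

include hmon hd hres hx in
theorem isRegularLocalRing_of_linearIndependent
    (hli : LinearIndependent (ResidueField A) fun i => (maximalIdeal A).toCotangent (x i)) :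
    IsRegularLocalRing (MvPolynomial (Fin r) A ⧸ finIdeal f) := by
  classical
  have hd0 : ∀ i, 0 < d i := fun i => lt_of_lt_of_le two_pos (hd i)
  have hloc := MonicVars.isLocalRing f hmon d hd0 hres
  have : IsNoetherianRing (MvPolynomial (Fin r) A ⧸ finIdeal f) := inferInstance
  refine IsRegularLocalRing.of_spanFinrank_maximalIdeal_le _ ?_
  rw [← ringKrullDim_eq f hmon d hd hres, ← IsRegularLocalRing.spanFinrank_maximalIdeal (R := A)]
  norm_cast
  rw [spanFinrank_maximalIdeal_eq_finrank_cotangentSpace A, maximalIdeal_eq f hmon d hd0 hres]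
  let W : Submodule (ResidueField A) (CotangentSpace A) :=
    Submodule.span (ResidueField A) (Set.range fun i => (maximalIdeal A).toCotangent (x i))
  obtain ⟨U, hU⟩ := exists_isCompl W
  have hW : finrank (ResidueField A) W = r := by
    rw [finrank_span_eq_card hli, Fintype.card_fin]
  let u := Module.finBasis (ResidueField A) U
  choose y hy using fun j => (maximalIdeal A).toCotangent_surjective ((u j : CotangentSpace A))
  have hspan : Submodule.span A (Set.range x ∪ Set.range y) = (⊤ : Submodule A (maximalIdeal A)) := by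
    rw [← CotangentSpace.span_image_eq_top_iff, Set.image_union, ← Set.range_comp, ← Set.range_comp,
      Submodule.span_union]
    have hUspan : Submodule.span (ResidueField A) (Set.range ((maximalIdeal A).toCotangent ∘ y)) = U := by
      rw [show (maximalIdeal A).toCotangent ∘ y = U.subtype ∘ u from funext hy, Set.range_comp,
        Submodule.span_image, u.span_eq, Submodule.map_top, Submodule.range_subtype]
    rw [hUspan]
    exact hU.sup_eq_top
  let gens : Finset (MvPolynomial (Fin r) A ⧸ finIdeal f) :=
    Finset.univ.image (fun i => Ideal.Quotient.mk (finIdeal f) (MvPolynomial.X i)) ∪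
      Finset.univ.image (fun j => algebraMap A _ (y j : A))
  have hgens : (gens : Set (MvPolynomial (Fin r) A ⧸ finIdeal f)) ⊆ maxIdeal f := by
    intro z hz
    simp only [gens, Finset.coe_union, Finset.coe_image, Finset.coe_univ, Set.image_univ, Set.mem_union,
      Set.mem_range] at hz
    rcases hz with ⟨i, rfl⟩ | ⟨j, rfl⟩
    · exact Ideal.mem_sup_right (Ideal.subset_span ⟨i, rfl⟩)
    · exact Ideal.mem_sup_left (Ideal.mem_map_of_mem _ (y j).2)
  have key : maxIdeal f ≤ Ideal.span gens ⊔ maxIdeal f ^ 2 := by
    have hm : (maximalIdeal A) = Submodule.map (maximalIdeal A).subtype (Submodule.span A (Set.range x ∪ Set.range y)) := by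
      rw [hspan, Submodule.map_top, Submodule.range_subtype]
    refine sup_le (Ideal.map_le_iff_le_comap.mpr ?_) ?_
    · rw [hm, Submodule.map_span, Submodule.span_le]
      rintro _ ⟨z, hz | hz, rfl⟩ <;> obtain ⟨i, rfl⟩ := hz
      · refine Submodule.mem_sup_right (S := Ideal.span (gens : Set (MvPolynomial (Fin r) A ⧸ finIdeal f))) ?_
        rw [show ((maximalIdeal A).subtype (x i) : A) = (f i).coeff 0 from hx i]
        exact coeff_zero_mem_sq f hmon d hres hd i
      · refine Submodule.mem_sup_left (T := maxIdeal f ^ 2) (Ideal.subset_span ?_)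
        simp [gens]
    · refine Ideal.span_le.mpr ?_
      rintro _ ⟨i, rfl⟩
      exact Submodule.mem_sup_left (Ideal.subset_span (by simp [gens]))
  have heq : maxIdeal f = Ideal.span gens := by
    refine le_antisymm ?_ (Ideal.span_le.mpr hgens)
    refine Submodule.le_of_le_smul_of_le_jacobson_bot (IsNoetherian.noetherian _)
      (le_of_eq_of_le (maximalIdeal_eq f hmon d hd0 hres).symm (maximalIdeal_le_jacobson _)) ?_
    rwa [smul_eq_mul, ← pow_two]
  rw [heq]
  refine (Submodule.spanFinrank_span_le_ncard_of_finite gens.finite_toSet).trans ?_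
  rw [Set.ncard_coe_finset]
  refine (Finset.card_union_le _ _).trans ((add_le_add Finset.card_image_le Finset.card_image_le).trans ?_)
  rw [Finset.card_univ, Finset.card_univ, Fintype.card_fin, Fintype.card_fin, ← Submodule.finrank_add_eq_of_isCompl hU,
    hW]

include hmon hd hres hx in
theorem linearIndependent_of_isRegularLocalRing [IsRegularLocalRing (MvPolynomial (Fin r) A ⧸ finIdeal f)] :
    LinearIndependent (ResidueField A) fun i => (maximalIdeal A).toCotangent (x i) := by
  classical
  have hd0 : ∀ i, 0 < d i := fun i => lt_of_lt_of_le two_pos (hd i)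
  set W : Submodule (ResidueField A) (CotangentSpace A) :=
    Submodule.span (ResidueField A) (Set.range fun i => (maximalIdeal A).toCotangent (x i))
  let P := RingHom.ker ((residue A).comp (MvPolynomial.constantCoeff : MvPolynomial (Fin r) A →+* A))
  have hP : ∀ z : P, MvPolynomial.constantCoeff z.1 ∈ maximalIdeal A := fun z => (residue_eq_zero_iff _).mp z.2
  let θ : P →+ (CotangentSpace A ⧸ W) × (Fin r → ResidueField A) :=
    { toFun := fun z => (Submodule.Quotient.mk ((maximalIdeal A).toCotangent ⟨_, hP z⟩),
        fun i => residue A (MvPolynomial.constantCoeff (pderiv i z.1)))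
      map_zero' := by
        refine Prod.ext ?_ (funext fun i => ?_)
        · show Submodule.Quotient.mk ((maximalIdeal A).toCotangent ⟨MvPolynomial.constantCoeff (0 : MvPolynomial (Fin r) A), _⟩) = 0
          simp only [map_zero]
          exact (congrArg _ (map_zero (maximalIdeal A).toCotangent)).trans (Submodule.Quotient.mk_zero W)
        · simp
      map_add' := fun a b => by
        refine Prod.ext ?_ (funext fun i => ?_)
        · show Submodule.Quotient.mk _ = Submodule.Quotient.mk _ + Submodule.Quotient.mk _
          rw [← Submodule.Quotient.mk_add, ← map_add]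
          congr 2
        · simp }
  have hmul : ∀ (Q : MvPolynomial (Fin r) A) (z : P),
      θ ⟨Q * z.1, P.mul_mem_left Q z.2⟩ = residue A (MvPolynomial.constantCoeff Q) • θ z := by
    intro Q z
    refine Prod.ext ?_ (funext fun i => ?_)
    · show Submodule.Quotient.mk _ = residue A (MvPolynomial.constantCoeff Q) • Submodule.Quotient.mk _
      rw [← Submodule.Quotient.mk_smul]
      congr 1
      rw [show (⟨MvPolynomial.constantCoeff (Q * z.1), hP ⟨Q * z.1, P.mul_mem_left Q z.2⟩⟩ : maximalIdeal A) =
        MvPolynomial.constantCoeff Q • (⟨MvPolynomial.constantCoeff z.1, hP z⟩ : maximalIdeal A) from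
        Subtype.ext (map_mul _ _ _), map_smul]
      exact (algebraMap_smul (ResidueField A) _ _).symm
    · show residue A (MvPolynomial.constantCoeff (pderiv i (Q * z.1))) =
        residue A (MvPolynomial.constantCoeff Q) * residue A (MvPolynomial.constantCoeff (pderiv i z.1))
      rw [pderiv_mul, map_add, map_mul, map_mul, map_add, map_mul, map_mul,
        (residue_eq_zero_iff _).mpr (hP z), mul_zero, zero_add]
  have hgen : ∀ i, ∃ h : Polynomial.aeval (MvPolynomial.X i : MvPolynomial (Fin r) A) (f i) ∈ P, θ ⟨_, h⟩ = 0 := by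
    intro i
    have hcc : ∀ p : Polynomial A, MvPolynomial.constantCoeff
        (Polynomial.aeval (MvPolynomial.X i : MvPolynomial (Fin r) A) p) = p.coeff 0 := by
      intro p
      induction p using Polynomial.induction_on with
      | C a => simp
      | add p q hp hq => simp [hp, hq]
      | monomial n a _ => simp
    refine ⟨by
      show residue A (MvPolynomial.constantCoeff _) = 0
      rw [hcc, ← hx]; exact (residue_eq_zero_iff _).mpr (x i).2, ?_⟩
    refine Prod.ext ?_ (funext fun j => ?_)
    · show Submodule.Quotient.mk _ = 0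
      rw [Submodule.Quotient.mk_eq_zero]
      refine Submodule.subset_span ⟨i, ?_⟩
      show (maximalIdeal A).toCotangent (x i) = _
      congr 1
      exact Subtype.ext ((hx i).trans (hcc _).symm)
    · show residue A (MvPolynomial.constantCoeff (pderiv j _)) = 0
      rw [Derivation.map_aeval, smul_eq_mul, map_mul, hcc, Polynomial.coeff_derivative, map_mul]
      have hc1 : residue A ((f i).coeff (0 + 1)) = 0 :=
        (residue_eq_zero_iff _).mpr (coeff_mem f d hres (by have := hd i; omega))
      rw [map_mul, hc1, zero_mul, zero_mul]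
  have hrel : ∀ z, z ∈ finIdeal f → ∃ h : z ∈ P, θ ⟨z, h⟩ = 0 := by
    intro z hz
    refine Submodule.span_induction ?_ ?_ ?_ ?_ hz
    · rintro _ ⟨i, rfl⟩; exact hgen i
    · exact ⟨zero_mem _, map_zero θ⟩
    · rintro a b - - ⟨ha, ha0⟩ ⟨hb, hb0⟩
      exact ⟨add_mem ha hb, by rw [show (⟨a + b, add_mem ha hb⟩ : P) = ⟨a, ha⟩ + ⟨b, hb⟩ from rfl, map_add, ha0, hb0, add_zero]⟩
    · rintro Q a - ⟨ha, ha0⟩
      exact ⟨P.mul_mem_left Q ha, by
        have := hmul Q ⟨a, ha⟩
        rw [ha0, smul_zero] at this
        exact this⟩
  have hmk : ∀ p, p ∈ P ↔ Ideal.Quotient.mk (finIdeal f) p ∈ maximalIdeal (MvPolynomial (Fin r) A ⧸ finIdeal f) := by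
    have hPmax : P.IsMaximal := RingHom.ker_isMaximal_of_surjective _ fun z => by
      obtain ⟨a, rfl⟩ := residue_surjective z
      exact ⟨MvPolynomial.C a, by simp⟩
    have hle : finIdeal f ≤ P := fun z hz => (hrel z hz).1
    have hcm : (P.map (Ideal.Quotient.mk (finIdeal f))).comap (Ideal.Quotient.mk (finIdeal f)) = P := by
      rw [Ideal.comap_map_of_surjective' _ Ideal.Quotient.mk_surjective, Ideal.mk_ker, sup_eq_left.mpr hle]
    have hmax : (P.map (Ideal.Quotient.mk (finIdeal f))).IsMaximal := by
      refine (Ideal.map_eq_top_or_isMaximal_of_surjective _ Ideal.Quotient.mk_surjective hPmax).resolve_left fun h => ?_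
      rw [h, Ideal.comap_top] at hcm
      exact hPmax.ne_top hcm.symm
    intro p
    rw [← IsLocalRing.eq_maximalIdeal hmax, ← Ideal.mem_comap, hcm]
  have hfg := IsNoetherian.noetherian (maximalIdeal (MvPolynomial (Fin r) A ⧸ finIdeal f))
  set S := (maximalIdeal (MvPolynomial (Fin r) A ⧸ finIdeal f)).generators with hS
  have : Fintype S := (Submodule.FG.finite_generators hfg).fintype
  choose g hg using fun s : S => Ideal.Quotient.mk_surjective (I := finIdeal f) s.1
  have hgP : ∀ s, g s ∈ P := fun s => (hmk _).mpr (by
    rw [hg s]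
    exact (Submodule.span_generators _).le (Submodule.subset_span s.2))
  have htop : Submodule.span (ResidueField A) (Set.range fun s => θ ⟨g s, hgP s⟩) = ⊤ := by
    rw [eq_top_iff]
    rintro ⟨q, w⟩ -
    obtain ⟨q, rfl⟩ := Submodule.Quotient.mk_surjective _ q
    obtain ⟨a, rfl⟩ := (maximalIdeal A).toCotangent_surjective q
    choose wl hwl using fun i => residue_surjective (w i)
    let z : MvPolynomial (Fin r) A := MvPolynomial.C (a : A) + ∑ i, MvPolynomial.C (wl i) * MvPolynomial.X i
    have hzP : z ∈ P := by
      show residue A (MvPolynomial.constantCoeff z) = 0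
      simp [z, (residue_eq_zero_iff _).mpr a.2]
    have hθz : θ ⟨z, hzP⟩ = (Submodule.Quotient.mk ((maximalIdeal A).toCotangent a), w) := by
      refine Prod.ext ?_ (funext fun i => ?_)
      · show Submodule.Quotient.mk _ = Submodule.Quotient.mk _
        congr 2
        exact Subtype.ext (by simp [z])
      · show residue A (MvPolynomial.constantCoeff (pderiv i z)) = w i
        rw [← hwl i]
        simp [z, pderiv_X, Pi.single_apply, apply_ite MvPolynomial.constantCoeff]
    rw [← hθz]
    have hmem : Ideal.Quotient.mk (finIdeal f) z ∈ Ideal.span (Set.range fun s : S => Ideal.Quotient.mk (finIdeal f) (g s)) := by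
      rw [show (fun s : S => Ideal.Quotient.mk (finIdeal f) (g s)) = Subtype.val from funext hg, Subtype.range_coe]
      exact (Submodule.span_generators _).ge ((hmk z).mp hzP)
    obtain ⟨b, hb⟩ := (Submodule.mem_span_range_iff_exists_fun _).mp hmem
    choose bl hbl using fun s => Ideal.Quotient.mk_surjective (I := finIdeal f) (b s)
    have hrelz : z - ∑ s, bl s * g s ∈ finIdeal f := by
      rw [← Ideal.Quotient.eq, map_sum, ← hb]
      exact Finset.sum_congr rfl fun s _ => by rw [map_mul, hbl, smul_eq_mul]
    obtain ⟨h1, h2⟩ := hrel _ hrelz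
    have hdec : (⟨z, hzP⟩ : P) = ⟨_, h1⟩ + ∑ s, (⟨bl s * g s, P.mul_mem_left _ (hgP s)⟩ : P) := by
      refine Subtype.ext ?_
      rw [Submodule.coe_add, Submodule.coe_sum]
      exact (sub_add_cancel _ _).symm
    rw [hdec, map_add, h2, zero_add, map_sum]
    refine Submodule.sum_mem _ fun s _ => ?_
    rw [hmul (bl s) ⟨g s, hgP s⟩]
    exact Submodule.smul_mem _ _ (Submodule.subset_span ⟨s, rfl⟩)
  have hcard := (finrank_range_le_card (R := ResidueField A) fun s => θ ⟨g s, hgP s⟩)
  rw [Set.finrank, htop, finrank_top, Module.finrank_prod, Module.finrank_pi, Fintype.card_fin] at hcard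
  have hn : Fintype.card S = finrank (ResidueField A) (CotangentSpace A) := by
    rw [← Nat.card_eq_fintype_card, Nat.card_coe_set_eq, Submodule.FG.generators_ncard hfg,
      ← spanFinrank_maximalIdeal_eq_finrank_cotangentSpace]
    have h1 := IsRegularLocalRing.spanFinrank_maximalIdeal (R := A)
    have h2 := IsRegularLocalRing.spanFinrank_maximalIdeal (R := MvPolynomial (Fin r) A ⧸ finIdeal f)
    rw [← ringKrullDim_eq f hmon d hd hres, ← h1] at h2
    exact_mod_cast h2
  have hq := Submodule.finrank_quotient_add_finrank W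
  have hWle : finrank (ResidueField A) W ≤ r :=
    (finrank_range_le_card fun i => (maximalIdeal A).toCotangent (x i)).trans_eq (Fintype.card_fin r)
  refine linearIndependent_iff_card_eq_finrank_span.mpr ?_
  show Fintype.card (Fin r) = finrank (ResidueField A) W
  rw [Fintype.card_fin]
  omega

end Groth.EGA41Two.MonicVars
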