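import Groth.Agent.EGA41Two.QuasiRegularConv
import Groth.Agent.Ega4Algebra2.RsopRegular
import Mathlib.RingTheory.KrullDimension.Regular
import Mathlib.RingTheory.Length
import Mathlib.Algebra.Order.Antidiag.FinsuppEquiv

/-! Lengths of the quotients by powers of the maximal ideal and quasi-regularity. -/

universe u

open IsLocalRing MvPolynomial

namespace Groth.EGA41Two.GrLength

variable {A : Type u} [CommRing A] [IsLocalRing A] {r : ℕ} (f : Fin r → A)

/-- Monomials of degree `n`. -/
abbrev Mon (r n : ℕ) : Type := ↥((Finset.univ : Finset (Fin r)).finsuppAntidiag n)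

theorem sum_eq_of_mem {n : ℕ} (d : Mon r n) : ∑ i, (d : Fin r →₀ ℕ) i = n := by
  simpa using (Finset.mem_finsuppAntidiag.mp d.2).1

theorem prod_pow_mem_pow (hf : ∀ i, f i ∈ maximalIdeal A) (e : Fin r → ℕ) :
    ∏ i, f i ^ e i ∈ maximalIdeal A ^ (∑ i, e i) := by
  classical
  rw [← Finset.prod_pow_eq_pow_sum]
  exact Ideal.prod_mem_prod fun i _ => Ideal.pow_mem_pow (hf i) _

/-- The monomials of degree `n` in `m^n/m^(n+1)`. -/
noncomputable def Φ (hf : ∀ i, f i ∈ maximalIdeal A) (n : ℕ) :
    (Mon r n →₀ (A ⧸ maximalIdeal A)) →ₗ[A] A ⧸ maximalIdeal A ^ (n + 1) :=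
  Finsupp.lsum A fun d : Mon r n => Submodule.liftQ (maximalIdeal A)
    (LinearMap.toSpanSingleton A _ (Ideal.Quotient.mk _ (∏ i, f i ^ (d : Fin r →₀ ℕ) i))) fun a ha => by
      rw [LinearMap.mem_ker, LinearMap.toSpanSingleton_apply,
        ← Ideal.Quotient.mk_eq_mk, ← Submodule.Quotient.mk_smul, Submodule.Quotient.mk_eq_zero, smul_eq_mul,
        pow_succ']
      exact Ideal.mul_mem_mul ha (by simpa [sum_eq_of_mem d] using prod_pow_mem_pow f hf (fun i => (d : Fin r →₀ ℕ) i))

/-- The polynomial with given coefficients. -/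
noncomputable def poly {n : ℕ} (a : Mon r n → A) : MvPolynomial (Fin r) A :=
  ∑ d : Mon r n, monomial (d : Fin r →₀ ℕ) (a d)

theorem poly_isHomogeneous {n : ℕ} (a : Mon r n → A) : (poly a).IsHomogeneous n := by
  refine IsHomogeneous.sum _ _ n fun d _ => isHomogeneous_monomial _ ?_
  rw [Finsupp.degree_eq_sum]
  exact sum_eq_of_mem d

theorem coeff_poly {n : ℕ} (a : Mon r n → A) (d : Mon r n) : (poly a).coeff (d : Fin r →₀ ℕ) = a d := by
  classical
  rw [poly, coeff_sum, Finset.sum_eq_single d (fun e _ he => by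
    rw [coeff_monomial, if_neg fun h => he (Subtype.ext h)]) (by simp), coeff_monomial, if_pos rfl]

theorem poly_coeff {n : ℕ} (P : MvPolynomial (Fin r) A) (hP : P.IsHomogeneous n) :
    poly (fun d : Mon r n => P.coeff (d : Fin r →₀ ℕ)) = P := by
  classical
  ext e
  by_cases he : e ∈ (Finset.univ : Finset (Fin r)).finsuppAntidiag n
  · exact coeff_poly _ ⟨e, he⟩
  · rw [hP.coeff_eq_zero fun h => he (Finset.mem_finsuppAntidiag.mpr ⟨by
      rw [← h, Finsupp.degree_eq_sum], Finset.subset_univ _⟩), poly, coeff_sum]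
    refine Finset.sum_eq_zero fun d _ => ?_
    rw [coeff_monomial, if_neg fun h : (d : Fin r →₀ ℕ) = e => he (h ▸ d.2)]

theorem eval_poly (hf : ∀ i, f i ∈ maximalIdeal A) {n : ℕ} (a : Mon r n → A) :
    Φ f hf n (Finsupp.equivFunOnFinite.symm fun d => Ideal.Quotient.mk (maximalIdeal A) (a d)) =
      Ideal.Quotient.mk _ (eval f (poly a)) := by
  classical
  rw [poly, map_sum, map_sum, Φ, Finsupp.lsum_apply, Finsupp.sum_fintype _ _ fun d => map_zero _]
  refine Finset.sum_congr rfl fun d _ => ?_
  rw [eval_monomial, Finsupp.prod_fintype _ _ fun i => pow_zero _, map_mul]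
  rfl

theorem range_Φ (hf : ∀ i, f i ∈ maximalIdeal A) (hspan : Ideal.span (Set.range f) = maximalIdeal A) (n : ℕ) :
    LinearMap.range (Φ f hf n) = Submodule.map (Submodule.mkQ (maximalIdeal A ^ (n + 1))) (maximalIdeal A ^ n) := by
  classical
  apply le_antisymm
  · rintro _ ⟨v, rfl⟩
    choose a ha using fun d => Ideal.Quotient.mk_surjective (v d)
    have hv : v = Finsupp.equivFunOnFinite.symm fun d => Ideal.Quotient.mk (maximalIdeal A) (a d) := by
      ext d
      exact (ha d).symm
    rw [hv, eval_poly]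
    refine ⟨_, ?_, rfl⟩
    have h := Groth.EGA41Two.eval_mem_pow f (Groth.EGA41Two.isForm_self (poly_isHomogeneous a))
    rwa [Groth.EGA41Two.headSpan_self, hspan] at h
  · rintro _ ⟨x, hx, rfl⟩
    obtain ⟨P, hP, rfl⟩ := Groth.EGA41Two.exists_homogeneous f (hspan.symm ▸ hx)
    refine ⟨_, (eval_poly f hf fun d : Mon r n => P.coeff (d : Fin r →₀ ℕ)).trans ?_⟩
    rw [poly_coeff P hP]
    rfl

theorem injective_Φ_iff (hf : ∀ i, f i ∈ maximalIdeal A) (hspan : Ideal.span (Set.range f) = maximalIdeal A) (n : ℕ) :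
    Function.Injective (Φ f hf n) ↔ ∀ P : MvPolynomial (Fin r) A, P.IsHomogeneous n →
      eval f P ∈ Ideal.span (Set.range f) ^ (n + 1) → ∀ d, P.coeff d ∈ Ideal.span (Set.range f) := by
  classical
  rw [hspan]
  constructor
  · intro h P hP he d
    by_cases hd : d ∈ (Finset.univ : Finset (Fin r)).finsuppAntidiag n
    · have h0 : Φ f hf n (Finsupp.equivFunOnFinite.symm fun e : Mon r n =>
          Ideal.Quotient.mk (maximalIdeal A) (P.coeff (e : Fin r →₀ ℕ))) = 0 := by
        rw [eval_poly, poly_coeff P hP, Ideal.Quotient.eq_zero_iff_mem]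
        exact he
      have := DFunLike.congr_fun ((map_eq_zero_iff _ h).mp h0) ⟨d, hd⟩
      exact Ideal.Quotient.eq_zero_iff_mem.mp this
    · rw [hP.coeff_eq_zero fun h => hd (Finset.mem_finsuppAntidiag.mpr ⟨by
        rw [← h, Finsupp.degree_eq_sum], Finset.subset_univ _⟩)]
      exact zero_mem _
  · intro h
    rw [injective_iff_map_eq_zero]
    intro v hv
    choose a ha using fun d => Ideal.Quotient.mk_surjective (v d)
    have hva : v = Finsupp.equivFunOnFinite.symm fun d => Ideal.Quotient.mk (maximalIdeal A) (a d) := by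
      ext d
      exact (ha d).symm
    rw [hva, eval_poly, Ideal.Quotient.eq_zero_iff_mem] at hv
    ext d
    rw [← ha d, Finsupp.zero_apply, Ideal.Quotient.eq_zero_iff_mem, ← coeff_poly a d]
    exact h _ (poly_isHomogeneous a) hv _

theorem length_mon (n : ℕ) :
    Module.length A (Mon r n →₀ (A ⧸ maximalIdeal A)) = (r.multichoose n : ℕ∞) := by
  haveI : IsSimpleModule A (A ⧸ maximalIdeal A) := isSimpleModule_iff_isCoatom.mpr (maximalIdeal.isMaximal A).out
  rw [Module.length_finsupp, Module.length_eq_one, mul_one, ENat.card_eq_coe_natCard, Nat.card_eq_fintype_card,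
    Fintype.card_coe, Finset.card_finsuppAntidiag_nat_eq_multichoose, Finset.card_univ, Fintype.card_fin]

theorem length_succ (n : ℕ) :
    Module.length A (A ⧸ maximalIdeal A ^ (n + 1)) =
      Module.length A ↥(Submodule.map (Submodule.mkQ (maximalIdeal A ^ (n + 1))) (maximalIdeal A ^ n)) +
        Module.length A (A ⧸ maximalIdeal A ^ n) := by
  rw [Module.length_eq_add_of_exact (Submodule.map (Submodule.mkQ (maximalIdeal A ^ (n + 1))) (maximalIdeal A ^ n)).subtype
    (Submodule.mkQ _) (Submodule.injective_subtype _) (Submodule.mkQ_surjective _) (LinearMap.exact_subtype_mkQ _),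
    (Submodule.quotientQuotientEquivQuotient _ _ (Ideal.pow_le_pow_right (Nat.le_succ n))).length_eq]

theorem choose_step (r n : ℕ) : (n + 1 + r).choose (n + 1) = r.multichoose (n + 1) + (n + r).choose n := by
  rw [Nat.multichoose_eq, show r + (n + 1) - 1 = n + r from by omega,
    show n + 1 + r = (n + r) + 1 from by omega, Nat.choose_succ_succ', add_comm]

/-- The Hilbert function is the maximal one iff the monomial maps are injective. -/
theorem length_eq_choose_iff (hf : ∀ i, f i ∈ maximalIdeal A) (hspan : Ideal.span (Set.range f) = maximalIdeal A) :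
    (∀ s : ℕ, Module.length A (A ⧸ maximalIdeal A ^ (s + 1)) = ((s + r).choose s : ℕ∞)) ↔
      ∀ n, Function.Injective (Φ f hf n) := by
  have hlayer : ∀ n, Module.length A (Mon r n →₀ (A ⧸ maximalIdeal A)) =
      Module.length A ↥(LinearMap.ker (Φ f hf n)) +
        Module.length A ↥(Submodule.map (Submodule.mkQ (maximalIdeal A ^ (n + 1))) (maximalIdeal A ^ n)) := fun n => by
    rw [← (LinearEquiv.ofEq _ _ (range_Φ f hf hspan n)).length_eq]
    exact Module.length_eq_add_of_exact (LinearMap.ker (Φ f hf n)).subtype (Φ f hf n).rangeRestrict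
      (Submodule.injective_subtype _) (Φ f hf n).surjective_rangeRestrict
      (LinearMap.exact_iff.mpr (by simp [LinearMap.ker_rangeRestrict]))
  have h1 : Module.length A (A ⧸ maximalIdeal A ^ 0) = 0 := by
    rw [Module.length_eq_zero_iff]
    exact Submodule.Quotient.subsingleton_iff.mpr (by simp)
  have hinj : ∀ n, Function.Injective (Φ f hf n) ↔
      Module.length A ↥(Submodule.map (Submodule.mkQ (maximalIdeal A ^ (n + 1))) (maximalIdeal A ^ n)) = (r.multichoose n : ℕ∞) := by
    intro n
    rw [← LinearMap.ker_eq_bot, ← Submodule.subsingleton_iff_eq_bot, ← Module.length_eq_zero_iff (R := A)]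
    have h := hlayer n
    rw [length_mon] at h
    constructor
    · intro h0
      rw [h, h0, zero_add]
    · intro he
      rw [he] at h
      obtain ⟨L, hL⟩ : ∃ L : ℕ, Module.length A ↥(LinearMap.ker (Φ f hf n)) = L :=
        ⟨_, (ENat.natCast_toNat (ne_top_of_le_ne_top (ENat.natCast_ne_top (r.multichoose n)) (h ▸ le_self_add))).symm⟩
      rw [hL] at h ⊢
      norm_cast at h ⊢
      omega
  constructor
  · intro h n
    rw [hinj]
    cases n with
    | zero =>
      have := h 0
      rw [length_succ, h1, add_zero] at this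
      rw [this]
      simp
    | succ k =>
      have h2 := h (k + 1)
      rw [length_succ, h k, choose_step, Nat.cast_add] at h2
      exact WithTop.add_right_cancel (ENat.natCast_ne_top _) h2
  · intro h s
    induction s with
    | zero => rw [length_succ, h1, add_zero, (hinj 0).mp (h 0)]; simp
    | succ k ih => rw [length_succ, ih, (hinj (k + 1)).mp (h _), choose_step, Nat.cast_add]

theorem regular_iff [IsNoetherianRing A] :
    IsRegularLocalRing A ↔ ∀ s : ℕ, Module.length A (A ⧸ maximalIdeal A ^ (s + 1)) =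
      ((s + Module.finrank (ResidueField A) (CotangentSpace A)).choose s : ℕ∞) := by
  classical
  let b := Module.finBasis (ResidueField A) (CotangentSpace A)
  choose g hg using fun i => (maximalIdeal A).toCotangent_surjective (b i)
  let f : Fin (Module.finrank (ResidueField A) (CotangentSpace A)) → A := fun i => g i
  have hf : ∀ i, f i ∈ maximalIdeal A := fun i => (g i).2
  have hspan : Ideal.span (Set.range f) = maximalIdeal A := by
    refine le_antisymm (Ideal.span_le.mpr (by rintro _ ⟨i, rfl⟩; exact hf i)) ?_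
    refine Submodule.le_of_le_smul_of_le_jacobson_bot (IsNoetherian.noetherian _) (IsLocalRing.maximalIdeal_le_jacobson _) ?_
    intro x hx
    choose c hc using fun i => residue_surjective (R := A) (b.repr ((maximalIdeal A).toCotangent ⟨x, hx⟩) i)
    have h1 : (maximalIdeal A).toCotangent ⟨x, hx⟩ = (maximalIdeal A).toCotangent (∑ i, c i • g i) := by
      rw [map_sum]
      conv_lhs => rw [← b.sum_repr ((maximalIdeal A).toCotangent ⟨x, hx⟩)]
      refine Finset.sum_congr rfl fun i _ => ?_
      rw [← hc, map_smul, hg, ← algebraMap_smul (ResidueField A) (c i)]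
      rfl
    rw [Ideal.toCotangent_eq, pow_two, ← smul_eq_mul] at h1
    rw [← sub_add_cancel x ((∑ i, c i • g i : maximalIdeal A) : A), add_comm]
    refine Submodule.add_mem_sup ?_ h1
    rw [Submodule.coe_sum]
    exact sum_mem fun i _ => Ideal.mul_mem_left _ _ (Ideal.subset_span ⟨i, rfl⟩)
  rw [length_eq_choose_iff f hf hspan]
  simp only [injective_Φ_iff f hf hspan]
  constructor
  · intro hA
    refine Groth.EGA41Two.isQuasiRegular_of_isWeaklyRegular f
      (Groth.Ega4b.isWeaklyRegular_of_independent_mod_sq _ A f hf fun c hc i => ?_)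
    have h2 : ∑ i, residue A (c i) • b i = 0 := by
      rw [← show (maximalIdeal A).toCotangent (∑ i, c i • g i) = ∑ i, residue A (c i) • b i from by
        rw [map_sum]
        refine Finset.sum_congr rfl fun i _ => ?_
        rw [map_smul, hg, ← algebraMap_smul (ResidueField A) (c i)]
        rfl]
      rw [Ideal.toCotangent_eq_zero, Submodule.coe_sum]
      exact hc
    exact (residue_eq_zero_iff _).mp (Fintype.linearIndependent_iff.mp b.linearIndependent _ h2 i)
  · intro hq
    have hreg : RingTheory.Sequence.IsRegular A (List.ofFn f) := by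
      refine ⟨Groth.EGA41Two.isWeaklyRegular_of_isQuasiRegular _ A f (fun i => ?_) hq, ?_⟩
      · rw [IsLocalRing.ringJacobson_eq_maximalIdeal]
        exact hf i
      · intro h
        refine (maximalIdeal.isMaximal A).ne_top (top_le_iff.mp (h.le.trans ?_))
        rw [smul_eq_mul, Ideal.mul_top, Ideal.ofList, Ideal.span_le]
        intro x hx
        obtain ⟨i, rfl⟩ := List.mem_ofFn.mp hx
        exact hf i
    have hdim := ringKrullDim_add_length_eq_ringKrullDim_of_isRegular (List.ofFn f) hreg
    refine IsRegularLocalRing.of_spanFinrank_maximalIdeal_le A ?_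
    rw [spanFinrank_maximalIdeal_eq_finrank_cotangentSpace, ← hdim, List.length_ofFn]
    haveI : Nontrivial (A ⧸ Ideal.ofList (List.ofFn f)) := Ideal.Quotient.nontrivial_iff.mpr (fun h => hreg.2 (by
      rw [smul_eq_mul, Ideal.mul_top, h]))
    exact le_add_of_nonneg_left ringKrullDim_nonneg_of_nontrivial

end Groth.EGA41Two.GrLength
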