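import Groth.Agent.Ega41Exist.PRadicalConv
import Groth.Agent.Ega41SymGr.Regular
import Groth.Agent.Ega41Adic.RegularOfSmooth
import Groth.Agent.S0564
import Mathlib.RingTheory.RegularLocalRing.Defs

/-! Over a field of characteristic zero, adic formal smoothness is regularity. -/

set_option autoImplicit false
universe u
open TensorProduct IsLocalRing KaehlerDifferential

namespace Groth.EGA41Two

theorem isAdicFormallySmooth_iff_isRegularLocalRing {k A : Type u} [Field k] [CharZero k] [CommRing A]
    [IsLocalRing A] [IsNoetherianRing A] [Algebra k A] :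
    CAlgX.IsAdicFormallySmooth k A (maximalIdeal A) ↔ IsRegularLocalRing A := by
  refine ⟨fun h => Groth.Ega41Adic.isRegularLocalRing_of_isAdicFormallySmooth h, fun h => ?_⟩
  haveI : ExpChar k 1 := ExpChar.zero
  refine (Groth.Ega41Exist.isAdicFormallySmooth_iff_regular_baseChange 1).mpr fun k' _ _ _ hx => ?_
  have hs : Function.Bijective (algebraMap k k') :=
    ⟨(algebraMap k k').injective, fun x => by obtain ⟨y, hy⟩ := hx x; exact ⟨y, by simpa using hy⟩⟩
  haveI : IsRegularRing A := isRegularRing_iff.mpr fun p _ => Groth.Agent.S0564.result A p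
  exact IsRegularRing.of_ringEquiv
    ((Algebra.TensorProduct.congr (AlgEquiv.ofBijective (Algebra.ofId k k') hs).symm AlgEquiv.refl).trans
      (Algebra.TensorProduct.lid k A)).toRingEquiv.symm

end Groth.EGA41Two
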