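import Groth.Prelude.Def_Exal
import Mathlib.LinearAlgebra.Prod
import Mathlib.Tactic.Abel

/-! The extension attached to a symmetric Hochschild cocycle. -/

set_option autoImplicit false
universe u v

namespace Groth.EGA41Two

theorem exists_ext_of_cocycle {A : Type u} {B L : Type v} [CommRing A] [CommRing B] [Algebra A B] [AddCommGroup L]
    [Module B L] [Module A L] [IsScalarTower A B L] (f : B →ₗ[A] B →ₗ[A] L) (hsymm : ∀ x y : B, f x y = f y x)
    (hcoc : ∀ x y z : B, f (x * y) z + z • f x y = x • f y z + f x (y * z)) :
    ∃ (X : Exal.Ext A B L) (σ : B → X.E), (∀ b, X.proj (σ b) = b) ∧ (∀ b b', σ (b + b') = σ b + σ b') ∧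
      (∀ (a : A) b, σ (a • b) = a • σ b) ∧ ∀ b b', σ b * σ b' = σ (b * b') + X.incl (f b b') := by
  classical
  let mulE : B × L → B × L → B × L := fun x y => (x.1 * y.1, x.1 • y.2 + y.1 • x.2 + f x.1 y.1)
  have h1 : ∀ y, f 1 y = y • f 1 1 := fun y => by
    have h := hcoc 1 1 y
    rw [one_mul, one_smul, one_mul] at h
    exact (add_left_cancel h).symm
  let instE : CommRing (B × L) :=
    { (inferInstance : AddCommGroup (B × L)) with
      mul := mulE
      one := (1, -f 1 1)
      mul_assoc := fun x y z => by
        refine Prod.ext (mul_assoc _ _ _) ?_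
        show (x.1 * y.1) • z.2 + z.1 • (x.1 • y.2 + y.1 • x.2 + f x.1 y.1) + f (x.1 * y.1) z.1 =
          x.1 • (y.1 • z.2 + z.1 • y.2 + f y.1 z.1) + (y.1 * z.1) • x.2 + f x.1 (y.1 * z.1)
        simp only [smul_add, smul_smul]
        have := hcoc x.1 y.1 z.1
        rw [show x.1 * z.1 = z.1 * x.1 from mul_comm _ _, show y.1 * z.1 = z.1 * y.1 from mul_comm _ _] at *
        rw [eq_sub_of_add_eq this]
        abel
      one_mul := fun x => by
        refine Prod.ext (one_mul _) ?_
        show (1 : B) • x.2 + x.1 • (-f 1 1) + f 1 x.1 = x.2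
        rw [h1 x.1, one_smul, smul_neg]; abel
      mul_one := fun x => by
        refine Prod.ext (mul_one _) ?_
        show x.1 • (-f 1 1) + (1 : B) • x.2 + f x.1 1 = x.2
        rw [hsymm x.1 1, h1 x.1, one_smul, smul_neg]; abel
      mul_comm := fun x y => by
        refine Prod.ext (mul_comm _ _) ?_
        show x.1 • y.2 + y.1 • x.2 + f x.1 y.1 = y.1 • x.2 + x.1 • y.2 + f y.1 x.1
        rw [hsymm x.1 y.1, add_comm (x.1 • y.2)]
      left_distrib := fun x y z => by
        refine Prod.ext (mul_add _ _ _) ?_
        show x.1 • (y.2 + z.2) + (y.1 + z.1) • x.2 + f x.1 (y.1 + z.1) =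
          (x.1 • y.2 + y.1 • x.2 + f x.1 y.1) + (x.1 • z.2 + z.1 • x.2 + f x.1 z.1)
        rw [smul_add, add_smul, map_add]; abel
      right_distrib := fun x y z => by
        refine Prod.ext (add_mul _ _ _) ?_
        show (x.1 + y.1) • z.2 + z.1 • (x.2 + y.2) + f (x.1 + y.1) z.1 =
          (x.1 • z.2 + z.1 • x.2 + f x.1 z.1) + (y.1 • z.2 + z.1 • y.2 + f y.1 z.1)
        rw [smul_add, add_smul, map_add, LinearMap.add_apply]; abel
      zero_mul := fun x => by
        refine Prod.ext (zero_mul _) ?_
        show (0 : B) • x.2 + x.1 • (0 : L) + f 0 x.1 = 0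
        simp
      mul_zero := fun x => by
        refine Prod.ext (mul_zero _) ?_
        show x.1 • (0 : L) + (0 : B) • x.2 + f x.1 0 = 0
        simp }
  have smulE : ∀ (a : A) (x y : B × L), mulE (a • x) y = a • mulE x y := fun a x y => by
    refine Prod.ext (smul_mul_assoc _ _ _) ?_
    show (a • x.1) • y.2 + y.1 • (a • x.2) + f (a • x.1) y.1 = a • (x.1 • y.2 + y.1 • x.2 + f x.1 y.1)
    rw [map_smul, LinearMap.smul_apply, smul_comm y.1 a, smul_assoc, smul_add, smul_add]
  let algE : @Algebra A (B × L) _ instE.toSemiring :=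
    @Algebra.ofModule A (B × L) _ instE.toSemiring Prod.instModule smulE fun a x y => by
      show mulE x (a • y) = a • mulE x y
      rw [show mulE x (a • y) = mulE (a • y) x from mul_comm (x : B × L) (a • y), smulE,
        show mulE y x = mulE x y from mul_comm (y : B × L) x]
  let pr : @AlgHom A (B × L) B _ instE.toSemiring _ algE _ :=
    @AlgHom.mk A (B × L) B _ instE.toSemiring _ algE _
      { toFun := Prod.fst, map_one' := rfl, map_mul' := fun _ _ => rfl, map_zero' := rfl, map_add' := fun _ _ => rfl }
      (fun a => by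
        show (a • ((1 : B), -f 1 1)).1 = algebraMap A B a
        rw [Prod.smul_fst, Algebra.smul_def, mul_one])
  refine ⟨{ E := B × L
            commRing := instE
            algebra := algE
            proj := pr
            incl := AddMonoidHom.inr B L
            isExtension :=
              { proj_surjective := fun b => ⟨(b, 0), rfl⟩
                incl_injective := fun z z' h => congrArg Prod.snd h
                exact := fun x => by
                  constructor
                  · intro h; exact ⟨x.2, Prod.ext h.symm rfl⟩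
                  · rintro ⟨z, rfl⟩; rfl
                mul_incl := fun x z => by
                  refine Prod.ext (mul_zero _) ?_
                  show x.1 • z + (0 : B) • x.2 + f x.1 0 = x.1 • z
                  simp } }, fun b => (b, 0), fun b => rfl, fun b b' => ?_, fun a b => ?_, fun b b' => ?_⟩
  · exact Prod.ext rfl (add_zero 0).symm
  · show ((a • b, 0) : B × L) = a • (b, 0)
    rw [Prod.smul_mk, smul_zero]
  · refine Prod.ext (add_zero _).symm ?_
    show b • (0 : L) + b' • (0 : L) + f b b' = 0 + f b b'
    simp

end Groth.EGA41Two
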