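import Groth.Agent.Ega41Sep.Separable
import Mathlib.RingTheory.LocalRing.ResidueField.Basic
import Mathlib.RingTheory.Ideal.Cotangent
import Mathlib.RingTheory.Localization.AtPrime.Basic
import Mathlib.Algebra.MvPolynomial.Eval
import Mathlib.Algebra.TrivSqZeroExt.Basic
import Mathlib.RingTheory.Derivation.Basic

/-! Counting cotangent spaces through a covering ring. -/

universe u

namespace Groth.EGA41Two.EmbDim

open IsLocalRing

/-- A derivation retracting an ideal with residue field of characteristic `p` onto its cotangent. -/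
theorem exists_derivation_cotangent (p : ℕ) [Fact p.Prime] {R : Type u} [CommRing R] [CharP R p]
    (I : Ideal R) [hI : I.IsMaximal] :
    ∃ D : Derivation ℤ R I.Cotangent, ∀ x : I, D x = I.toCotangent x := by
  letI : Algebra (Ega41Sep.ZModU.{u} p) R := Ega41Sep.zmodUAlgebra p R
  letI : Field (R ⧸ I) := Ideal.Quotient.field I
  haveI : CharP (R ⧸ I) p := by
    refine (CharP.charP_iff_prime_eq_zero Fact.out).mpr ?_
    rw [← map_natCast (Ideal.Quotient.mk I), CharP.cast_eq_zero, map_zero]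
  haveI := Ega41Sep.formallySmooth_zmodU p (R ⧸ I)
  let π : (R ⧸ I ^ 2) →ₐ[Ega41Sep.ZModU.{u} p] R ⧸ I :=
    Ideal.Quotient.liftₐ (I ^ 2) (Ideal.Quotient.mkₐ _ I) fun a ha =>
      Ideal.Quotient.eq_zero_iff_mem.mpr (Ideal.pow_le_self two_ne_zero ha)
  have hπ : Function.Surjective π := fun y => by
    obtain ⟨x, rfl⟩ := Ideal.Quotient.mk_surjective y
    exact ⟨Ideal.Quotient.mk _ x, rfl⟩
  have hker : IsNilpotent (RingHom.ker (π : (R ⧸ I ^ 2) →+* R ⧸ I)) := by
    refine ⟨2, le_antisymm ?_ bot_le⟩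
    refine (Ideal.pow_right_mono (fun x hx => ?_) 2).trans (I.cotangentIdeal_square).le
    obtain ⟨a, rfl⟩ := Ideal.Quotient.mk_surjective x
    exact Ideal.mk_mem_cotangentIdeal.mpr (Ideal.Quotient.eq_zero_iff_mem.mp hx)
  let σ := Algebra.FormallySmooth.liftOfSurjective (AlgHom.id _ (R ⧸ I)) π hπ hker
  have hσ : ∀ y, π (σ y) = y := fun y => Algebra.FormallySmooth.liftOfSurjective_apply _ _ hπ hker y
  have hex : ∀ r : R, ∃ v : I.Cotangent, I.cotangentToQuotientSquare v =
      Ideal.Quotient.mk (I ^ 2) r - σ (Ideal.Quotient.mk I r) := fun r => by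
    obtain ⟨a, ha⟩ := Ideal.Quotient.mk_surjective (σ (Ideal.Quotient.mk I r))
    have hm : r - a ∈ I := by
      rw [← Ideal.Quotient.eq]
      exact (hσ (Ideal.Quotient.mk I r)).symm.trans (congrArg π ha.symm)
    exact ⟨I.toCotangent ⟨r - a, hm⟩, by rw [Ideal.toCotangent_to_quotient_square, ← ha, ← map_sub]; rfl⟩
  choose δ hδ using hex
  have hinj := I.cotangentToQuotientSquare_injective
  have hmul : ∀ (a : R) (z : R ⧸ I ^ 2) (v : I.Cotangent), π z = Ideal.Quotient.mk I a →
      z * I.cotangentToQuotientSquare v = I.cotangentToQuotientSquare (a • v) := fun a z v hz => by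
    obtain ⟨b, rfl⟩ := Ideal.Quotient.mk_surjective z
    obtain ⟨x, rfl⟩ := I.toCotangent_surjective v
    rw [map_smul, Ideal.toCotangent_to_quotient_square, ← map_smul]
    show Ideal.Quotient.mk _ b * Ideal.Quotient.mk _ x.1 = Ideal.Quotient.mk _ (a * x.1)
    rw [← map_mul, Ideal.Quotient.eq, ← sub_mul, pow_two]
    exact Ideal.mul_mem_mul (Ideal.Quotient.eq.mp hz) x.2
  refine ⟨Derivation.mk' (AddMonoidHom.toIntLinearMap (AddMonoidHom.mk' δ fun a b => hinj ?_)) fun a b => hinj ?_,
    fun x => hinj ?_⟩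
  · rw [map_add I.cotangentToQuotientSquare, hδ, hδ, hδ, map_add, map_add, map_add]; abel
  · show I.cotangentToQuotientSquare (δ (a * b)) = I.cotangentToQuotientSquare (a • δ b + b • δ a)
    rw [map_add, ← hmul a (σ (Ideal.Quotient.mk I a)) _ (hσ _), ← hmul b (Ideal.Quotient.mk _ b) _ rfl,
      hδ, hδ, hδ, map_mul, map_mul, map_mul]
    ring
  · show I.cotangentToQuotientSquare (δ x) = _
    rw [hδ, show Ideal.Quotient.mk I x.1 = 0 from Ideal.Quotient.eq_zero_iff_mem.mpr x.2, map_zero, sub_zero]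
    rfl

/-- The cotangent space of a local ring computed on a ring mapping to it. -/
theorem finrank_cotangentSpace_add {P R : Type u} [CommRing P] [CommRing R] [IsLocalRing R] [IsNoetherianRing P]
    (φ : P →+* R) (N : Ideal P) [N.IsMaximal] (hN : (maximalIdeal R).comap φ = N)
    (hdense : ∀ y, ∃ x, y - φ x ∈ maximalIdeal R ^ 2) {m : ℕ} (u : Fin m → N)
    (hu : ∀ j, φ (u j) ∈ maximalIdeal R ^ 2)
    (hker : ∀ x ∈ N, φ x ∈ maximalIdeal R ^ 2 → x ∈ N ^ 2 ⊔ Ideal.span (Set.range fun j => (u j : P))) :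
    Module.finrank (ResidueField R) (CotangentSpace R) +
        Module.finrank (P ⧸ N) (Submodule.span (P ⧸ N) (Set.range fun j => N.toCotangent (u j))) =
      Module.finrank (P ⧸ N) N.Cotangent := by
  classical
  letI : Field (P ⧸ N) := Ideal.Quotient.field N
  letI : Algebra P R := φ.toAlgebra
  haveI : Module.Finite P N.Cotangent := Module.Finite.of_surjective _ N.toCotangent_surjective
  haveI : Module.Finite (P ⧸ N) N.Cotangent := Module.Finite.of_restrictScalars_finite P _ _
  set U := Submodule.span (P ⧸ N) (Set.range fun j => N.toCotangent (u j)) with hU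
  let μ : N.Cotangent →ₗ[P] CotangentSpace R :=
    Ideal.mapCotangent N (maximalIdeal R) (Algebra.ofId P R) hN.ge
  have hμ0 : ∀ x : N, μ (N.toCotangent x) = 0 ↔ φ x ∈ maximalIdeal R ^ 2 := fun x => by
    show Ideal.toCotangent (maximalIdeal R) _ = 0 ↔ _
    exact Ideal.toCotangent_eq_zero _ _
  have hUspan : U.restrictScalars P = Submodule.span P (Set.range fun j => N.toCotangent (u j)) :=
    Submodule.restrictScalars_span P _ Ideal.Quotient.mk_surjective _
  have hker' : LinearMap.ker μ = U.restrictScalars P := by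
    refine le_antisymm (fun v hv => ?_) ?_
    · obtain ⟨x, rfl⟩ := N.toCotangent_surjective v
      have hx := hker x x.2 ((hμ0 x).mp hv)
      rw [Submodule.mem_sup] at hx
      obtain ⟨a, ha, b, hb, hab⟩ := hx
      obtain ⟨c, rfl⟩ := (Submodule.mem_span_range_iff_exists_fun P).mp hb
      have : N.toCotangent x = ∑ j, c j • N.toCotangent (u j) := by
        simp only [← map_smul, ← map_sum]
        rw [Ideal.toCotangent_eq, ← hab]
        simpa [Submodule.coe_sum] using ha
      rw [this]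
      exact sum_mem fun j _ => Submodule.smul_mem _ _ (Submodule.subset_span ⟨j, rfl⟩)
    · rw [hUspan, Submodule.span_le]
      rintro _ ⟨j, rfl⟩
      exact (hμ0 _).mpr (hu j)
  have hμ : Function.Surjective μ := fun w => by
    obtain ⟨⟨y, hy⟩, rfl⟩ := (maximalIdeal R).toCotangent_surjective w
    obtain ⟨x, hx⟩ := hdense y
    have hxN : x ∈ N := by
      rw [← hN, Ideal.mem_comap]
      simpa using sub_mem hy (Ideal.pow_le_self two_ne_zero hx)
    refine ⟨N.toCotangent ⟨x, hxN⟩, ?_⟩
    show Ideal.toCotangent (maximalIdeal R) _ = _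
    rw [Ideal.toCotangent_eq, ← neg_sub]
    exact neg_mem hx
  let i : P ⧸ N →+* ResidueField R := Ideal.Quotient.lift N ((residue R).comp φ) fun a ha =>
    (residue_eq_zero_iff _).mpr (hN.ge ha)
  have hi : Function.Bijective i := ⟨i.injective, fun z => by
    obtain ⟨y, rfl⟩ := residue_surjective z
    obtain ⟨x, hx⟩ := hdense y
    refine ⟨Ideal.Quotient.mk N x, Eq.symm ?_⟩
    show residue R y = residue R (φ x)
    exact Ideal.Quotient.eq.mpr (Ideal.pow_le_self two_ne_zero hx)⟩
  let j : (N.Cotangent ⧸ U) ≃+ CotangentSpace R :=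
    ((Submodule.Quotient.restrictScalarsEquiv P U).symm ≪≫ₗ (Submodule.quotEquivOfEq _ _ hker'.symm) ≪≫ₗ
      μ.quotKerEquivOfSurjective hμ).toAddEquiv
  have hc : ∀ (r : P ⧸ N) (v : N.Cotangent ⧸ U), j (r • v) = i r • j v := by
    intro r v
    obtain ⟨r, rfl⟩ := Ideal.Quotient.mk_surjective r
    obtain ⟨v, rfl⟩ := Submodule.Quotient.mk_surjective _ v
    show μ (r • v) = residue R (φ r) • μ v
    rw [map_smul]
    rfl
  have hfin : Module.finrank (P ⧸ N) (N.Cotangent ⧸ U) = Module.finrank (ResidueField R) (CotangentSpace R) :=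
    congrArg Cardinal.toNat (rank_eq_of_equiv_equiv i j hi hc)
  rw [← hfin]
  exact Submodule.finrank_quotient_add_finrank U

open MvPolynomial in
/-- Extending a derivation of the coefficients to a linear form on the cotangent of a maximal ideal. -/
theorem exists_cotangent_linearMap {A : Type u} [CommRing A] {r m : ℕ} (N : Ideal (MvPolynomial (Fin r) A))
    [N.IsMaximal] (c : Derivation ℤ A (Fin m → MvPolynomial (Fin r) A ⧸ N)) :
    ∃ Θ : N.Cotangent →ₗ[MvPolynomial (Fin r) A ⧸ N] (Fin m → MvPolynomial (Fin r) A ⧸ N),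
      (∀ (a : A) (h : C a ∈ N), Θ (N.toCotangent ⟨C a, h⟩) = c a) ∧
      ∀ (i : Fin r) (p : ℕ), (p : A) = 0 → ∀ (a : A) (h : X i ^ p - C a ∈ N),
        Θ (N.toCotangent ⟨X i ^ p - C a, h⟩) = - c a := by
  let π : MvPolynomial (Fin r) A →+* MvPolynomial (Fin r) A ⧸ N := Ideal.Quotient.mk N
  haveI : IsCentralScalar (MvPolynomial (Fin r) A ⧸ N) (Fin m → MvPolynomial (Fin r) A ⧸ N) :=
    ⟨fun a f => op_smul_eq_smul a f⟩
  let h0 : A →+* TrivSqZeroExt (MvPolynomial (Fin r) A ⧸ N) (Fin m → MvPolynomial (Fin r) A ⧸ N) :=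
    { toFun := fun a => TrivSqZeroExt.inl (π (C a)) + TrivSqZeroExt.inr (c a)
      map_one' := TrivSqZeroExt.ext (by simp) (by simp)
      map_zero' := TrivSqZeroExt.ext (by simp) (by simp)
      map_add' := fun a b => TrivSqZeroExt.ext (by simp) (by simp)
      map_mul' := fun a b => TrivSqZeroExt.ext (by simp) (by
        simp only [TrivSqZeroExt.snd_add, TrivSqZeroExt.snd_inl, TrivSqZeroExt.snd_inr, zero_add, c.leibniz,
          TrivSqZeroExt.snd_mul, TrivSqZeroExt.fst_add, TrivSqZeroExt.fst_inl, TrivSqZeroExt.fst_inr, add_zero,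
          op_smul_eq_smul, ← algebraMap_smul (MvPolynomial (Fin r) A ⧸ N) a, ← algebraMap_smul (MvPolynomial (Fin r) A ⧸ N) b]
        rfl) }
  let ev := eval₂Hom h0 fun i => TrivSqZeroExt.inl (π (X i))
  have hfst : ∀ x, (ev x).fst = π x := fun x => by
    induction x using MvPolynomial.induction_on with
    | C a => simp [ev, h0]
    | add a b ha hb => rw [map_add, TrivSqZeroExt.fst_add, ha, hb, map_add]
    | mul_X a i ha => rw [map_mul, TrivSqZeroExt.fst_mul, ha, map_mul]; simp [ev]
  have hfstN : ∀ x : N, (ev x).fst = 0 := fun x => by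
    rw [hfst]; exact Ideal.Quotient.eq_zero_iff_mem.mpr x.2
  let l : ↥N →ₗ[MvPolynomial (Fin r) A] (Fin m → MvPolynomial (Fin r) A ⧸ N) :=
    { toFun := fun x => (ev x).snd
      map_add' := fun a b => by rw [Submodule.coe_add, map_add, TrivSqZeroExt.snd_add]
      map_smul' := fun b x => by
        funext k
        simp [TrivSqZeroExt.snd_mul, hfstN, hfst]
        rfl }
  let Θ0 : N.Cotangent →ₗ[MvPolynomial (Fin r) A] (Fin m → MvPolynomial (Fin r) A ⧸ N) :=
    Ideal.Cotangent.lift l fun x y => by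
      show (ev (x.1 * y.1)).snd = 0
      funext k
      simp [TrivSqZeroExt.snd_mul, hfstN]
  refine ⟨Θ0.extendScalarsOfSurjective Ideal.Quotient.mk_surjective, fun a h => ?_, fun i p hp a h => ?_⟩
  · show (ev (C a)).snd = c a
    simp [ev, h0]
  · show (ev (X i ^ p - C a)).snd = - c a
    simp [ev, h0, ← TrivSqZeroExt.inl_pow]

end Groth.EGA41Two.EmbDim
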