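import Groth.Prelude.Def_Exal
import Groth.Prelude.Def_Exal2
import Groth.Prelude.Def_Exal3
import Groth.Prelude.Def_EGA41
import Mathlib.RingTheory.Kaehler.Basic
import Mathlib.Tactic.LinearCombination
import Mathlib.Tactic.Ring
import Mathlib.Tactic.Abel

/-! Sections of extensions, the associated derivations and characteristic homomorphisms. -/

set_option autoImplicit false
set_option linter.unusedSectionVars false
universe u v

open TensorProduct

namespace Groth.EGA41Two

attribute [local instance] Exal.opModule Exal.isCentralScalar_opModule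

section

variable {A : Type u} {B C L : Type v} [CommRing A] [CommRing B] [CommRing C] [Algebra A B] [Algebra B C]
  [Algebra A C] [IsScalarTower A B C] [AddCommGroup L] [Module C L]

/-- An `A`-trivial extension has a section out of `C` into the middle ring. -/
theorem exists_section {X : Exal.Ext B C L} (hX : X.IsTrivialOver A) :
    ∃ s : C →+* X.E, (∀ c, X.proj (s c) = c) ∧
      ∀ a : A, s (algebraMap A C a) = algebraMap B X.E (algebraMap A B a) := by
  obtain ⟨s, hs⟩ := hX
  exact ⟨s.toRingHom, hs, fun a => s.commutes a⟩

theorem isTrivialOver_of_section {X : Exal.Ext B C L} (s : C →+* X.E) (hs : ∀ c, X.proj (s c) = c)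
    (ha : ∀ a : A, s (algebraMap A C a) = algebraMap B X.E (algebraMap A B a)) : X.IsTrivialOver A :=
  ⟨{ (s : C →+* X.RestrictCarrier A) with commutes' := ha }, hs⟩

variable [Module B L] [IsScalarTower B C L] [Module A L] [IsScalarTower A B L] [IsScalarTower A C L]

/-- A derivation is attached to a section. -/
def IsDerOfSection (X : Exal.Ext B C L) (s : C →+* X.E) (D : Derivation A B L) : Prop :=
  ∀ b : B, X.incl (D b) = algebraMap B X.E b - s (algebraMap B C b)

omit [Module B L] [IsScalarTower B C L] [Module A L] [IsScalarTower A B L] [IsScalarTower A C L] in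
theorem proj_incl (X : Exal.Ext B C L) (z : L) : X.proj (X.incl z) = 0 :=
  (X.isExtension.exact _).2 ⟨z, rfl⟩

omit [Module B L] [IsScalarTower B C L] [Module A L] [IsScalarTower A B L] [IsScalarTower A C L] in
theorem incl_mul_incl (X : Exal.Ext B C L) (z z' : L) : X.incl z * X.incl z' = 0 := by
  rw [X.isExtension.mul_incl, proj_incl, zero_smul, map_zero]

theorem exists_derivation {X : Exal.Ext B C L} (s : C →+* X.E) (hs : ∀ c, X.proj (s c) = c)
    (ha : ∀ a : A, s (algebraMap A C a) = algebraMap B X.E (algebraMap A B a)) :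
    ∃ D : Derivation A B L, IsDerOfSection X s D := by
  have h : ∀ b : B, ∃ z : L, X.incl z = algebraMap B X.E b - s (algebraMap B C b) := fun b =>
    (X.isExtension.exact _).1 (by rw [map_sub, hs, AlgHom.commutes, sub_self])
  choose D hD using h
  have hadd : ∀ b b', D (b + b') = D b + D b' := fun b b' => X.isExtension.incl_injective (by
    simp only [map_add, hD]; ring)
  have hleib : ∀ b b' : B, D (b * b') = b • D b' + b' • D b := fun b b' => X.isExtension.incl_injective (by
    have e : ∀ (c : B) (z : L), X.incl (c • z) = algebraMap B X.E c * X.incl z := fun c z => by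
      rw [X.isExtension.mul_incl, AlgHom.commutes, algebraMap_smul]
    have := incl_mul_incl X (D b) (D b')
    simp only [map_add, e, hD, map_mul] at this ⊢
    linear_combination -this)
  have hA : ∀ a : A, D (algebraMap A B a) = 0 := fun a => X.isExtension.incl_injective (by
    rw [hD, map_zero, ← IsScalarTower.algebraMap_apply A B C, ha, sub_self])
  refine ⟨Derivation.mk'
    { toFun := D
      map_add' := hadd
      map_smul' := fun a b => by
        rw [Algebra.smul_def, hleib, hA, smul_zero, add_zero, algebraMap_smul]; rfl } hleib, hD⟩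

/-- The linear map on `C ⊗ Ω[B⁄A]` attached to a derivation. -/
noncomputable def phi (D : Derivation A B L) : C ⊗[B] Ω[B⁄A] →ₗ[C] L :=
  D.liftKaehlerDifferential.liftBaseChange C

omit [Algebra A C] [IsScalarTower A B C] [IsScalarTower A C L] in
theorem phi_tmul (D : Derivation A B L) (c : C) (b : B) :
    phi D (c ⊗ₜ[B] KaehlerDifferential.D A B b) = c • D b := by
  simp [phi]

omit [Algebra A C] [IsScalarTower A B C] [AddCommGroup L] [Module C L] [Module B L] [IsScalarTower B C L] [Module A L]
  [IsScalarTower A B L] [IsScalarTower A C L] in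
theorem tensor_omega_induction {P : C ⊗[B] Ω[B⁄A] → Prop} (h0 : P 0) (hadd : ∀ x y, P x → P y → P (x + y))
    (h : ∀ c b, P (c ⊗ₜ[B] KaehlerDifferential.D A B b)) (z : C ⊗[B] Ω[B⁄A]) : P z := by
  induction z using TensorProduct.induction_on with
  | zero => exact h0
  | add x y hx hy => exact hadd x y hx hy
  | tmul c ω =>
    suffices H : ∀ c, P (c ⊗ₜ[B] ω) from H c
    have hω : ω ∈ Submodule.span B (Set.range (KaehlerDifferential.D A B)) := by
      rw [KaehlerDifferential.span_range_derivation]; exact Submodule.mem_top
    clear c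
    induction hω using Submodule.span_induction with
    | mem ω hh => obtain ⟨b, rfl⟩ := hh; exact fun c => h c b
    | zero => intro c; rw [TensorProduct.tmul_zero]; exact h0
    | add x y _ _ hx hy => intro c; rw [TensorProduct.tmul_add]; exact hadd _ _ (hx c) (hy c)
    | smul b x _ hx => intro c; rw [TensorProduct.tmul_smul, TensorProduct.smul_tmul']; exact hx (b • c)

omit [Algebra A C] [IsScalarTower A B C] [IsScalarTower A C L] in
theorem exists_phi_eq (f : C ⊗[B] Ω[B⁄A] →ₗ[C] L) : ∃ D : Derivation A B L, phi D = f := by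
  refine ⟨(((f.restrictScalars B).comp ((TensorProduct.mk B C Ω[B⁄A]) 1)).compDer
    (KaehlerDifferential.D A B)), ?_⟩
  apply LinearMap.ext
  intro z
  induction z using tensor_omega_induction with
  | h0 => simp
  | hadd x y hx hy => simp only [map_add, hx, hy]
  | h c b =>
    rw [phi_tmul]
    show c • f (1 ⊗ₜ[B] KaehlerDifferential.D A B b) = _
    rw [← map_smul, TensorProduct.smul_tmul', smul_eq_mul, mul_one]

theorem deltaL_smul (X : Exal.Ext B C L) (e : X.CharCarrier A) (z : L) :
    X.deltaL A (algebraMap (X.CharCarrier A) C e • z) = algebraMap (X.CharCarrier A) C e • X.deltaL A z := by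
  show (1 : C) ⊗ₜ[X.CharCarrier A] KaehlerDifferential.D A _ (X.inclC A (algebraMap (X.CharCarrier A) C e • z)) = _
  rw [show X.inclC A (algebraMap (X.CharCarrier A) C e • z) = e * X.inclC A z from (X.isExtension.mul_incl e z).symm,
    Derivation.leibniz, TensorProduct.tmul_add, ← TensorProduct.smul_tmul, ← TensorProduct.smul_tmul]
  have : algebraMap (X.CharCarrier A) C (X.inclC A z) = 0 := proj_incl X z
  rw [Algebra.smul_def, Algebra.smul_def (X.inclC A z), this, zero_mul, TensorProduct.zero_tmul, add_zero,
    mul_one]
  show _ = algebraMap (X.CharCarrier A) C e • ((1 : C) ⊗ₜ[X.CharCarrier A] KaehlerDifferential.D A _ (X.inclC A z))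
  rw [TensorProduct.smul_tmul', smul_eq_mul, mul_one]

theorem deltaL_injective {X : Exal.Ext B C L} (s : C →+* X.E) (hs : ∀ c, X.proj (s c) = c)
    (ha : ∀ a : A, s (algebraMap A C a) = algebraMap B X.E (algebraMap A B a)) :
    Function.Injective (X.deltaL A) := by
  let E := X.CharCarrier A
  let : Module E L := Module.compHom L (algebraMap E C)
  have : IsScalarTower E C L := IsScalarTower.of_algebraMap_smul fun _ _ => rfl
  have : IsScalarTower A E L := IsScalarTower.of_algebraMap_smul fun a z => by
    show algebraMap E C (algebraMap A E a) • z = a • z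
    rw [← IsScalarTower.algebraMap_apply, algebraMap_smul]
  let pE : E → X.E := fun e => e
  have h : ∀ e : E, ∃ z : L, X.incl z = pE e - s (algebraMap E C e) := fun e =>
    (X.isExtension.exact _).1 (by
      rw [map_sub, hs]; exact sub_self _)
  choose δ hδ using h
  have hleib : ∀ e e' : E, δ (e * e') = e • δ e' + e' • δ e := fun e e' => X.isExtension.incl_injective (by
    have he : ∀ (x : E) (z : L), X.incl (x • z) = pE x * X.incl z := fun x z =>
      (X.isExtension.mul_incl x z).symm
    have := incl_mul_incl X (δ e) (δ e')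
    rw [hδ, hδ] at this
    rw [map_add, he, he, hδ, hδ, hδ, map_mul, map_mul, show pE (e * e') = pE e * pE e' from rfl]
    linear_combination -this)
  have hA : ∀ a : A, δ (algebraMap A E a) = 0 := fun a => X.isExtension.incl_injective (by
    rw [hδ, map_zero, ← IsScalarTower.algebraMap_apply, ha]; exact sub_self _)
  let Δ : Derivation A E L := Derivation.mk'
    { toFun := δ
      map_add' := fun e e' => X.isExtension.incl_injective (by
        rw [map_add, hδ, hδ, hδ, map_add, map_add]; exact add_sub_add_comm _ _ _ _)
      map_smul' := fun a b => by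
        rw [Algebra.smul_def, hleib, hA, smul_zero, add_zero, algebraMap_smul]; rfl } hleib
  intro z z' hz
  have h2 : ∀ w, (Δ.liftKaehlerDifferential.liftBaseChange C) (X.deltaL A w) = w := by
    intro w
    show (Δ.liftKaehlerDifferential.liftBaseChange C)
      ((1 : C) ⊗ₜ[E] KaehlerDifferential.D A E (X.inclC A w)) = w
    rw [LinearMap.liftBaseChange_tmul, one_smul, Derivation.liftKaehlerDifferential_comp_D]
    apply X.isExtension.incl_injective
    show X.incl (δ (X.inclC A w)) = _
    rw [hδ]
    show X.incl w - s (X.proj (X.incl w)) = _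
    rw [proj_incl, map_zero, sub_zero]
  rw [← h2 z, ← h2 z', hz]

/-- The square: the map induced by `B → E` is `deltaL ∘ phi` plus the part coming from the section. -/
theorem baseChangeToMiddle_eq {X : Exal.Ext B C L} (s : C →+* X.E) (hs : ∀ c, X.proj (s c) = c)
    (ha : ∀ a : A, s (algebraMap A C a) = algebraMap B X.E (algebraMap A B a))
    (D : Derivation A B L) (hD : IsDerOfSection X s D) (z : C ⊗[B] Ω[B⁄A])
    (hz : KaehlerDifferential.mapBaseChange A B C z = 0) :
    X.deltaL A (phi D z) = X.baseChangeToMiddle A z := by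
  let E := X.CharCarrier A
  let M := C ⊗[E] Ω[E⁄A]
  let s' : C → E := fun c => s c
  have sD : ∀ (e : E) (w : M), e • w = algebraMap E C e • w := fun e w => (algebraMap_smul C e w).symm
  let σ : Derivation A C M := Derivation.mk'
    { toFun := fun c => (1 : C) ⊗ₜ[E] KaehlerDifferential.D A E (s' c)
      map_add' := fun c c' => by
        rw [← TensorProduct.tmul_add, ← map_add]
        exact congrArg (fun e : E => (1 : C) ⊗ₜ[E] KaehlerDifferential.D A E e) (map_add s c c')
      map_smul' := fun a c => by
        have : s' (a • c) = a • s' c := by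
          rw [Algebra.smul_def a (s' c)]
          show s (a • c) = algebraMap B X.E (algebraMap A B a) * s c
          rw [Algebra.smul_def, map_mul, ha]
        rw [this, Derivation.map_smul, TensorProduct.tmul_smul]; rfl }
    fun c c' => by
      show (1 : C) ⊗ₜ[E] KaehlerDifferential.D A E (s' (c * c')) =
        c • ((1 : C) ⊗ₜ[E] KaehlerDifferential.D A E (s' c')) + c' • ((1 : C) ⊗ₜ[E] KaehlerDifferential.D A E (s' c))
      rw [show s' (c * c') = s' c * s' c' from map_mul s c c', Derivation.leibniz, TensorProduct.tmul_add,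
        TensorProduct.tmul_smul, TensorProduct.tmul_smul, sD, sD,
        show algebraMap E C (s' c) = c from hs c, show algebraMap E C (s' c') = c' from hs c']
  have key : ∀ z, X.baseChangeToMiddle A z =
      X.deltaL A (phi D z) + σ.liftKaehlerDifferential (KaehlerDifferential.mapBaseChange A B C z) := by
    intro z
    induction z using tensor_omega_induction with
    | h0 => simp
    | hadd x y hx hy => simp only [map_add, hx, hy]; abel
    | h c b =>
        obtain ⟨e, rfl⟩ : ∃ e : E, algebraMap E C e = c := X.isExtension.proj_surjective c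
        rw [phi_tmul, deltaL_smul, KaehlerDifferential.mapBaseChange_tmul, KaehlerDifferential.map_D,
          map_smul, Derivation.liftKaehlerDifferential_comp_D]
        show (algebraMap E C e) ⊗ₜ[E] KaehlerDifferential.map A A B E (KaehlerDifferential.D A B b) =
          algebraMap E C e • ((1 : C) ⊗ₜ[E] KaehlerDifferential.D A E (X.inclC A (D b))) +
            algebraMap E C e • ((1 : C) ⊗ₜ[E] KaehlerDifferential.D A E (s' (algebraMap B C b)))
        rw [KaehlerDifferential.map_D, ← smul_add, ← TensorProduct.tmul_add, ← map_add,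
          TensorProduct.smul_tmul', smul_eq_mul, mul_one]
        congr 2
        show algebraMap B X.E b = X.incl (D b) + s (algebraMap B C b)
        rw [hD, sub_add_cancel]
  rw [key z, hz, map_zero, add_zero]

theorem isCharHom_iff {X : Exal.Ext B C L} (s : C →+* X.E) (hs : ∀ c, X.proj (s c) = c)
    (ha : ∀ a : A, s (algebraMap A C a) = algebraMap B X.E (algebraMap A B a))
    (D : Derivation A B L) (hD : IsDerOfSection X s D) (χ : ↥(EGA41.imperfection A B C) →ₗ[C] L) :
    X.IsCharHom A χ ↔ ∀ z : ↥(EGA41.imperfection A B C), χ z = phi D (z : C ⊗[B] Ω[B⁄A]) := by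
  have := fun z : ↥(EGA41.imperfection A B C) => baseChangeToMiddle_eq s hs ha D hD z z.2
  constructor
  · intro h z
    exact deltaL_injective s hs ha ((h z).trans (this z).symm)
  · intro h z
    rw [h z]; exact this z

/-- The derivation attached to the inclusion section of `ofDerivation`. -/
theorem ofDerivation_section (D : Derivation A B L) :
    ∃ s : C →+* (Exal.Ext.ofDerivation (C := C) D).E, (∀ c, (Exal.Ext.ofDerivation D).proj (s c) = c) ∧
      (∀ a : A, s (algebraMap A C a) = algebraMap B _ (algebraMap A B a)) ∧
      IsDerOfSection (Exal.Ext.ofDerivation D) s D := by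
  refine ⟨(TrivSqZeroExt.inlHom C L : C →+* TrivSqZeroExt C L), fun c => rfl, fun a => ?_, fun b => ?_⟩
  · change (TrivSqZeroExt.inl (algebraMap A C a) : TrivSqZeroExt C L) =
      TrivSqZeroExt.inl (algebraMap B C (algebraMap A B a)) + TrivSqZeroExt.inr (D (algebraMap A B a))
    rw [Derivation.map_algebraMap, TrivSqZeroExt.inr_zero, add_zero, ← IsScalarTower.algebraMap_apply]
  · change (TrivSqZeroExt.inr (D b) : TrivSqZeroExt C L) =
      TrivSqZeroExt.inl (algebraMap B C b) + TrivSqZeroExt.inr (D b) - TrivSqZeroExt.inl (algebraMap B C b)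
    simp

theorem nonempty_equiv_ofDerivation {X : Exal.Ext B C L} (s : C →+* X.E) (hs : ∀ c, X.proj (s c) = c)
    (D : Derivation A B L) (hD : IsDerOfSection X s D) :
    Nonempty ((Exal.Ext.ofDerivation (C := C) D).Equiv X) := by
  let f : TrivSqZeroExt C L →+* X.E :=
    { toFun := fun x => s x.fst + X.incl x.snd
      map_one' := by simp
      map_zero' := by simp
      map_add' := fun x y => by simp only [TrivSqZeroExt.fst_add, TrivSqZeroExt.snd_add, map_add]; abel
      map_mul' := fun x y => by
        have e : ∀ (c : C) (z : L), X.incl (c • z) = s c * X.incl z := fun c z => by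
          rw [X.isExtension.mul_incl, hs]
        have h0 := incl_mul_incl X x.snd y.snd
        rw [TrivSqZeroExt.fst_mul, TrivSqZeroExt.snd_mul, map_mul, map_add,
          show MulOpposite.op y.fst • x.snd = y.fst • x.snd from rfl, e, e]
        linear_combination -h0 }
  let g : (Exal.Ext.ofDerivation (C := C) D).E →ₐ[B] X.E :=
    { (f : (Exal.Ext.ofDerivation (C := C) D).E →+* X.E) with
      commutes' := fun b => by
        show f (TrivSqZeroExt.inl (algebraMap B C b) + TrivSqZeroExt.inr (D b)) = algebraMap B X.E b
        show s _ + X.incl _ = _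
        simp [hD b] }
  have hp : ∀ x : TrivSqZeroExt C L, X.proj (f x) = x.fst := fun x => by
    show X.proj (s x.fst + X.incl x.snd) = _
    rw [map_add, hs, proj_incl, add_zero]
  refine ⟨{ toAlgEquiv := AlgEquiv.ofBijective g ⟨?_, ?_⟩, proj_apply := hp, apply_incl := fun z => ?_ }⟩
  · intro x y h
    have h' : f x = f y := h
    have h1 : TrivSqZeroExt.fst x = TrivSqZeroExt.fst y := by rw [← hp x, ← hp y, h']
    refine TrivSqZeroExt.ext h1 (X.isExtension.incl_injective ?_)
    have h2 : s (TrivSqZeroExt.fst x) + X.incl (TrivSqZeroExt.snd x) =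
        s (TrivSqZeroExt.fst y) + X.incl (TrivSqZeroExt.snd y) := h'
    rw [h1] at h2
    exact add_left_cancel h2
  · intro y
    obtain ⟨z, hz⟩ := (X.isExtension.exact (y - s (X.proj y))).1 (by rw [map_sub, hs, sub_self])
    refine ⟨(TrivSqZeroExt.inl (X.proj y) + TrivSqZeroExt.inr z : TrivSqZeroExt C L), ?_⟩
    show s _ + X.incl _ = y
    simp [hz]
  · show s (TrivSqZeroExt.fst (TrivSqZeroExt.inr z : TrivSqZeroExt C L)) +
      X.incl (TrivSqZeroExt.snd (TrivSqZeroExt.inr z : TrivSqZeroExt C L)) = X.incl z
    simp

theorem nonempty_equiv_ofDerivation_of_eq_add (D D' : Derivation A B L) (D'' : Derivation A C L)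
    (h : ∀ b, D b = D' b + D'' (algebraMap B C b)) :
    Nonempty ((Exal.Ext.ofDerivation (C := C) D').Equiv (Exal.Ext.ofDerivation (C := C) D)) := by
  refine nonempty_equiv_ofDerivation (A := A) (X := Exal.Ext.ofDerivation (C := C) D)
    (Exal.Ext.derivationHom (C := C) D'' : C →+* TrivSqZeroExt C L) (fun c => ?_) D' (fun b => ?_)
  · show TrivSqZeroExt.fst (TrivSqZeroExt.inl c + TrivSqZeroExt.inr (D'' c)) = c
    simp
  · show (TrivSqZeroExt.inr (D' b) : TrivSqZeroExt C L) =
      TrivSqZeroExt.inl (algebraMap B C b) + TrivSqZeroExt.inr (D b) -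
        (TrivSqZeroExt.inl (algebraMap B C b) + TrivSqZeroExt.inr (D'' (algebraMap B C b)))
    rw [h b, TrivSqZeroExt.inr_add]
    abel

theorem isTrivialOver_ofDerivation (D : Derivation A B L) :
    (Exal.Ext.ofDerivation (C := C) D).IsTrivialOver A := by
  obtain ⟨s, hs, ha, -⟩ := ofDerivation_section (C := C) D
  exact isTrivialOver_of_section s hs ha

omit [Module B L] [IsScalarTower B C L] [Module A L] [IsScalarTower A B L] [IsScalarTower A C L] in
theorem isTrivialOver_congr {X Y : Exal.Ext B C L} (e : X.Equiv Y) (h : X.IsTrivialOver A) :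
    Y.IsTrivialOver A := by
  obtain ⟨s, hs, ha⟩ := exists_section h
  refine isTrivialOver_of_section (e.toAlgEquiv.toAlgHom.toRingHom.comp s) (fun c => ?_) (fun a => ?_)
  · show Y.proj (e.toAlgEquiv (s c)) = c
    rw [e.proj_apply, hs]
  · show e.toAlgEquiv (s _) = _
    rw [ha, AlgEquiv.commutes]

end

end Groth.EGA41Two
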