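import Groth.Prelude.Def_TopMod
import Mathlib.RingTheory.Ideal.Quotient.Operations
import Mathlib.Topology.Algebra.IsUniformGroup.Basic
import Mathlib.Algebra.Module.Projective
import Mathlib.Topology.Algebra.OpenSubgroup
import Mathlib.RingTheory.Nilpotent.Basic
import Mathlib.LinearAlgebra.Quotient.Basic
import Mathlib.RingTheory.Ideal.Operations
import Mathlib.Algebra.Module.Torsion.Basic

/-! Formally left invertible maps of linearly topologized modules. -/

set_option autoImplicit false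
universe u v w

open Topology

namespace Groth.EGA41Two

variable {A : Type u} [CommRing A] [TopologicalSpace A] {M : Type v} {N : Type w} [AddCommGroup M] [Module A M]
  [TopologicalSpace M] [AddCommGroup N] [Module A N] [TopologicalSpace N]

theorem isOpen_smul_top (hM : TopMod.IsDeduced A M) {J : Ideal A} (hJ : IsOpen (J : Set A)) :
    IsOpen ((J • ⊤ : Submodule A M) : Set M) := by
  have := hM.1
  exact AddSubgroup.isOpen_of_mem_nhds (J • ⊤ : Submodule A M).toAddSubgroup (hM.2.mem_of_mem hJ)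

theorem continuous_of_le_ker (hM : TopMod.IsDeduced A M) {E : Type*} [AddCommGroup E] [Module A E]
    [TopologicalSpace E] [DiscreteTopology E] (f : M →ₗ[A] E) {J : Ideal A} (hJ : IsOpen (J : Set A))
    (h : (J • ⊤ : Submodule A M) ≤ LinearMap.ker f) : Continuous f := by
  have := hM.1
  rw [continuous_discrete_rng]
  intro e
  rw [isOpen_iff_mem_nhds]
  intro x hx
  have ho : IsOpen ((fun y => y - x) ⁻¹' ((J • ⊤ : Submodule A M) : Set M)) :=
    (isOpen_smul_top hM hJ).preimage (continuous_id.sub continuous_const)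
  refine Filter.mem_of_superset (ho.mem_nhds (by simp)) fun y hy => ?_
  have h1 : f (y - x) = 0 := h hy
  rw [map_sub, sub_eq_zero] at h1
  show f y = e
  rw [h1]
  exact hx

theorem isFormallyLeftInvertible_iff (hM : TopMod.IsDeduced A M) (hN : TopMod.IsDeduced A N) (u : M →L[A] N) :
    TopMod.IsFormallyLeftInvertible u ↔
      ∀ J : Ideal A, IsOpen (J : Set A) →
        ∃ w : N →ₗ[A] M ⧸ (J • ⊤ : Submodule A M), ∀ x : M, w (u x) = Submodule.Quotient.mk x := by
  constructor
  · intro h J hJ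
    let : TopologicalSpace (M ⧸ (J • ⊤ : Submodule A M)) := ⊥
    have : DiscreteTopology (M ⧸ (J • ⊤ : Submodule A M)) := ⟨rfl⟩
    obtain ⟨w, hw⟩ := h _ ⟨(J • ⊤ : Submodule A M).mkQ,
      continuous_of_le_ker hM _ hJ (by rw [Submodule.ker_mkQ])⟩
    exact ⟨w.toLinearMap, hw⟩
  · intro h E _ _ _ _ v
    have hker : (v ⁻¹' {0}) ∈ nhds (0 : M) :=
      ((isOpen_discrete _).preimage v.continuous).mem_nhds (by simp)
    obtain ⟨J, hJ, hJv⟩ := hM.2.mem_iff.mp hker
    have hle : (J • ⊤ : Submodule A M) ≤ LinearMap.ker v.toLinearMap := hJv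
    obtain ⟨w, hw⟩ := h J hJ
    have hkill : (J • ⊤ : Submodule A N) ≤ LinearMap.ker ((Submodule.liftQ _ v.toLinearMap hle).comp w) := by
      rw [Submodule.smul_le]
      intro j hj n _
      rw [LinearMap.mem_ker, LinearMap.comp_apply, map_smul]
      obtain ⟨m, hm⟩ := Submodule.Quotient.mk_surjective _ (w n)
      rw [← hm, ← Submodule.Quotient.mk_smul,
        (Submodule.Quotient.mk_eq_zero _).mpr (Submodule.smul_mem_smul hj Submodule.mem_top), map_zero]
    exact ⟨⟨_, continuous_of_le_ker hN _ hJ hkill⟩, fun x => by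
      show Submodule.liftQ _ v.toLinearMap hle (w (u x)) = v x
      rw [hw]; rfl⟩

omit [TopologicalSpace A] [TopologicalSpace M] [TopologicalSpace N] in
/-- A left inverse modulo a nilpotent ideal lifts when the target is projective. -/
theorem exists_leftInverse_of_mod_nilpotent {R : Type*} {P Q : Type*} [CommRing R] [AddCommGroup P] [Module R P]
    [AddCommGroup Q] [Module R Q] [Module.Projective R Q] (L : Ideal R) (n : ℕ) (hn : L ^ n = ⊥) (u : P →ₗ[R] Q)
    (w₀ : Q →ₗ[R] P ⧸ (L • ⊤ : Submodule R P)) (h : ∀ x, w₀ (u x) = Submodule.Quotient.mk x) :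
    ∃ w : Q →ₗ[R] P, ∀ x, w (u x) = x := by
  obtain ⟨w, hw⟩ := Module.projective_lifting_property (L • ⊤ : Submodule R P).mkQ w₀ (Submodule.mkQ_surjective _)
  let ε : Module.End R P := w.comp u - LinearMap.id
  have hε : ∀ (k : ℕ) (x : P), x ∈ (L ^ k • ⊤ : Submodule R P) → ε x ∈ (L ^ (k + 1) • ⊤ : Submodule R P) := by
    intro k x hx
    refine Submodule.smul_induction_on hx (fun r hr y _ => ?_) fun a b ha hb => by rw [map_add]; exact add_mem ha hb
    rw [map_smul, pow_succ, Submodule.mul_smul]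
    refine Submodule.smul_mem_smul hr ?_
    rw [← Submodule.Quotient.mk_eq_zero, show ε y = w (u y) - y from rfl, Submodule.Quotient.mk_sub]
    have := LinearMap.congr_fun hw (u y)
    rw [LinearMap.comp_apply, h, Submodule.mkQ_apply] at this
    rw [this, sub_self]
  have hpow : ∀ (k : ℕ) (x : P), (ε ^ k) x ∈ (L ^ k • ⊤ : Submodule R P) := by
    intro k
    induction k with
    | zero => intro x; simp [Ideal.one_eq_top]
    | succ k ih => intro x; rw [pow_succ' ε, Module.End.mul_apply]; exact hε k _ (ih x)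
  have hnil : IsNilpotent ε := ⟨n, LinearMap.ext fun x => by simpa [hn] using hpow n x⟩
  obtain ⟨φ, hφ⟩ := hnil.isUnit_one_add
  refine ⟨(↑φ⁻¹ : Module.End R P).comp w, fun x => ?_⟩
  have h1 : (↑φ⁻¹ : Module.End R P) ((↑φ : Module.End R P) x) = x := by
    rw [← Module.End.mul_apply, Units.inv_mul, Module.End.one_apply]
  rw [hφ] at h1
  rw [LinearMap.comp_apply, show w (u x) = (1 + ε) x by simp [ε]]
  exact h1

theorem isFormallyLeftInvertible_of_mod_idealOfDefinition (hM : TopMod.IsDeduced A M) (hN : TopMod.IsDeduced A N)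
    (𝔏 : Ideal A) (hopen : IsOpen (𝔏 : Set A))
    (hpow : ∀ J : Ideal A, IsOpen (J : Set A) → ∃ n : ℕ, 𝔏 ^ n ≤ J)
    (hproj : ∀ J : Ideal A, IsOpen (J : Set A) → Module.Projective (A ⧸ J) (N ⧸ (J • (⊤ : Submodule A N))))
    (u : M →L[A] N)
    (w₀ : N →ₗ[A] M ⧸ (𝔏 • ⊤ : Submodule A M)) (hw₀ : ∀ x : M, w₀ (u x) = Submodule.Quotient.mk x) :
    TopMod.IsFormallyLeftInvertible u := by
  rw [isFormallyLeftInvertible_iff hM hN]
  intro J hJ
  let K : Ideal A := J ⊓ 𝔏
  have hK : IsOpen (K : Set A) := hJ.inter hopen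
  obtain ⟨n, hn⟩ := hpow K hK
  have hs : Function.Surjective (algebraMap A (A ⧸ K)) := Ideal.Quotient.mk_surjective
  let L : Ideal (A ⧸ K) := 𝔏.map (Ideal.Quotient.mk K)
  let Q := N ⧸ (K • ⊤ : Submodule A N)
  let P := M ⧸ (K • ⊤ : Submodule A M)
  have hu : (K • ⊤ : Submodule A M) ≤ (K • ⊤ : Submodule A N).comap u.toLinearMap := by
    rw [← Submodule.map_le_iff_le_comap, Submodule.map_smul'']
    exact Submodule.smul_mono le_rfl le_top
  let ū : P →ₗ[A ⧸ K] Q :=
    LinearMap.extendScalarsOfSurjective hs (Submodule.mapQ _ _ u.toLinearMap hu)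
  have hLP : ∀ x ∈ (𝔏 • ⊤ : Submodule A M), (Submodule.Quotient.mk x : P) ∈ (L • ⊤ : Submodule (A ⧸ K) P) := by
    intro x hx
    refine Submodule.smul_induction_on hx (fun a ha y _ => ?_) fun a b ha hb => add_mem ha hb
    rw [Submodule.Quotient.mk_smul, ← algebraMap_smul (A ⧸ K) a]
    exact Submodule.smul_mem_smul (Ideal.mem_map_of_mem _ ha) Submodule.mem_top
  let T := P ⧸ (L • ⊤ : Submodule (A ⧸ K) P)
  let g : M ⧸ (𝔏 • ⊤ : Submodule A M) →ₗ[A] T :=
    Submodule.liftQ _ (((L • ⊤ : Submodule (A ⧸ K) P).mkQ.restrictScalars A).comp (K • ⊤ : Submodule A M).mkQ)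
      fun x hx => (Submodule.Quotient.mk_eq_zero _).mpr (hLP x hx)
  have hg : (K • ⊤ : Submodule A N) ≤ LinearMap.ker (g.comp w₀) := by
    rw [Submodule.smul_le]
    intro a ha y _
    rw [LinearMap.mem_ker, map_smul, ← algebraMap_smul (A ⧸ K) a,
      show algebraMap A (A ⧸ K) a = 0 from Ideal.Quotient.eq_zero_iff_mem.mpr ha, zero_smul]
  let w₁ : Q →ₗ[A ⧸ K] T := LinearMap.extendScalarsOfSurjective hs (Submodule.liftQ _ (g.comp w₀) hg)
  have := hproj K hK
  obtain ⟨w, hw⟩ := exists_leftInverse_of_mod_nilpotent L n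
    (by rw [← Ideal.map_pow, Ideal.map_eq_bot_iff_le_ker, Ideal.mk_ker]; exact hn) ū w₁ fun x => by
      obtain ⟨x, rfl⟩ := Submodule.Quotient.mk_surjective _ x
      show g (w₀ (u x)) = _
      rw [hw₀]; rfl
  refine ⟨(Submodule.factor (Submodule.smul_mono inf_le_left le_rfl)).comp
    ((w.restrictScalars A).comp (K • ⊤ : Submodule A N).mkQ), fun x => ?_⟩
  show Submodule.factor (Submodule.smul_mono inf_le_left le_rfl) (w (ū (Submodule.Quotient.mk x))) = _
  rw [hw]; rfl

omit [TopologicalSpace A] [TopologicalSpace M] [TopologicalSpace N] in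
omit [TopologicalSpace A] in
/-- A map from a module with projective reduction modulo `I` lifts along surjections of modules killed by `I`. -/
theorem exists_lift_of_projective_quotient (I : Ideal A) {C P T : Type*} [AddCommGroup C] [Module A C]
    [AddCommGroup P] [Module A P] [AddCommGroup T] [Module A T] [Module.Projective (A ⧸ I) (C ⧸ (I • ⊤ : Submodule A C))]
    (π : P →ₗ[A] T) (hπ : Function.Surjective π) (hP : ∀ a ∈ I, ∀ x : P, a • x = 0) (d : C →ₗ[A] T) :
    ∃ δ : C →ₗ[A] P, ∀ y, π (δ y) = d y := by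
  have hs : Function.Surjective (algebraMap A (A ⧸ I)) := Ideal.Quotient.mk_surjective
  have htP : Module.IsTorsionBySet A P (I : Set A) := fun x a => hP a a.2 x
  have htT : Module.IsTorsionBySet A T (I : Set A) := fun x a => by
    obtain ⟨y, rfl⟩ := hπ x
    rw [← map_smul, hP a a.2 y, map_zero]
  let : Module (A ⧸ I) P := htP.module
  have : IsScalarTower A (A ⧸ I) P := htP.isScalarTower
  let : Module (A ⧸ I) T := htT.module
  have : IsScalarTower A (A ⧸ I) T := htT.isScalarTower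
  have hd : (I • ⊤ : Submodule A C) ≤ LinearMap.ker d := by
    rw [Submodule.smul_le]
    intro a ha y _
    rw [LinearMap.mem_ker, map_smul]
    exact htT (x := d y) (a := ⟨a, ha⟩)
  let dC : C ⧸ (I • ⊤ : Submodule A C) →ₗ[A ⧸ I] T := LinearMap.extendScalarsOfSurjective hs (Submodule.liftQ _ d hd)
  let π' : P →ₗ[A ⧸ I] T := LinearMap.extendScalarsOfSurjective hs π
  obtain ⟨δ, hδ⟩ := Module.projective_lifting_property π' dC hπ
  exact ⟨(δ.restrictScalars A).comp (I • ⊤ : Submodule A C).mkQ, fun y => LinearMap.congr_fun hδ (Submodule.Quotient.mk y)⟩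

omit [TopologicalSpace A] [TopologicalSpace M] [TopologicalSpace N] in
/-- A compatible system of left inverses modulo a decreasing sequence of ideals. -/
theorem exists_compatible_system (u : M →ₗ[A] N) (𝔍 : ℕ → Ideal A) (hanti : Antitone 𝔍)
    (hleft : ∀ n, ∃ w : N →ₗ[A] M ⧸ (𝔍 n • ⊤ : Submodule A M), ∀ x : M, w (u x) = Submodule.Quotient.mk x)
    (hcoker : ∀ n, Module.Projective (A ⧸ 𝔍 n)
      ((N ⧸ LinearMap.range u) ⧸ (𝔍 n • (⊤ : Submodule A (N ⧸ LinearMap.range u))))) :
    ∃ w : ∀ n, N →ₗ[A] M ⧸ (𝔍 n • ⊤ : Submodule A M), (∀ n x, w n (u x) = Submodule.Quotient.mk x) ∧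
      ∀ n y, Submodule.factor (Submodule.smul_mono (hanti (Nat.le_succ n)) le_rfl) (w (n + 1) y) = w n y := by
  classical
  have step : ∀ n, ∀ wn : {w : N →ₗ[A] M ⧸ (𝔍 n • ⊤ : Submodule A M) // ∀ x, w (u x) = Submodule.Quotient.mk x},
      ∃ w' : {w : N →ₗ[A] M ⧸ (𝔍 (n + 1) • ⊤ : Submodule A M) // ∀ x, w (u x) = Submodule.Quotient.mk x},
        ∀ y, Submodule.factor (Submodule.smul_mono (hanti (Nat.le_succ n)) le_rfl) (w'.1 y) = wn.1 y := by
    intro n wn
    obtain ⟨w', hw'⟩ := hleft (n + 1)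
    let π := Submodule.factor (p := (𝔍 (n + 1) • ⊤ : Submodule A M)) (p' := (𝔍 n • ⊤ : Submodule A M))
      (Submodule.smul_mono (hanti (Nat.le_succ n)) le_rfl)
    let d : N →ₗ[A] M ⧸ (𝔍 n • ⊤ : Submodule A M) := π.comp w' - wn.1
    have hd : LinearMap.range u ≤ LinearMap.ker d := by
      rintro _ ⟨x, rfl⟩
      show π (w' (u x)) - wn.1 (u x) = 0
      rw [hw', wn.2]
      exact sub_self _
    have := hcoker (n + 1)
    obtain ⟨δ, hδ⟩ := exists_lift_of_projective_quotient (𝔍 (n + 1)) π (Submodule.factor_surjective _)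
      (fun a ha x => by
        obtain ⟨m, rfl⟩ := Submodule.Quotient.mk_surjective _ x
        rw [← Submodule.Quotient.mk_smul, Submodule.Quotient.mk_eq_zero]
        exact Submodule.smul_mem_smul ha Submodule.mem_top) (Submodule.liftQ _ d hd)
    refine ⟨⟨w' - δ.comp (LinearMap.range u).mkQ, fun x => ?_⟩, fun y => ?_⟩
    · simp [hw', (Submodule.Quotient.mk_eq_zero _).mpr (LinearMap.mem_range_self u x)]
    · show π (w' y - δ (Submodule.Quotient.mk y)) = wn.1 y
      rw [map_sub, hδ]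
      show π (w' y) - (π (w' y) - wn.1 y) = wn.1 y
      rw [sub_sub_cancel]
  choose next hnext using step
  obtain ⟨w₀, hw₀⟩ := hleft 0
  let sys : ∀ n, {w : N →ₗ[A] M ⧸ (𝔍 n • ⊤ : Submodule A M) // ∀ x, w (u x) = Submodule.Quotient.mk x} :=
    fun n => Nat.rec ⟨w₀, hw₀⟩ next n
  exact ⟨fun n => (sys n).1, fun n => (sys n).2, fun n => hnext n (sys n)⟩

end Groth.EGA41Two
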