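import Mathlib.RingTheory.Jacobson.Ring
import Mathlib.RingTheory.Localization.Integral
import Mathlib.RingTheory.Spectrum.Prime.Topology
import Mathlib.RingTheory.TensorProduct.Finite
import Mathlib.RingTheory.FiniteStability
import Mathlib.RingTheory.LocalRing.ResidueField.Ideal
import Mathlib.RingTheory.Localization.Away.Basic
import Mathlib.RingTheory.Ideal.GoingUp

/-! The image of a dominant algebra of finite type over a domain contains a basic open set. -/

set_option autoImplicit false
universe u

open TensorProduct

namespace Groth.EGA41Two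

theorem exists_ne_zero_forall_mem_range_comap {R S : Type u} [CommRing R] [IsDomain R] [CommRing S]
    [Algebra R S] [Algebra.FiniteType R S] (q : Ideal S) [q.IsPrime] (hq : q.comap (algebraMap R S) = ⊥) :
    ∃ a : R, a ≠ 0 ∧ ∀ p : PrimeSpectrum R, a ∉ p.asIdeal → p ∈ Set.range (PrimeSpectrum.comap (algebraMap R S)) := by
  classical
  let K := FractionRing R
  let T := K ⊗[R] S
  have hinjF : Function.Injective (algebraMap R q.ResidueField) := by
    rw [RingHom.injective_iff_ker_eq_bot, IsScalarTower.algebraMap_eq R S q.ResidueField, ← RingHom.comap_ker,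
      Ideal.ker_algebraMap_residueField, hq]
  let φ : K →ₐ[R] q.ResidueField := IsFractionRing.liftAlgHom (g := Algebra.ofId R q.ResidueField) hinjF
  let ψ : T →ₐ[R] q.ResidueField :=
    Algebra.TensorProduct.lift φ (IsScalarTower.toAlgHom R S q.ResidueField) (fun _ _ => Commute.all _ _)
  have : Nontrivial T := ψ.toRingHom.domain_nontrivial
  obtain ⟨m, hm⟩ := Ideal.exists_maximal T
  let : Field (T ⧸ m) := Ideal.Quotient.field m
  let L := T ⧸ m
  have : Algebra.FiniteType K L :=
    Algebra.FiniteType.of_surjective (Ideal.Quotient.mkₐ K m) Ideal.Quotient.mk_surjective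
  have : Module.Finite K L := finite_of_finite_type_of_isJacobsonRing K L
  have hRL : Algebra.IsAlgebraic R L := IsFractionRing.comap_isAlgebraic_iff.mpr
    (Algebra.IsAlgebraic.of_finite K L)
  have hinj : Function.Injective (algebraMap R L) := by
    rw [IsScalarTower.algebraMap_eq R K L]
    exact (algebraMap K L).injective.comp (IsFractionRing.injective R K)
  let g : S →ₐ[R] L := (Ideal.Quotient.mkₐ R m).comp (Algebra.TensorProduct.includeRight (A := K))
  obtain ⟨s, hs⟩ := Algebra.FiniteType.out (R := R) (A := S)
  obtain ⟨a, ha, hint⟩ := Algebra.IsAlgebraic.exists_integral_multiples R (s.image g)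
  refine ⟨a, ha, fun p hp => ?_⟩
  let U : Subalgebra R L := Algebra.adjoin R (Set.range fun z : s => a • g z)
  have hU : Algebra.IsIntegral R U := Algebra.IsIntegral.adjoin fun x hx => by
    obtain ⟨z, rfl⟩ := hx
    exact hint _ (Finset.mem_image_of_mem g z.2)
  have hRU : Function.Injective (algebraMap R U) := fun x y h => hinj (congrArg Subtype.val h)
  obtain ⟨Q, -, hQ, hQp⟩ := Ideal.exists_ideal_over_prime_of_isIntegral p.asIdeal (⊥ : Ideal U)
    (by rw [← RingHom.ker_eq_comap_bot, (RingHom.injective_iff_ker_eq_bot _).mp hRU]; exact bot_le)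
  let α : U := algebraMap R U a
  have hα : α ∉ Q := fun h => hp (hQp ▸ h)
  have hu : IsUnit ((algebraMap R L) a) := isUnit_iff_ne_zero.mpr fun h => ha (hinj (h.trans (map_zero _).symm))
  let Ua := Localization.Away α
  let ι : Ua →ₐ[R] L := IsLocalization.liftAlgHom (M := Submonoid.powers α) (f := U.val) fun y => by
    obtain ⟨n, hn⟩ := y.2
    show IsUnit (U.val (y : U))
    rw [← hn]
    simpa [α] using hu.pow n
  have hι : Function.Injective ι := by
    show Function.Injective (IsLocalization.lift (M := Submonoid.powers α) (S := Ua) _)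
    rw [IsLocalization.lift_injective_iff]
    intro x y
    constructor
    · intro h
      have hle : Submonoid.powers α ≤ nonZeroDivisors U := by
        refine Submonoid.powers_le.mpr (mem_nonZeroDivisors_of_ne_zero fun h0 => ha (hRU ?_))
        rw [map_zero]; exact h0
      exact congrArg U.val (IsLocalization.injective Ua hle h)
    · intro h
      exact congrArg (algebraMap U Ua) (Subtype.ext h)
  have hmem : ∀ x, g x ∈ ι.range := by
    have : (⊤ : Subalgebra R S) ≤ ι.range.comap g := by
      rw [← hs, Algebra.adjoin_le_iff]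
      intro z hz
      refine ⟨IsLocalization.mk' Ua (⟨a • g z, Algebra.subset_adjoin ⟨⟨z, hz⟩, rfl⟩⟩ : U)
        (⟨α, Submonoid.mem_powers α⟩ : Submonoid.powers α), ?_⟩
      show IsLocalization.lift _ (IsLocalization.mk' Ua _ _) = g z
      rw [IsLocalization.lift_mk'_spec]
      exact (Algebra.smul_def a (g z))
    exact fun x => this (Algebra.mem_top)
  let g' : S →ₐ[R] Ua := (AlgEquiv.ofInjective ι hι).symm.toAlgHom.comp (g.codRestrict ι.range hmem)
  have hd : Disjoint (Submonoid.powers α : Set U) (Q : Set U) := by
    rw [Set.disjoint_left]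
    rintro _ ⟨n, rfl⟩ h
    exact hα (hQ.mem_of_pow_mem n h)
  have hP := IsLocalization.isPrime_of_isPrime_disjoint (Submonoid.powers α) Ua Q hQ hd
  refine ⟨⟨(Q.map (algebraMap U Ua)).comap g', inferInstance⟩, PrimeSpectrum.ext ?_⟩
  show ((Q.map (algebraMap U Ua)).comap g').comap (algebraMap R S) = p.asIdeal
  conv_rhs => rw [← hQp, ← IsLocalization.under_map_of_isPrime_disjoint (Submonoid.powers α) Ua hQ hd]
  ext r
  simp only [Ideal.mem_comap, AlgHom.commutes, Ideal.under_def, IsScalarTower.algebraMap_apply R U Ua]

end Groth.EGA41Two
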