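import Groth.Agent.EGA41Two.Exal

/-! The derivation of a section of the infinitesimal extension, and `Υ` of a quotient. -/

set_option autoImplicit false
set_option linter.unusedSectionVars false
universe u v

open TensorProduct

namespace Groth.EGA41Two

variable {A : Type u} {B : Type v} [CommRing A] [CommRing B] [Algebra A B] (K : Ideal B)

instance : IsScalarTower A (B ⧸ K) K.Cotangent :=
  IsScalarTower.of_algebraMap_smul fun a z => by
    rw [IsScalarTower.algebraMap_apply A B (B ⧸ K), algebraMap_smul, algebraMap_smul]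

/-- A section of the infinitesimal extension gives a retraction of the conormal map. -/
theorem exists_phi_conormal (hK : (Exal.Ext.infinitesimal K).IsTrivialOver A) :
    ∃ (s : B ⧸ K →+* (Exal.Ext.infinitesimal K).E) (D : Derivation A B K.Cotangent),
      (∀ c, (Exal.Ext.infinitesimal K).proj (s c) = c) ∧
      (∀ a : A, s (algebraMap A (B ⧸ K) a) = algebraMap B _ (algebraMap A B a)) ∧
      IsDerOfSection (Exal.Ext.infinitesimal K) s D ∧ ∀ k : K, D k = K.toCotangent k := by
  obtain ⟨s, hs, ha⟩ := exists_section hK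
  obtain ⟨D, hD⟩ := exists_derivation s hs ha
  refine ⟨s, D, hs, ha, hD, fun k => (Exal.Ext.infinitesimal K).isExtension.incl_injective ?_⟩
  rw [hD, show algebraMap B (B ⧸ K) k = 0 from Ideal.Quotient.eq_zero_iff_mem.mpr k.2, map_zero, sub_zero]
  exact (Ideal.toCotangent_to_quotient_square K k).symm

theorem mem_imperfection_quotient_iff (z : (B ⧸ K) ⊗[B] Ω[B⁄A]) :
    z ∈ EGA41.imperfection A B (B ⧸ K) ↔
      ∃ k : K, z = (1 : B ⧸ K) ⊗ₜ[B] KaehlerDifferential.D A B k := by
  show KaehlerDifferential.mapBaseChange A B (B ⧸ K) z = 0 ↔ _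
  rw [KaehlerDifferential.exact_kerCotangentToTensor_mapBaseChange A B (B ⧸ K) Ideal.Quotient.mk_surjective z,
    Set.mem_range]
  constructor
  · rintro ⟨x, rfl⟩
    obtain ⟨⟨k, hk⟩, rfl⟩ := Ideal.toCotangent_surjective _ x
    exact ⟨⟨k, Ideal.Quotient.eq_zero_iff_mem.mp hk⟩, KaehlerDifferential.kerCotangentToTensor_toCotangent _ _ _ _⟩
  · rintro ⟨k, rfl⟩
    exact ⟨Ideal.toCotangent _ ⟨k, Ideal.Quotient.eq_zero_iff_mem.mpr k.2⟩,
      KaehlerDifferential.kerCotangentToTensor_toCotangent _ _ _ _⟩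

theorem one_tmul_D_eq_zero_of_toCotangent_eq_zero (k : K) (h : K.toCotangent k = 0) :
    (1 : B ⧸ K) ⊗ₜ[B] KaehlerDifferential.D A B (k : B) = 0 := by
  have hk : (k : B) ∈ RingHom.ker (algebraMap B (B ⧸ K)) := Ideal.Quotient.eq_zero_iff_mem.mpr k.2
  refine (KaehlerDifferential.kerCotangentToTensor_toCotangent A B (B ⧸ K) ⟨k, hk⟩).symm.trans ?_
  rw [(Ideal.toCotangent_eq_zero _ _).mpr ?_, map_zero]
  show (k : B) ∈ RingHom.ker (algebraMap B (B ⧸ K)) ^ 2
  rw [show RingHom.ker (algebraMap B (B ⧸ K)) = K from Ideal.mk_ker]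
  exact (Ideal.toCotangent_eq_zero K k).mp h

theorem phi_one_tmul {D : Derivation A B K.Cotangent} (hDK : ∀ k : K, D k = K.toCotangent k) (k : K) :
    phi D ((1 : B ⧸ K) ⊗ₜ[B] KaehlerDifferential.D A B k) = K.toCotangent k := by
  rw [phi_tmul, one_smul, hDK]

end Groth.EGA41Two
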