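import Mathlib.RingTheory.Kaehler.Basic
import Mathlib.LinearAlgebra.TensorProduct.RightExactness

/-! Kernel of `Ω[E⁄R] → Ω[E⁄S]` and of its base changes. -/

set_option autoImplicit false
universe u u' w

open TensorProduct

namespace Groth.EGA41Two

variable {R : Type u} {S : Type u'} {E : Type w} [CommRing R] [CommRing S] [CommRing E] [Algebra R S] [Algebra R E]
  [Algebra S E] [IsScalarTower R S E]

theorem map_map_apply {T : Type*} [CommRing T] [Algebra R T] [Algebra S T] [Algebra T E] [IsScalarTower R T E]
    [IsScalarTower S T E] (ω : Ω[E⁄R]) :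
    KaehlerDifferential.map S T E E (KaehlerDifferential.map R S E E ω) = KaehlerDifferential.map R T E E ω := by
  have hω : ω ∈ Submodule.span E (Set.range (KaehlerDifferential.D R E)) := by
    rw [KaehlerDifferential.span_range_derivation]; exact Submodule.mem_top
  induction hω using Submodule.span_induction with
  | mem ω h => obtain ⟨b, rfl⟩ := h; simp [KaehlerDifferential.map_D]
  | zero => simp
  | add x y _ _ hx hy => simp [hx, hy]
  | smul b x _ hx => simp [hx]

theorem mem_span_of_map_eq_zero {ω : Ω[E⁄R]} (h : KaehlerDifferential.map R S E E ω = 0) :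
    ω ∈ Submodule.span E (Set.range fun s : S => KaehlerDifferential.D R E (algebraMap S E s)) := by
  obtain ⟨z, rfl⟩ := (KaehlerDifferential.exact_mapBaseChange_map R S E ω).mp h
  clear h
  induction z using TensorProduct.induction_on with
  | zero => simp
  | add x y hx hy => rw [map_add]; exact add_mem hx hy
  | tmul c η =>
    rw [KaehlerDifferential.mapBaseChange_tmul]
    refine Submodule.smul_mem _ c ?_
    have hη : η ∈ Submodule.span S (Set.range (KaehlerDifferential.D R S)) := by
      rw [KaehlerDifferential.span_range_derivation]; exact Submodule.mem_top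
    induction hη using Submodule.span_induction with
    | mem ω h =>
      obtain ⟨s, rfl⟩ := h
      rw [KaehlerDifferential.map_D]
      exact Submodule.subset_span ⟨s, rfl⟩
    | zero => simp
    | add x y _ _ hx hy => rw [map_add]; exact add_mem hx hy
    | smul s x _ hx =>
      rw [map_smul, ← algebraMap_smul E s]
      exact Submodule.smul_mem _ _ hx

variable (F : Type w) [CommRing F] [Algebra E F]

theorem mem_span_of_baseChange_map_eq_zero {z : F ⊗[E] Ω[E⁄R]}
    (h : (KaehlerDifferential.map R S E E).baseChange F z = 0) :
    z ∈ Submodule.span F (Set.range fun s : S => (1 : F) ⊗ₜ[E] KaehlerDifferential.D R E (algebraMap S E s)) := by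
  have hex : Function.Exact (LinearMap.ker (KaehlerDifferential.map R S E E)).subtype (KaehlerDifferential.map R S E E) :=
    LinearMap.exact_subtype_ker_map _
  have h2 := lTensor_exact F hex (KaehlerDifferential.map_surjective R S E)
  rw [LinearMap.baseChange_eq_ltensor] at h
  obtain ⟨y, rfl⟩ := (h2 z).mp h
  clear h
  induction y using TensorProduct.induction_on with
  | zero => simp
  | add x y hx hy => rw [map_add]; exact add_mem hx hy
  | tmul c η =>
    rw [LinearMap.lTensor_tmul, Submodule.subtype_apply,
      show c ⊗ₜ[E] (η : Ω[E⁄R]) = c • ((1 : F) ⊗ₜ[E] (η : Ω[E⁄R])) by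
        rw [TensorProduct.smul_tmul', smul_eq_mul, mul_one]]
    refine Submodule.smul_mem _ c ?_
    have h3 := mem_span_of_map_eq_zero η.2
    generalize (η : Ω[E⁄R]) = ω at h3
    induction h3 using Submodule.span_induction with
    | mem ω h => obtain ⟨s, rfl⟩ := h; exact Submodule.subset_span ⟨s, rfl⟩
    | zero => simp
    | add x y _ _ hx hy => rw [TensorProduct.tmul_add]; exact add_mem hx hy
    | smul e x _ hx =>
      rw [TensorProduct.tmul_smul, ← algebraMap_smul F e]
      exact Submodule.smul_mem _ _ hx

end Groth.EGA41Two
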