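import Groth.Prelude.Def_Exal
import Mathlib.Algebra.Algebra.Subalgebra.Basic
import Mathlib.Algebra.Algebra.Prod
import Mathlib.Algebra.Module.Torsion.Basic
import Mathlib.RingTheory.Smooth.Basic

/-! The extension attached to a map into a quotient by a square-zero ideal. -/

set_option autoImplicit false
universe u v

namespace Groth.EGA41Two

section

variable {A : Type u} {B C : Type v} [CommRing A] [CommRing B] [CommRing C] [Algebra A B] [Algebra A C]
  (J : Ideal C) (hJ : J ^ 2 = ⊥) (f : B →ₐ[A] C ⧸ J)

include hJ in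
theorem mul_eq_zero_of_sq_eq_bot {x y : C} (hx : x ∈ J) (hy : y ∈ J) : x * y = 0 := by
  have : x * y ∈ J ^ 2 := by rw [pow_two]; exact Ideal.mul_mem_mul hx hy
  rwa [hJ, Submodule.mem_bot] at this

include hJ in
theorem isTorsionBySet_of_sq_eq_bot : Module.IsTorsionBySet C J (J : Set C) := by
  intro z x
  exact Subtype.ext (mul_eq_zero_of_sq_eq_bot J hJ x.2 z.2)

/-- A square-zero ideal as a module over an algebra mapping to the quotient. -/
@[implicit_reducible]
noncomputable def sqZeroModule : Module B J :=
  let : Module (C ⧸ J) J := (isTorsionBySet_of_sq_eq_bot J hJ).module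
  Module.compHom J f.toRingHom

theorem sqZeroModule_smul (b : B) (c : C) (hc : Ideal.Quotient.mk J c = f b) (z : J) :
    ((letI := sqZeroModule J hJ f; b • z : J) : C) = c * z := by
  show ((letI := (isTorsionBySet_of_sq_eq_bot J hJ).module; f b • z : J) : C) = _
  rw [← hc]
  rfl

/-- The extension of `B` by the square-zero ideal pulled back along `f`. -/
noncomputable def liftExt : @Exal.Ext A B J _ _ _ _ (sqZeroModule J hJ f) :=
  letI := sqZeroModule J hJ f
  { E := AlgHom.equalizer ((Ideal.Quotient.mkₐ A J).comp (AlgHom.fst A C B)) (f.comp (AlgHom.snd A C B))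
    proj := (AlgHom.snd A C B).comp (Subalgebra.val _)
    incl :=
      { toFun := fun z => ⟨((z : C), 0), by
          show Ideal.Quotient.mk J (z : C) = f 0
          rw [map_zero]; exact Ideal.Quotient.eq_zero_iff_mem.mpr z.2⟩
        map_zero' := rfl
        map_add' := fun z z' => by
          apply Subtype.ext
          show (((z : C) + z'), (0 : B)) = ((z : C) + z', 0 + 0)
          rw [add_zero] }
    isExtension :=
      { proj_surjective := fun b => by
          obtain ⟨c, hc⟩ := Ideal.Quotient.mk_surjective (f b)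
          exact ⟨⟨(c, b), hc⟩, rfl⟩
        incl_injective := fun z z' h => Subtype.ext (congrArg (fun e => e.1.1) h)
        exact := fun x => by
          obtain ⟨⟨c, b⟩, hx⟩ := x
          have hx' : Ideal.Quotient.mk J c = f b := hx
          constructor
          · intro h
            have h' : b = 0 := h
            subst h'
            rw [map_zero, Ideal.Quotient.eq_zero_iff_mem] at hx'
            exact ⟨⟨c, hx'⟩, rfl⟩
          · rintro ⟨z, hz⟩
            exact (congrArg (fun e => e.1.2) hz).symm
        mul_incl := fun x z => by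
          obtain ⟨⟨c, b⟩, hx⟩ := x
          apply Subtype.ext
          show (c * (z : C), b * 0) = (((b • z : J) : C), (0 : B))
          rw [mul_zero, sqZeroModule_smul J hJ f b c hx] } }

theorem exists_lift_of_isTrivial
    (h : @Exal.Ext.IsTrivial A B J _ _ _ _ (sqZeroModule J hJ f) (liftExt J hJ f)) :
    ∃ g : B →ₐ[A] C, (Ideal.Quotient.mkₐ A J).comp g = f := by
  obtain ⟨s, hs⟩ := h
  let s' : B →ₐ[A] AlgHom.equalizer ((Ideal.Quotient.mkₐ A J).comp (AlgHom.fst A C B))
      (f.comp (AlgHom.snd A C B)) := s
  refine ⟨((AlgHom.fst A C B).comp (Subalgebra.val _)).comp s', AlgHom.ext fun b => ?_⟩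
  show Ideal.Quotient.mk J (s' b).1.1 = f b
  exact (s' b).2.trans (congrArg f (hs b))

variable (Λ : Type*) [CommRing Λ] [Algebra Λ A] [Algebra Λ B] [Algebra Λ C]
  [IsScalarTower Λ A B] [IsScalarTower Λ A C]

theorem isTrivialOver_liftExt (u : B →ₐ[Λ] C) (hu : ∀ b, Ideal.Quotient.mk J (u b) = f b) :
    @Exal.Ext.IsTrivialOver A B J _ _ _ _ (sqZeroModule J hJ f) Λ _ _ _ _ (liftExt J hJ f) := by
  let := sqZeroModule J hJ f
  let g : B →+* (liftExt J hJ f).E :=
    { toFun := fun b => ⟨(u b, b), hu b⟩
      map_one' := Subtype.ext (Prod.ext (map_one u) rfl)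
      map_mul' := fun x y => Subtype.ext (Prod.ext (map_mul u x y) rfl)
      map_zero' := Subtype.ext (Prod.ext (map_zero u) rfl)
      map_add' := fun x y => Subtype.ext (Prod.ext (map_add u x y) rfl) }
  refine ⟨{ (g : B →+* (liftExt J hJ f).RestrictCarrier Λ) with commutes' := fun l => ?_ }, fun b => rfl⟩
  refine Subtype.ext (Prod.ext ?_ ?_)
  · show u (algebraMap Λ B l) = algebraMap A C (algebraMap Λ A l)
    rw [AlgHom.commutes, ← IsScalarTower.algebraMap_apply]
  · show algebraMap Λ B l = algebraMap A B (algebraMap Λ A l)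
    rw [← IsScalarTower.algebraMap_apply]

end

theorem isTrivial_of_formallySmooth {A : Type u} {B L : Type v} [CommRing A] [CommRing B] [Algebra A B]
    [AddCommGroup L] [Module B L] [Algebra.FormallySmooth A B] (X : Exal.Ext A B L) : X.IsTrivial := by
  have hp : Function.Surjective X.proj := X.isExtension.proj_surjective
  have hk : IsNilpotent (RingHom.ker X.proj) := by
    refine ⟨2, ?_⟩
    rw [pow_two, Submodule.zero_eq_bot, eq_bot_iff, Ideal.mul_le]
    intro x hx y hy
    obtain ⟨z, rfl⟩ := (X.isExtension.exact x).1 hx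
    obtain ⟨z', rfl⟩ := (X.isExtension.exact y).1 hy
    rw [Submodule.mem_bot, X.isExtension.mul_incl, (X.isExtension.exact _).2 ⟨z, rfl⟩, zero_smul, map_zero]
  exact ⟨Algebra.FormallySmooth.liftOfSurjective (AlgHom.id A B) _ hp hk,
    Algebra.FormallySmooth.liftOfSurjective_apply (AlgHom.id A B) _ hp hk⟩

theorem formallySmooth_of_forall_isTrivial (A B : Type u) [CommRing A] [CommRing B] [Algebra A B]
    (h : ∀ (L : Type u) [AddCommGroup L] [Module B L] (X : Exal.Ext A B L), X.IsTrivial) :
    Algebra.FormallySmooth A B := by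
  refine Algebra.FormallySmooth.of_comp_surjective fun {C} _ _ J hJ f => ?_
  exact exists_lift_of_isTrivial J hJ f (@h J _ (sqZeroModule J hJ f) (liftExt J hJ f))

end Groth.EGA41Two
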