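import Groth.Agent.EGA41Two.DimIntegral
import Mathlib.RingTheory.AdjoinRoot
import Mathlib.RingTheory.MvPolynomial.Basic
import Mathlib.RingTheory.LocalRing.ResidueField.Defs
import Mathlib.RingTheory.IntegralClosure.IsIntegralClosure.Basic
import Mathlib.LinearAlgebra.Dimension.Free

/-! Algebras `A[T_1..T_r]/(f_1(T_1), .., f_r(T_r))` with monic `f_i`. -/

universe u

open MvPolynomial

namespace Groth.EGA41Two.MonicVars

variable {A : Type u} [CommRing A]

/-- The ideal `(f_i(T_i))_i`. -/
noncomputable def relIdeal {ι : Type u} (f : ι → Polynomial A) : Ideal (MvPolynomial ι A) :=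
  Ideal.span (Set.range fun i => Polynomial.aeval (X i : MvPolynomial ι A) (f i))

/-- The ideal `(f_i(T_i))_i` for finitely many variables. -/
noncomputable def finIdeal {r : ℕ} (f : Fin r → Polynomial A) : Ideal (MvPolynomial (Fin r) A) :=
  Ideal.span (Set.range fun i => Polynomial.aeval (X i : MvPolynomial (Fin r) A) (f i))

theorem aeval_eq_zero {r : ℕ} (f : Fin r → Polynomial A) (i : Fin r) :
    Polynomial.aeval (Ideal.Quotient.mk (finIdeal f) (X i)) (f i) = 0 := by
  rw [show Ideal.Quotient.mk (finIdeal f) (X i) = Ideal.Quotient.mkₐ A (finIdeal f) (X i) from rfl,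
    Polynomial.aeval_algHom_apply]
  exact Ideal.Quotient.eq_zero_iff_mem.mpr (Ideal.subset_span ⟨i, rfl⟩)

/-- A hom out of `A[T]/(f_i(T_i))`. -/
noncomputable def homMk {r : ℕ} {C : Type u} [CommRing C] [Algebra A C] (f : Fin r → Polynomial A)
    (x : Fin r → C) (hx : ∀ i, Polynomial.aeval (x i) (f i) = 0) :
    (MvPolynomial (Fin r) A ⧸ finIdeal f) →ₐ[A] C :=
  Ideal.Quotient.liftₐ _ (aeval x) fun a ha => by
    have hle : finIdeal f ≤ RingHom.ker (aeval x : MvPolynomial (Fin r) A →ₐ[A] C).toRingHom := by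
      refine Ideal.span_le.mpr ?_
      rintro _ ⟨i, rfl⟩
      show aeval x (Polynomial.aeval (X i : MvPolynomial (Fin r) A) (f i)) = 0
      rw [← Polynomial.aeval_algHom_apply, aeval_X, hx i]
    exact hle ha

theorem homMk_X {r : ℕ} {C : Type u} [CommRing C] [Algebra A C] (f : Fin r → Polynomial A)
    (x : Fin r → C) (hx : ∀ i, Polynomial.aeval (x i) (f i) = 0) (i : Fin r) :
    homMk f x hx (Ideal.Quotient.mk _ (X i)) = x i := by
  show aeval x (X i) = x i
  rw [aeval_X]

/-- Splitting off the first variable. -/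
noncomputable def consEquiv {r : ℕ} (f : Fin (r + 1) → Polynomial A) :
    (MvPolynomial (Fin (r + 1)) A ⧸ finIdeal f) ≃ₐ[A]
      AdjoinRoot ((f 0).map (algebraMap A (MvPolynomial (Fin r) A ⧸ finIdeal (fun i => f i.succ)))) := by
  let S := MvPolynomial (Fin r) A ⧸ finIdeal (fun i => f i.succ)
  let g := (f 0).map (algebraMap A S)
  let x : Fin (r + 1) → AdjoinRoot g :=
    Fin.cases (AdjoinRoot.root g) fun j => AdjoinRoot.of g (Ideal.Quotient.mk _ (X j))
  have hx : ∀ i, Polynomial.aeval (x i) (f i) = 0 := by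
    intro i
    refine Fin.cases ?_ (fun j => ?_) i
    · show Polynomial.aeval (AdjoinRoot.root g) (f 0) = 0
      have h := AdjoinRoot.eval₂_root g
      rw [Polynomial.eval₂_map] at h
      exact h
    · show Polynomial.aeval (AdjoinRoot.ofAlgHom A g (Ideal.Quotient.mk _ (X j))) (f j.succ) = 0
      rw [Polynomial.aeval_algHom_apply, aeval_eq_zero (fun i => f i.succ) j, map_zero]
  let ρ : S →ₐ[A] (MvPolynomial (Fin (r + 1)) A ⧸ finIdeal f) :=
    homMk _ (fun j => Ideal.Quotient.mk _ (X j.succ)) fun j => aeval_eq_zero f j.succ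
  have hρ0 : g.eval₂ (ρ : S →+* (MvPolynomial (Fin (r + 1)) A ⧸ finIdeal f)) (Ideal.Quotient.mk _ (X 0)) = 0 := by
    rw [Polynomial.eval₂_map]
    have hρ : (ρ : S →+* (MvPolynomial (Fin (r + 1)) A ⧸ finIdeal f)).comp (algebraMap A S) = algebraMap A _ :=
      RingHom.ext ρ.commutes
    rw [hρ]
    exact aeval_eq_zero f 0
  refine AlgEquiv.ofAlgHom (homMk f x hx)
    (AdjoinRoot.liftAlgHom g ρ (Ideal.Quotient.mk _ (X 0)) hρ0) ?_ ?_
  · refine AdjoinRoot.algHom_ext' ?_ ?_
    · refine Ideal.Quotient.algHom_ext A (MvPolynomial.algHom_ext fun j => ?_)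
      show homMk f x hx (AdjoinRoot.liftAlgHom g ρ _ hρ0 (AdjoinRoot.of g (Ideal.Quotient.mk _ (X j)))) =
        AdjoinRoot.of g (Ideal.Quotient.mk _ (X j))
      rw [AdjoinRoot.liftAlgHom_of, homMk_X, homMk_X]
      rfl
    · show homMk f x hx (AdjoinRoot.liftAlgHom g ρ _ hρ0 (AdjoinRoot.root g)) = AdjoinRoot.root g
      rw [AdjoinRoot.liftAlgHom_root, homMk_X]
      rfl
  · refine Ideal.Quotient.algHom_ext A (MvPolynomial.algHom_ext fun i => ?_)
    show AdjoinRoot.liftAlgHom g ρ _ hρ0 (homMk f x hx (Ideal.Quotient.mk _ (X i))) = Ideal.Quotient.mk _ (X i)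
    rw [homMk_X]
    refine Fin.cases ?_ (fun j => ?_) i
    · exact AdjoinRoot.liftAlgHom_root _ _ _ _
    · show AdjoinRoot.liftAlgHom g ρ _ hρ0 (AdjoinRoot.of g (Ideal.Quotient.mk _ (X j))) = _
      rw [AdjoinRoot.liftAlgHom_of, homMk_X]

theorem free_finrank [Nontrivial A] : ∀ {r : ℕ} (f : Fin r → Polynomial A), (∀ i, (f i).Monic) →
    Module.Free A (MvPolynomial (Fin r) A ⧸ finIdeal f) ∧
      Module.finrank A (MvPolynomial (Fin r) A ⧸ finIdeal f) = ∏ i, (f i).natDegree := by
  intro r
  induction r with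
  | zero =>
    intro f _
    have e : (MvPolynomial (Fin 0) A ⧸ finIdeal f) ≃ₐ[A] A :=
      AlgEquiv.ofAlgHom (homMk f Fin.elim0 fun i => i.elim0) (Algebra.ofId A _)
        (AlgHom.ext fun a => (homMk f Fin.elim0 fun i => i.elim0).commutes a)
        (Ideal.Quotient.algHom_ext A (MvPolynomial.algHom_ext fun i => i.elim0))
    exact ⟨Module.Free.of_equiv e.symm.toLinearEquiv, by
      rw [e.toLinearEquiv.finrank_eq, Module.finrank_self, Fin.prod_univ_zero]⟩
  | succ r ih =>
    intro f hf
    obtain ⟨hfree, hrank⟩ := ih (fun i => f i.succ) (fun i => hf _)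
    let S := MvPolynomial (Fin r) A ⧸ finIdeal (fun i => f i.succ)
    rcases subsingleton_or_nontrivial S with hS | hS
    · have : Subsingleton (AdjoinRoot ((f 0).map (algebraMap A S))) :=
        (AdjoinRoot.of ((f 0).map (algebraMap A S))).codomain_trivial
      have : Subsingleton (MvPolynomial (Fin (r + 1)) A ⧸ finIdeal f) := (consEquiv f).toEquiv.subsingleton
      refine ⟨Module.Free.of_subsingleton A _, ?_⟩
      have h0 : Module.finrank A S = 0 := Module.finrank_zero_of_subsingleton
      rw [Module.finrank_zero_of_subsingleton, Fin.prod_univ_succ, ← hrank, h0, mul_zero]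
    let g := (f 0).map (algebraMap A S)
    let b := (AdjoinRoot.powerBasis' ((hf 0).map (algebraMap A S))).basis
    have : Module.Free S (AdjoinRoot g) := Module.Free.of_basis b
    have : Module.Free A (AdjoinRoot g) := Module.Free.trans (R := A) (S := S) (M := AdjoinRoot g)
    refine ⟨Module.Free.of_equiv (consEquiv f).symm.toLinearEquiv, ?_⟩
    rw [(consEquiv f).toLinearEquiv.finrank_eq, ← Module.finrank_mul_finrank A S (AdjoinRoot g),
      Module.finrank_eq_card_basis b, Fintype.card_fin, hrank, Fin.prod_univ_succ, mul_comm]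
    congr 1
    exact (hf 0).natDegree_map _

theorem integral {r : ℕ} (f : Fin r → Polynomial A) (hf : ∀ i, (f i).Monic) :
    Algebra.IsIntegral A (MvPolynomial (Fin r) A ⧸ finIdeal f) := by
  refine ⟨fun y => ?_⟩
  obtain ⟨p, rfl⟩ := Ideal.Quotient.mk_surjective y
  induction p using MvPolynomial.induction_on with
  | C a => exact isIntegral_algebraMap (x := a)
  | add p q hp hq => rw [map_add]; exact hp.add hq
  | mul_X p i hp =>
    rw [map_mul]
    exact hp.mul ⟨f i, hf i, aeval_eq_zero f i⟩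


section Local

open IsLocalRing

variable [IsLocalRing A] {r : ℕ}

/-- The ideal generated by the maximal ideal and the variables. -/
noncomputable def maxIdeal (f : Fin r → Polynomial A) : Ideal (MvPolynomial (Fin r) A ⧸ finIdeal f) :=
  (maximalIdeal A).map (algebraMap A _) ⊔ Ideal.span (Set.range fun i => Ideal.Quotient.mk _ (X i))

theorem exists_sub_algebraMap_mem (f : Fin r → Polynomial A) (y : MvPolynomial (Fin r) A ⧸ finIdeal f) :
    ∃ a : A, y - algebraMap A _ a ∈ Ideal.span (Set.range fun i => Ideal.Quotient.mk (finIdeal f) (X i)) := by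
  obtain ⟨p, rfl⟩ := Ideal.Quotient.mk_surjective y
  induction p using MvPolynomial.induction_on with
  | C a => exact ⟨a, by rw [show Ideal.Quotient.mk (finIdeal f) (C a) = algebraMap A _ a from rfl, sub_self]; exact zero_mem _⟩
  | add p q hp hq =>
    obtain ⟨a, ha⟩ := hp
    obtain ⟨b, hb⟩ := hq
    exact ⟨a + b, by rw [map_add, map_add, add_sub_add_comm]; exact add_mem ha hb⟩
  | mul_X p i _ =>
    exact ⟨0, by rw [map_zero, sub_zero, map_mul]; exact Ideal.mul_mem_left _ _ (Ideal.subset_span ⟨i, rfl⟩)⟩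

/-- Reduction to the residue field. -/
noncomputable def toResidue (f : Fin r → Polynomial A) (h0 : ∀ i, (f i).coeff 0 ∈ maximalIdeal A) :
    (MvPolynomial (Fin r) A ⧸ finIdeal f) →ₐ[A] ResidueField A :=
  homMk f 0 fun i => by
    rw [Pi.zero_apply, ← map_zero (algebraMap A (ResidueField A)), Polynomial.aeval_algebraMap_apply_eq_algebraMap_eval,
      ← Polynomial.coeff_zero_eq_eval_zero, show algebraMap A (ResidueField A) ((f i).coeff 0) = 0 from
        (residue_eq_zero_iff _).mpr (h0 i), map_zero]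

theorem ker_toResidue (f : Fin r → Polynomial A) (h0 : ∀ i, (f i).coeff 0 ∈ maximalIdeal A) :
    RingHom.ker (toResidue f h0).toRingHom = maxIdeal f := by
  have hT : ∀ y ∈ Ideal.span (Set.range fun i => Ideal.Quotient.mk (finIdeal f) (X i)), toResidue f h0 y = 0 := by
    intro y hy
    have hle : Ideal.span (Set.range fun i => Ideal.Quotient.mk (finIdeal f) (X i)) ≤
        RingHom.ker (toResidue f h0).toRingHom := by
      refine Ideal.span_le.mpr ?_
      rintro _ ⟨i, rfl⟩
      exact homMk_X _ _ _ i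
    exact hle hy
  refine le_antisymm (fun y hy => ?_) (sup_le ?_ fun y hy => hT y hy)
  · obtain ⟨a, ha⟩ := exists_sub_algebraMap_mem f y
    have h := hT _ ha
    rw [map_sub, show toResidue f h0 y = 0 from hy, AlgHom.commutes, zero_sub, neg_eq_zero] at h
    have := add_mem (Ideal.mem_sup_right ha : y - algebraMap A _ a ∈ maxIdeal f)
      (Ideal.mem_sup_left (Ideal.mem_map_of_mem _ ((residue_eq_zero_iff a).mp h)) : algebraMap A _ a ∈ maxIdeal f)
    rwa [sub_add_cancel] at this
  · rw [Ideal.map_le_iff_le_comap]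
    intro a ha
    show toResidue f h0 (algebraMap A _ a) = 0
    rw [AlgHom.commutes]
    exact (residue_eq_zero_iff a).mpr ha

theorem surjective_toResidue (f : Fin r → Polynomial A) (h0 : ∀ i, (f i).coeff 0 ∈ maximalIdeal A) :
    Function.Surjective (toResidue f h0) := fun z => by
  obtain ⟨a, rfl⟩ := residue_surjective z
  exact ⟨algebraMap A _ a, (toResidue f h0).commutes a⟩

variable (f : Fin r → Polynomial A) (hmon : ∀ i, (f i).Monic) (d : Fin r → ℕ) (hd : ∀ i, 0 < d i)
  (hres : ∀ i, (f i).map (residue A) = Polynomial.X ^ d i)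

include hres in
theorem coeff_mem {i : Fin r} {k : ℕ} (hk : k ≠ d i) : (f i).coeff k ∈ maximalIdeal A := by
  rw [← residue_eq_zero_iff, ← Polynomial.coeff_map, hres, Polynomial.coeff_X_pow, if_neg hk]

include hmon hd hres in
theorem eq_maxIdeal (M : Ideal (MvPolynomial (Fin r) A ⧸ finIdeal f)) (hM : M.IsMaximal) :
    M = maxIdeal f := by
  have := integral f hmon
  have h0 : ∀ i, (f i).coeff 0 ∈ maximalIdeal A := fun i => coeff_mem f d hres (hd i).ne
  have hmax : (maxIdeal f).IsMaximal := ker_toResidue f h0 ▸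
    RingHom.ker_isMaximal_of_surjective _ (surjective_toResidue f h0)
  refine (hmax.eq_of_le hM.ne_top (sup_le ?_ (Ideal.span_le.mpr ?_))).symm
  · rw [Ideal.map_le_iff_le_comap]
    exact (IsLocalRing.eq_maximalIdeal (Ideal.isMaximal_comap_of_isIntegral_of_isMaximal M)).ge
  · rintro _ ⟨i, rfl⟩
    set q : A →+* (MvPolynomial (Fin r) A ⧸ finIdeal f) ⧸ M := (Ideal.Quotient.mk M).comp (algebraMap A _) with hq
    have hm : ∀ a ∈ maximalIdeal A, q a = 0 := fun a ha => by
      rw [hq, RingHom.comp_apply, Ideal.Quotient.eq_zero_iff_mem]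
      have := (IsLocalRing.eq_maximalIdeal (Ideal.isMaximal_comap_of_isIntegral_of_isMaximal (R := A) M)).ge ha
      exact this
    have hfq : (f i).map q = Polynomial.X ^ d i := by
      ext k
      rw [Polynomial.coeff_map, Polynomial.coeff_X_pow]
      split_ifs with hk
      · have h1 : (f i).coeff k - 1 ∈ maximalIdeal A := by
          rw [← residue_eq_zero_iff, map_sub, ← Polynomial.coeff_map, hres, hk, Polynomial.coeff_X_pow_self,
            map_one, sub_self]
        have h2 := hm _ h1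
        rw [map_sub, map_one, sub_eq_zero] at h2
        exact h2
      · exact hm _ (coeff_mem f d hres hk)
    have h := congrArg (Ideal.Quotient.mk M) (aeval_eq_zero f i)
    rw [Polynomial.aeval_def, Polynomial.hom_eval₂, ← hq, map_zero, ← Polynomial.eval_map, hfq,
      Polynomial.eval_X_pow, ← map_pow] at h
    exact hM.isPrime.mem_of_pow_mem (d i) (Ideal.Quotient.eq_zero_iff_mem.mp h)

include hmon hd hres in
theorem isLocalRing : IsLocalRing (MvPolynomial (Fin r) A ⧸ finIdeal f) := by
  have h0 : ∀ i, (f i).coeff 0 ∈ maximalIdeal A := fun i => coeff_mem f d hres (hd i).ne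
  have hmax : (maxIdeal f).IsMaximal := ker_toResidue f h0 ▸
    RingHom.ker_isMaximal_of_surjective _ (surjective_toResidue f h0)
  exact IsLocalRing.of_unique_max_ideal ⟨maxIdeal f, hmax, fun M hM => eq_maxIdeal f hmon d hd hres M hM⟩

include hmon hd hres in
theorem maximalIdeal_eq [IsLocalRing (MvPolynomial (Fin r) A ⧸ finIdeal f)] :
    maximalIdeal (MvPolynomial (Fin r) A ⧸ finIdeal f) = maxIdeal f :=
  eq_maxIdeal f hmon d hd hres _ (maximalIdeal.isMaximal _)

include hmon hd hres in
theorem surjective_mk_comp (M : Ideal (MvPolynomial (Fin r) A ⧸ finIdeal f)) (hM : M.IsMaximal) :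
    Function.Surjective ((Ideal.Quotient.mk M).comp (algebraMap A _)) := by
  rw [eq_maxIdeal f hmon d hd hres M hM]
  intro z
  obtain ⟨y, rfl⟩ := Ideal.Quotient.mk_surjective z
  obtain ⟨a, ha⟩ := exists_sub_algebraMap_mem f y
  exact ⟨a, (Ideal.Quotient.eq.mpr (Ideal.mem_sup_right ha)).symm⟩

include hmon hres in
theorem coeff_zero_mem_sq (hd2 : ∀ i, 2 ≤ d i) (i : Fin r) :
    algebraMap A (MvPolynomial (Fin r) A ⧸ finIdeal f) ((f i).coeff 0) ∈ maxIdeal f ^ 2 := by
  have hT : Ideal.Quotient.mk (finIdeal f) (X i) ∈ maxIdeal f := Ideal.mem_sup_right (Ideal.subset_span ⟨i, rfl⟩)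
  have h := aeval_eq_zero f i
  rw [Polynomial.aeval_eq_sum_range, Finset.sum_range_succ', pow_zero, ← Algebra.algebraMap_eq_smul_one,
    add_eq_zero_iff_eq_neg'] at h
  rw [h]
  refine neg_mem (Ideal.sum_mem _ fun k _ => ?_)
  rcases Nat.eq_zero_or_pos k with rfl | hk
  · rw [zero_add, pow_one, Algebra.smul_def, pow_two]
    exact Ideal.mul_mem_mul (Ideal.mem_sup_left (Ideal.mem_map_of_mem _
      (coeff_mem f d hres (by have := hd2 i; omega)))) hT
  · rw [Algebra.smul_def]
    exact Ideal.mul_mem_left _ _ (Ideal.pow_le_pow_right (by omega) (Ideal.pow_mem_pow hT (k + 1)))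

end Local

section Coeff

open IsLocalRing

/-- `X^d + Σ_{k<d} c_k X^k`. -/
noncomputable def monicPoly (d : ℕ) (c : ℕ → A) : Polynomial A :=
  Polynomial.X ^ d + (Finset.range d).sum fun k => Polynomial.C (c k) * Polynomial.X ^ k

theorem monic_monicPoly (d : ℕ) (c : ℕ → A) : (monicPoly d c).Monic := by
  refine Polynomial.monic_X_pow_add ?_
  refine lt_of_le_of_lt (Polynomial.degree_sum_le _ _) ((Finset.sup_lt_iff (WithBot.bot_lt_coe _)).mpr ?_)
  intro k hk
  exact lt_of_le_of_lt (Polynomial.degree_C_mul_X_pow_le k (c k)) (WithBot.coe_lt_coe.mpr (Finset.mem_range.mp hk))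

theorem coeff_zero_monicPoly {d : ℕ} (hd : 0 < d) (c : ℕ → A) : (monicPoly d c).coeff 0 = c 0 := by
  rw [monicPoly, Polynomial.coeff_add, Polynomial.coeff_X_pow, if_neg hd.ne, zero_add,
    Polynomial.finsetSum_coeff, Finset.sum_eq_single 0]
  · simp
  · intro k _ hk
    rw [Polynomial.coeff_C_mul, Polynomial.coeff_X_pow, if_neg (Ne.symm hk), mul_zero]
  · intro h
    exact absurd (Finset.mem_range.mpr hd) h

theorem map_monicPoly [IsLocalRing A] (d : ℕ) (c : ℕ → A) (hc : ∀ k, c k ∈ maximalIdeal A) :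
    (monicPoly d c).map (residue A) = Polynomial.X ^ d := by
  rw [monicPoly, Polynomial.map_add, Polynomial.map_pow, Polynomial.map_X, Polynomial.map_sum]
  simp [(residue_eq_zero_iff _).mpr (hc _)]

theorem finIdeal_monicPoly {r : ℕ} (d : Fin r → ℕ) (c : Fin r → ℕ → A) :
    finIdeal (fun i => monicPoly (d i) (c i)) = Ideal.span (Set.range fun i : Fin r =>
      (MvPolynomial.X i ^ d i +
        (Finset.range (d i)).sum fun k => MvPolynomial.C (c i k) * MvPolynomial.X i ^ k : MvPolynomial (Fin r) A)) := by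
  rw [finIdeal]
  congr 2
  funext i
  simp [monicPoly, map_sum]

end Coeff

end Groth.EGA41Two.MonicVars
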