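import Groth.Prelude.Def_EGA41
import Mathlib.FieldTheory.IsAlgClosed.AlgebraicClosure
import Mathlib.Algebra.MvPolynomial.Basic
import Mathlib.Algebra.CharP.Lemmas
import Mathlib.RingTheory.Ideal.Quotient.Operations
import Mathlib.FieldTheory.Perfect

/-! Adjoining `p`-th roots of a `p`-independent family gives a field. -/

universe u

open MvPolynomial

namespace Groth.EGA41Two

variable {K : Type u} [Field K] (p : ℕ) [Fact p.Prime] [CharP K p] {ι : Type u}

/-- The relations `T_i^p = a_i`. -/
noncomputable def pRootIdeal (a : ι → K) : Ideal (MvPolynomial ι K) :=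
  Ideal.span (Set.range fun i => (X i : MvPolynomial ι K) ^ p - C (a i))

theorem pRootIdeal_ne_top (a : ι → K) : pRootIdeal p a ≠ ⊤ := by
  choose z hz using fun i => IsAlgClosed.exists_pow_nat_eq (algebraMap K (AlgebraicClosure K) (a i))
    (Fact.out : p.Prime).pos
  intro h
  have hle : pRootIdeal p a ≤ RingHom.ker (aeval z : MvPolynomial ι K →ₐ[K] AlgebraicClosure K).toRingHom := by
    refine Ideal.span_le.mpr ?_
    rintro _ ⟨i, rfl⟩
    show aeval z ((X i : MvPolynomial ι K) ^ p - C (a i)) = 0
    rw [map_sub, map_pow, aeval_X, aeval_C, hz, sub_self]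
  exact one_ne_zero ((map_one (aeval z : MvPolynomial ι K →ₐ[K] AlgebraicClosure K)).symm.trans (hle (h ▸ Submodule.mem_top)))

theorem exists_reduced_repr (a : ι → K) (P : MvPolynomial ι K) :
    ∃ c : {e : ι →₀ ℕ // ∀ i, e i < p} →₀ K,
      Ideal.Quotient.mk (pRootIdeal p a) P =
        c.sum fun e r => Ideal.Quotient.mk (pRootIdeal p a) (monomial e.1 r) := by
  classical
  set π := Ideal.Quotient.mkₐ K (pRootIdeal p a) with hπ
  let S : Submodule K (MvPolynomial ι K ⧸ pRootIdeal p a) :=
    Submodule.span K (Set.range fun e : {e : ι →₀ ℕ // ∀ i, e i < p} => π (monomial e.1 1))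
  have hX : ∀ (i : ι) (y : MvPolynomial ι K ⧸ pRootIdeal p a), y ∈ S → y * π (X i) ∈ S := by
    intro i y hy
    induction hy using Submodule.span_induction with
    | mem y hy =>
      obtain ⟨⟨e, he⟩, rfl⟩ := hy
      rw [← map_mul, show monomial e (1 : K) * X i = monomial (e + Finsupp.single i 1) 1 by
        rw [monomial_add_single, pow_one]]
      by_cases h : e i + 1 < p
      · refine Submodule.subset_span ⟨⟨e + Finsupp.single i 1, fun j => ?_⟩, rfl⟩
        rw [Finsupp.add_apply, Finsupp.single_apply]
        split_ifs with hij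
        · exact hij ▸ h
        · simpa using he j
      · have hep : e i + 1 = p := le_antisymm (he i) (not_lt.mp h)
        have hdec : monomial (e + Finsupp.single i 1) (1 : K) = monomial (e.erase i) 1 * (X i : MvPolynomial ι K) ^ p := by
          rw [← monomial_add_single]
          rw [show e + Finsupp.single i 1 = e.erase i + Finsupp.single i p from Finsupp.ext fun j => by
            rw [Finsupp.add_apply, Finsupp.add_apply, Finsupp.erase_apply, Finsupp.single_apply, Finsupp.single_apply]
            rcases eq_or_ne i j with rfl | hij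
            · simp [hep]
            · simp [hij, Ne.symm hij]]
        rw [hdec, map_mul, map_pow]
        have hpow : π (X i) ^ p = algebraMap K _ (a i) := by
          rw [← map_pow, ← sub_eq_zero, ← π.commutes, ← map_sub]
          exact Ideal.Quotient.eq_zero_iff_mem.mpr (Ideal.subset_span ⟨i, rfl⟩)
        rw [hpow, ← Algebra.commutes, ← Algebra.smul_def]
        refine Submodule.smul_mem _ _ (Submodule.subset_span ⟨⟨e.erase i, fun j => ?_⟩, rfl⟩)
        rw [Finsupp.erase_apply]
        split_ifs
        · exact (Fact.out : p.Prime).pos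
        · exact he j
    | zero => rw [zero_mul]; exact zero_mem _
    | add y z _ _ hy hz => rw [add_mul]; exact add_mem hy hz
    | smul r y _ hy => rw [smul_mul_assoc]; exact Submodule.smul_mem _ _ hy
  have hS : π P ∈ S := by
    induction P using MvPolynomial.induction_on with
    | C r =>
      rw [show (C r : MvPolynomial ι K) = r • monomial (0 : ι →₀ ℕ) (1 : K) by rw [smul_monomial, smul_eq_mul, mul_one]; rfl, map_smul]
      exact Submodule.smul_mem _ _ (Submodule.subset_span ⟨⟨0, fun i => (Fact.out : p.Prime).pos⟩, rfl⟩)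
    | add P Q hP hQ => rw [map_add]; exact add_mem hP hQ
    | mul_X P i hP => rw [map_mul]; exact hX i _ hP
  obtain ⟨c, hc⟩ := Finsupp.mem_span_range_iff_exists_finsupp.mp hS
  refine ⟨c, hc.symm.trans (Finsupp.sum_congr fun e _ => ?_)⟩
  rw [← map_smul, smul_monomial, smul_eq_mul, mul_one]
  rfl

/-- `K[T]/(T^p - a)` is a field for `p`-independent `a`. -/
theorem pRootIdeal_isMaximal (a : ι → K)
    (hind : LinearIndependent (↥(frobenius K p).fieldRange)
      (fun e : {e : ι →₀ ℕ // ∀ i, e i < p} => EGA41.pMonomial a e.1)) :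
    (pRootIdeal p a).IsMaximal := by
  classical
  refine Ideal.Quotient.maximal_of_isField _ ⟨?_, mul_comm, fun {y} hy => ?_⟩
  · have := Ideal.Quotient.nontrivial_iff.mpr (pRootIdeal_ne_top p a)
    exact exists_pair_ne _
  obtain ⟨P, rfl⟩ := Ideal.Quotient.mk_surjective y
  obtain ⟨c, hc⟩ := exists_reduced_repr p a P
  have hX : ∀ i, Ideal.Quotient.mk (pRootIdeal p a) (X i) ^ p = Ideal.Quotient.mk _ (C (a i)) := fun i => by
    rw [← map_pow, Ideal.Quotient.eq]
    exact Ideal.subset_span ⟨i, rfl⟩
  have hpow : Ideal.Quotient.mk (pRootIdeal p a) P ^ p =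
      Ideal.Quotient.mk _ (C (c.sum fun e r => r ^ p * EGA41.pMonomial a e.1)) := by
    rw [hc, Finsupp.sum, ← map_sum, ← map_pow, sum_pow_char p, map_sum, Finsupp.sum, map_sum, map_sum]
    refine Finset.sum_congr rfl fun e _ => ?_
    rw [monomial_eq, mul_pow, ← map_pow, map_mul, map_mul, map_mul]
    congr 1
    simp only [EGA41.pMonomial, Finsupp.prod, map_prod, map_pow, ← Finset.prod_pow]
    exact Finset.prod_congr rfl fun i _ => by rw [← pow_mul, mul_comm, pow_mul, hX]
  have hne : (c.sum fun e r => r ^ p * EGA41.pMonomial a e.1) ≠ 0 := by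
    intro h0
    have hz := linearIndependent_iff'.mp hind c.support
      (fun e => ⟨c e ^ p, ⟨c e, rfl⟩⟩) (by
        rw [← h0]
        exact Finset.sum_congr rfl fun e _ => rfl)
    apply hy
    rw [hc]
    refine Finset.sum_eq_zero fun e he => ?_
    have h1 : c e ^ p = 0 := congrArg Subtype.val (hz e he)
    exact absurd ((pow_eq_zero_iff (Fact.out : p.Prime).ne_zero).mp h1) (Finsupp.mem_support_iff.mp he)
  have hu : IsUnit (Ideal.Quotient.mk (pRootIdeal p a) P) := by
    rw [← isUnit_pow_iff (Fact.out : p.Prime).ne_zero, hpow]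
    exact (((Ne.isUnit hne).map C).map _)
  exact hu.exists_right_inv

end Groth.EGA41Two
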